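import Mathlib
import Cfsg.Agent.Solvable.PGroupBasic

/-!
Normal p-subgroups whose abelian subgroups normal in the whole group are central in them.
-/

set_option autoImplicit false
set_option linter.style.haveILetI false

namespace CfsgLib.GrossTwo

open Subgroup
open scoped commutatorElement

variable {G : Type*} [Group G]

/-- Powers in a commutator that commutes with the first entry. -/
theorem comm_pow_left {a b : G} (h : Commute (a * b * a⁻¹ * b⁻¹) a) :
    ∀ m : ℕ, a ^ m * b * (a ^ m)⁻¹ * b⁻¹ = (a * b * a⁻¹ * b⁻¹) ^ m := by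
  intro m
  induction m with
  | zero => simp
  | succ m ih =>
    set c := a * b * a⁻¹ * b⁻¹ with hc
    have h1 : a ^ (m + 1) * b * (a ^ (m + 1))⁻¹ * b⁻¹ = a ^ m * c * b * (a ^ m)⁻¹ * b⁻¹ := by
      rw [hc, pow_succ]; group
    rw [h1, ((h.pow_right m).symm).eq, pow_succ' c, ← ih]
    simp only [mul_assoc]

/-- A normal p-subgroup whose abelian subgroups normal in the group are central in it has class at
most two, commutators of order dividing `p`, and central `p`th powers. -/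
theorem classTwo {p : ℕ} [hp : Fact p.Prime] [Finite G] (R : Subgroup G) [R.Normal]
    (hR : IsPGroup p R)
    (hA : ∀ A : Subgroup G, A.Normal → A ≤ R → (∀ a ∈ A, ∀ b ∈ A, a * b = b * a) →
      ∀ a ∈ A, ∀ r ∈ R, a * r = r * a)
    {a b : G} (ha : a ∈ R) (hb : b ∈ R) :
    (∀ c ∈ R, Commute (a * b * a⁻¹ * b⁻¹) c) ∧ (a * b * a⁻¹ * b⁻¹) ^ p = 1 ∧
      Commute (a ^ p) b := by
  classical
  set Z := R ⊓ centralizer (R : Set G) with hZ
  have hZc : ∀ z ∈ Z, ∀ r ∈ R, Commute z r := fun z hz r hr =>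
    (mem_centralizer_iff.1 hz.2 r hr).symm
  set f := QuotientGroup.mk' Z with hf
  haveI hQn : (R.map f).Normal :=
    Subgroup.Normal.map inferInstance f (QuotientGroup.mk'_surjective Z)
  set Z2 := R ⊓ (centralizer (R.map f : Set (G ⧸ Z))).comap f with hZ2
  haveI : Z2.Normal := by rw [hZ2]; infer_instance
  have h21 : ⁅Z2, R⁆ ≤ Z := commutator_le.2 fun x hx r hr => by
    refine (QuotientGroup.eq_one_iff _).1 ?_
    show f ⁅x, r⁆ = 1
    rw [map_commutatorElement, commutatorElement_eq_one_iff_mul_comm]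
    exact (mem_centralizer_iff.1 hx.2 (f r) ⟨r, hr, rfl⟩).symm
  have h3 : ⁅⁅Z2, R⁆, R⁆ = ⊥ :=
    commutator_eq_bot_iff_le_centralizer.2 (h21.trans inf_le_right)
  have hR' : ⁅R, R⁆ ≤ Z := by
    have hle : ⁅R, R⁆ ≤ R := commutator_le_left R R
    have hd : ⁅⁅R, R⁆, Z2⁆ = ⊥ := Subgroup.commutator_commutator_eq_bot_of_rotate
      (by rw [commutator_comm R Z2, h3]) (by rw [h3])
    have hA' : ⁅R, R⁆ ⊓ Z2 ≤ Z := fun x hx => ⟨hle hx.1, mem_centralizer_iff.2 fun r hr =>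
      (hA (⁅R, R⁆ ⊓ Z2) inferInstance (inf_le_left.trans hle) (fun u hu v hv =>
        (mem_centralizer_iff.1 (commutator_eq_bot_iff_le_centralizer.1 hd hu.1) v hv.2).symm)
        x hx r hr).symm⟩
    by_contra hne
    haveI : Group.IsNilpotent (R.map f) := (hR.map f).isNilpotent
    haveI : (⁅R, R⁆.map f).Normal :=
      Subgroup.Normal.map inferInstance f (QuotientGroup.mk'_surjective Z)
    set N := (⁅R, R⁆.map f).subgroupOf (R.map f) with hN
    have hN0 : N ≠ ⊥ := fun h0 => hne fun x hx => by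
      have : (⟨f x, ⟨x, hle hx, rfl⟩⟩ : R.map f) ∈ N := mem_subgroupOf.2 ⟨x, hx, rfl⟩
      rw [h0, mem_bot] at this
      exact (QuotientGroup.eq_one_iff x).1 (congrArg Subtype.val this)
    obtain ⟨y, hy, hy1⟩ := (bot_or_exists_ne_one _).resolve_left
      (CfsgLib.PGroupBasic.inf_center_ne_bot N hN0)
    obtain ⟨x, hx, hxy⟩ := mem_subgroupOf.1 hy.1
    refine hy1 (Subtype.ext ?_)
    rw [← hxy]
    refine (QuotientGroup.eq_one_iff x).2 (hA' ⟨hx, hle hx, mem_centralizer_iff.2 fun u hu => ?_⟩)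
    rw [hxy]
    exact congrArg Subtype.val (mem_center_iff.1 hy.2 ⟨u, hu⟩)
  have hc : ∀ x ∈ R, ∀ y ∈ R, ∀ c ∈ R, Commute (x * y * x⁻¹ * y⁻¹) c := fun x hx y hy =>
    hZc _ (hR' (commutator_mem_commutator hx hy))
  have hpw : ∀ x ∈ R, ∀ y ∈ R, ∀ m : ℕ,
      x ^ m * y * (x ^ m)⁻¹ * y⁻¹ = (x * y * x⁻¹ * y⁻¹) ^ m := fun x hx y hy =>
    comm_pow_left (hc x hx y hy x hx)
  have hpw2 : ∀ x ∈ R, ∀ y ∈ R, ∀ m : ℕ,
      x * y ^ m * x⁻¹ * (y ^ m)⁻¹ = (x * y * x⁻¹ * y⁻¹) ^ m := fun x hx y hy m => by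
    rw [show x * y ^ m * x⁻¹ * (y ^ m)⁻¹ = (y ^ m * x * (y ^ m)⁻¹ * x⁻¹)⁻¹ by group,
      hpw y hy x hx m, ← inv_pow]
    congr 1
    group
  obtain ⟨j, hj⟩ := IsPGroup.iff_card.1 hR
  have hex : ∃ k : ℕ, ∀ x ∈ R, x ^ p ^ k ∈ Z := ⟨j, fun x hx => by
    have : (⟨x, hx⟩ : R) ^ p ^ j = 1 := hj ▸ pow_card_eq_one'
    rw [show x ^ p ^ j = 1 from congrArg Subtype.val this]
    exact one_mem Z⟩
  set k := Nat.find hex with hkdef
  have hk : ∀ x ∈ R, x ^ p ^ k ∈ Z := Nat.find_spec hex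
  have hkc : ∀ x ∈ R, ∀ y ∈ R, (x * y * x⁻¹ * y⁻¹) ^ p ^ k = 1 := fun x hx y hy => by
    rw [← hpw x hx y hy, mul_inv_eq_one, mul_inv_eq_iff_eq_mul]
    exact (hZc _ (hk x hx) y hy).eq
  have hk1 : k ≤ 1 := by
    by_contra h2
    set A := closure {g | ∃ x ∈ R, x ^ p ^ (k - 1) = g} with hAdef
    have hAn : A.Normal := by
      refine ⟨fun u hu g => ?_⟩
      induction hu using closure_induction with
      | mem v hv =>
        obtain ⟨x, hx, rfl⟩ := hv
        exact subset_closure ⟨g * x * g⁻¹, Subgroup.Normal.conj_mem inferInstance x hx g,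
          by rw [conj_pow]⟩
      | one => rw [mul_one, mul_inv_cancel]; exact one_mem _
      | mul v w _ _ ihv ihw =>
        rw [show g * (v * w) * g⁻¹ = (g * v * g⁻¹) * (g * w * g⁻¹) by group]
        exact mul_mem ihv ihw
      | inv v _ ihv => rw [show g * v⁻¹ * g⁻¹ = (g * v * g⁻¹)⁻¹ by group]; exact inv_mem ihv
    have hAR : A ≤ R := (closure_le _).2 (by rintro _ ⟨x, hx, rfl⟩; exact pow_mem hx _)
    have hAc : ∀ u ∈ A, ∀ v ∈ A, u * v = v * u := fun u hu v hv => by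
      have h := closure_le_centralizer_centralizer {g | ∃ x ∈ R, x ^ p ^ (k - 1) = g} hu
      refine (mem_centralizer_iff.1 h v ?_).symm
      intro g ⟨y, hy, hyg⟩
      suffices hs : A ≤ centralizer {g} from (mem_centralizer_iff.1 (hs hv) g rfl)
      refine (closure_le _).2 ?_
      rintro _ ⟨x, hx, rfl⟩
      refine mem_centralizer_iff.2 fun g' hg' => ?_
      rw [Set.mem_singleton_iff.1 hg', ← hyg]
      have h1 : x ^ p ^ (k - 1) * y ^ p ^ (k - 1) * (x ^ p ^ (k - 1))⁻¹ * (y ^ p ^ (k - 1))⁻¹ = 1 := by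
        rw [hpw x hx _ (pow_mem hy _), hpw2 x hx y hy, ← pow_mul, ← pow_add,
          show k - 1 + (k - 1) = k + (k - 2) by omega, pow_add, pow_mul, hkc x hx y hy, one_pow]
      rw [mul_inv_eq_one, mul_inv_eq_iff_eq_mul] at h1
      exact h1.symm
    have hAZ : A ≤ Z := fun u hu => ⟨hAR hu, mem_centralizer_iff.2 fun r hr =>
      (hA A hAn hAR hAc u hu r hr).symm⟩
    exact Nat.find_min hex (show k - 1 < Nat.find hex by omega)
      fun x hx => hAZ (subset_closure ⟨x, hx, rfl⟩)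
  have hp1 : ∀ x ∈ R, ∀ y ∈ R, (x * y * x⁻¹ * y⁻¹) ^ p = 1 := fun x hx y hy => by
    have : p ^ k ∣ p := (pow_dvd_pow p hk1).trans (by rw [pow_one])
    obtain ⟨t, ht⟩ := this
    rw [ht, pow_mul, hkc x hx y hy, one_pow]
  refine ⟨hc a ha b hb, hp1 a ha b hb, ?_⟩
  have h1 := hpw a ha b hb p
  rw [hp1 a ha b hb, mul_inv_eq_one, mul_inv_eq_iff_eq_mul] at h1
  exact h1

end CfsgLib.GrossTwo
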