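import Cfsg.Agent.HallHigman.TheoremB
import Cfsg.Agent.Solvable.Basics
import Cfsg.Agent.FGSA.PLengthSeries
import Cfsg.Prelude.Def_Local

/-!
Subgroups acting trivially on all composition factors, and the subgroup generated by the elements of
odd order of a normal subgroup.
-/

set_option autoImplicit false
set_option linter.style.haveILetI false
set_option linter.unusedSectionVars false

namespace CfsgLib.GrossTwo

open Subgroup
open CfsgLib.HallHigman (subRep subRep_apply subRep_sub_one_pow quotRep quotRep_apply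
  quotRep_sub_one_pow rep_mul)

universe u v w

variable {K : Type w} [Field K] {G : Type u} [Group G]

/-- The representation of the whole group on an invariant subspace. -/
def wholeSub {V : Type v} [AddCommGroup V] [Module K V] (ρ : Representation K G V)
    (W : Submodule K V) (hW : ∀ g : G, ∀ w ∈ W, ρ g w ∈ W) : Representation K G W :=
  (subRep ρ ⊤ W fun g _ w hw => hW g w hw).comp Subgroup.topEquiv.symm.toMonoidHom

theorem wholeSub_apply {V : Type v} [AddCommGroup V] [Module K V] (ρ : Representation K G V)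
    (W : Submodule K V) (hW : ∀ g : G, ∀ w ∈ W, ρ g w ∈ W) (g : G) (w : W) :
    ((wholeSub ρ W hW g w : W) : V) = ρ g w := rfl

theorem wholeSub_sub_one_pow {V : Type v} [AddCommGroup V] [Module K V] (ρ : Representation K G V)
    (W : Submodule K V) (hW : ∀ g : G, ∀ w ∈ W, ρ g w ∈ W) (g : G) (s : ℕ)
    (h : (ρ g - 1) ^ s = 0) : (wholeSub ρ W hW g - 1) ^ s = 0 :=
  LinearMap.ext fun w => Subtype.ext <| by
    refine (subRep_sub_one_pow ρ ⊤ W (fun g _ w hw => hW g w hw) (Subgroup.topEquiv.symm g) s w).trans ?_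
    show ((ρ g - 1) ^ s) (w : V) = _
    rw [h]
    rfl

/-- A subgroup trivial on every composition factor acts as a `p`-group. The property `P` is passed on
to invariant subspaces and to their quotients. -/
theorem pgroup_of_factors {p : ℕ} [CharP K p] (hp : p.Prime) (D : Subgroup G)
    (P : ∀ (V : Type v) [AddCommGroup V] [Module K V], Representation K G V → Prop)
    (hsub : ∀ (V : Type v) [AddCommGroup V] [Module K V] (ρ : Representation K G V)
      (W : Submodule K V) (hW : ∀ g : G, ∀ w ∈ W, ρ g w ∈ W), P V ρ → P W (wholeSub ρ W hW))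
    (hquot : ∀ (V : Type v) [AddCommGroup V] [Module K V] (ρ : Representation K G V)
      (W : Submodule K V) (hW : ∀ g : G, ∀ w ∈ W, ρ g w ∈ W), P V ρ → P (V ⧸ W) (quotRep ρ W hW))
    (hirr : ∀ (V : Type v) [AddCommGroup V] [Module K V] [FiniteDimensional K V] [Nontrivial V]
      (ρ : Representation K G V),
      (∀ W : Submodule K V, (∀ g : G, ∀ w ∈ W, ρ g w ∈ W) → W = ⊥ ∨ W = ⊤) →
      P V ρ → ∀ d ∈ D, ρ d = 1)
    (V : Type v) [AddCommGroup V] [Module K V] [FiniteDimensional K V] (ρ : Representation K G V)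
    (hP : P V ρ) : ∀ d ∈ D, ∃ k : ℕ, ρ (d ^ p ^ k) = 1 := by
  suffices h : ∀ (n : ℕ) (V : Type v) [AddCommGroup V] [Module K V] [FiniteDimensional K V]
      (ρ : Representation K G V), Module.finrank K V = n → P V ρ →
      ∀ d ∈ D, ∃ k : ℕ, ρ (d ^ p ^ k) = 1 from h _ V ρ rfl hP
  intro n
  induction n using Nat.strong_induction_on with
  | _ n ih =>
  intro V _ _ _ ρ hn hP d hd
  rcases subsingleton_or_nontrivial V with hV | hV
  · exact ⟨0, LinearMap.ext fun v => Subsingleton.elim _ _⟩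
  by_cases hi : ∀ W : Submodule K V, (∀ g : G, ∀ w ∈ W, ρ g w ∈ W) → W = ⊥ ∨ W = ⊤
  · exact ⟨0, by rw [pow_zero, pow_one]; exact hirr V ρ hi hP d hd⟩
  push Not at hi
  obtain ⟨W, hW, hW0, hW1⟩ := hi
  obtain ⟨a, ha⟩ := ih (Module.finrank K W) (hn ▸ Submodule.finrank_lt hW1) W (wholeSub ρ W hW) rfl
    (hsub V ρ W hW hP) d hd
  obtain ⟨b, hb⟩ := ih (Module.finrank K (V ⧸ W)) (by
      have h1 := Submodule.finrank_quotient_add_finrank W
      have h2 : 0 < Module.finrank K W :=
        Nat.pos_of_ne_zero fun h => hW0 (Submodule.finrank_eq_zero.1 h)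
      omega) (V ⧸ W) (quotRep ρ W hW) rfl (hquot V ρ W hW hP) d hd
  refine ⟨a + b + 1, ?_⟩
  set c := d ^ p ^ (a + b) with hc
  have hca : wholeSub ρ W hW c = 1 := by
    rw [hc, pow_add, pow_mul, map_pow, ha, one_pow]
  have hcb : quotRep ρ W hW c = 1 := by
    rw [hc, add_comm, pow_add, pow_mul, map_pow, hb, one_pow]
  have h2 : (ρ c - 1) ^ 2 = 0 := LinearMap.ext fun v => by
    have hin : ρ c v - v ∈ W := (Submodule.Quotient.eq W).1 (by
      rw [← quotRep_apply ρ W hW, hcb]; rfl)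
    have h3 : ρ c (ρ c v - v) = ρ c v - v :=
      congrArg Subtype.val (LinearMap.congr_fun hca ⟨_, hin⟩)
    rw [pow_two, Module.End.mul_apply, LinearMap.zero_apply]
    simp only [LinearMap.sub_apply, Module.End.one_apply]
    rw [h3, sub_self]
  haveI : Fact p.Prime := ⟨hp⟩
  haveI : CharP (Module.End K V) p :=
    charP_of_injective_algebraMap (algebraMap K (Module.End K V)).injective p
  have h4 : (ρ c - 1) ^ p = 0 := pow_eq_zero_of_le hp.two_le h2
  rw [sub_pow_char_of_commute p (Commute.one_right (ρ c)), one_pow, sub_eq_zero, ← map_pow] at h4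
  rw [pow_succ, pow_mul]
  exact h4

/-- The subgroup generated by the elements of odd order of `L`. -/
def oddGen (L : Subgroup G) : Subgroup G := closure {g | g ∈ L ∧ Odd (orderOf g)}

/-- The subgroup generated by the `2`-elements of `L`. -/
def twoGen (L : Subgroup G) : Subgroup G := closure {g | g ∈ L ∧ ∃ k : ℕ, g ^ 2 ^ k = 1}

theorem oddGen_le (L : Subgroup G) : oddGen L ≤ L := (closure_le _).2 fun _ h => h.1

theorem twoGen_le (L : Subgroup G) : twoGen L ≤ L := (closure_le _).2 fun _ h => h.1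

theorem closure_normal_of_conj {S : Set G} (hS : ∀ s ∈ S, ∀ g : G, g * s * g⁻¹ ∈ S) :
    (closure S).Normal := by
  refine ⟨fun x hx g => ?_⟩
  induction hx using closure_induction with
  | mem v hv => exact subset_closure (hS v hv g)
  | one => rw [mul_one, mul_inv_cancel]; exact one_mem _
  | mul v w _ _ ihv ihw =>
    rw [show g * (v * w) * g⁻¹ = (g * v * g⁻¹) * (g * w * g⁻¹) by group]; exact mul_mem ihv ihw
  | inv v _ ihv => rw [show g * v⁻¹ * g⁻¹ = (g * v * g⁻¹)⁻¹ by group]; exact inv_mem ihv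

theorem oddGen_normal (L : Subgroup G) [hL : L.Normal] : (oddGen L).Normal :=
  closure_normal_of_conj fun s hs g => ⟨hL.conj_mem s hs.1 g, by
    rw [show g * s * g⁻¹ = MulAut.conj g s from rfl, MulEquiv.orderOf_eq]; exact hs.2⟩

theorem twoGen_normal (L : Subgroup G) [hL : L.Normal] : (twoGen L).Normal :=
  closure_normal_of_conj fun s hs g => ⟨hL.conj_mem s hs.1 g, by
    obtain ⟨k, hk⟩ := hs.2
    exact ⟨k, by rw [conj_pow, hk, mul_one, mul_inv_cancel]⟩⟩

/-- An element of odd order of `O_{2',2}` lies in `O_{2'}`. -/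
theorem mem_pPrimeCore_of_odd [Finite G] {g : G} (hg : g ∈ Cfsg.pPrimePCore 2 G)
    (ho : Odd (orderOf g)) : g ∈ Cfsg.pPrimeCore 2 G := by
  haveI : (Cfsg.pPrimeCore 2 G).Normal := CfsgLib.Solvable.pPrimeCore_normal 2
  haveI : Fact (Nat.Prime 2) := ⟨Nat.prime_two⟩
  have h1 : QuotientGroup.mk' (Cfsg.pPrimeCore 2 G) g ∈ Cfsg.pCore 2 (G ⧸ Cfsg.pPrimeCore 2 G) := hg
  obtain ⟨k, hk⟩ := CfsgLib.Solvable.isPGroup_pCore 2 ⟨_, h1⟩
  have hk' : (QuotientGroup.mk' (Cfsg.pPrimeCore 2 G) g) ^ 2 ^ k = 1 := congrArg Subtype.val hk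
  refine (QuotientGroup.eq_one_iff g).1 ?_
  have h2 : (orderOf g).Coprime (2 ^ k) := ho.coprime_two_right.pow_right k
  have h3 := pow_gcd_eq_one.2 ⟨(show (QuotientGroup.mk' (Cfsg.pPrimeCore 2 G) g) ^ orderOf g = 1 by
    rw [← map_pow, pow_orderOf_eq_one, map_one]), hk'⟩
  rwa [h2.gcd_eq_one, pow_one] at h3

/-- The image of `L` in a quotient of a subgroup containing it: if all generators lie in
`O_{2',2}`, then the `2`-elements of `oddGen L` are trivial. -/
theorem twoGen_oddGen_map_eq_one {H : Type*} [Group H] [Finite H] (f : G →* H) (S : Set G)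
    (hS : ∀ s ∈ S, f s ∈ Cfsg.pPrimePCore 2 H) (L : Subgroup G) (hL : L ≤ closure S) :
    ∀ t ∈ twoGen (oddGen L), f t = 1 := by
  have h1 : L ≤ (Cfsg.pPrimePCore 2 H).comap f := hL.trans ((closure_le _).2 hS)
  have h2 : oddGen L ≤ (Cfsg.pPrimeCore 2 H).comap f := (closure_le _).2 fun g hg =>
    mem_pPrimeCore_of_odd (h1 hg.1) (hg.2.of_dvd_nat (orderOf_map_dvd f g))
  intro t ht
  suffices h : twoGen (oddGen L) ≤ f.ker from h ht
  refine (closure_le _).2 fun g ⟨hg, k, hk⟩ => ?_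
  have hodd : (Nat.card (Cfsg.pPrimeCore 2 H)).Coprime 2 := CfsgLib.Solvable.coprime_card_pPrimeCore 2
  have h3 : (f g) ^ Nat.card (Cfsg.pPrimeCore 2 H) = 1 :=
    congrArg Subtype.val (pow_card_eq_one' (x := (⟨f g, h2 hg⟩ : Cfsg.pPrimeCore 2 H)))
  have h4 := pow_gcd_eq_one.2 ⟨h3, (show (f g) ^ 2 ^ k = 1 by rw [← map_pow, hk, map_one])⟩
  rw [(hodd.pow_right k).gcd_eq_one, pow_one] at h4
  exact h4

/-- If the odd generated part of a normal subgroup has no `2`-elements, the subgroup lies in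
`O_{2',2}`. -/
theorem le_pPrimePCore_of_twoGen [Finite G] (L : Subgroup G) [L.Normal]
    (h : ∀ t ∈ twoGen (oddGen L), t = 1) : L ≤ Cfsg.pPrimePCore 2 G := by
  haveI : Fact (Nat.Prime 2) := ⟨Nat.prime_two⟩
  haveI : (Cfsg.pPrimeCore 2 G).Normal := CfsgLib.Solvable.pPrimeCore_normal 2
  have hodd : (Nat.card (oddGen L)).Coprime 2 := by
    refine ((Nat.Prime.coprime_iff_not_dvd Nat.prime_two).2 fun hd => ?_).symm
    obtain ⟨g, hg⟩ := exists_prime_orderOf_dvd_card' 2 hd
    have := h g (subset_closure ⟨g.2, 1, by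
      rw [pow_one, ← SubgroupClass.coe_pow, ← hg, pow_orderOf_eq_one, OneMemClass.coe_one]⟩)
    have hg1 : g = 1 := Subtype.ext this
    rw [hg1, orderOf_one] at hg
    omega
  have hle : oddGen L ≤ Cfsg.pPrimeCore 2 G :=
    CfsgLib.Solvable.le_pPrimeCore 2 (oddGen_normal L) hodd
  have hp : IsPGroup 2 (L.map (QuotientGroup.mk' (Cfsg.pPrimeCore 2 G))) := by
    rintro ⟨_, g, hg, rfl⟩
    obtain ⟨k, r, hr, hkr⟩ : ∃ k r, ¬ 2 ∣ r ∧ orderOf g = 2 ^ k * r :=
      let ⟨k, r, h1, h2⟩ := Nat.exists_eq_pow_mul_and_not_dvd (orderOf_pos g).ne' 2 (by norm_num)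
      ⟨k, r, h1, h2⟩
    refine ⟨k, Subtype.ext ?_⟩
    show (QuotientGroup.mk' _ g) ^ 2 ^ k = 1
    rw [← map_pow]
    refine (QuotientGroup.eq_one_iff _).2 (hle (subset_closure ⟨pow_mem hg _, ?_⟩))
    rw [orderOf_pow_of_dvd (pow_ne_zero _ two_ne_zero) ⟨r, hkr⟩, hkr,
      Nat.mul_div_cancel_left _ (pow_pos two_pos _)]
    exact Nat.not_even_iff_odd.1 fun he => hr (even_iff_two_dvd.1 he)
  exact Subgroup.map_le_iff_le_comap.1
    (CfsgLib.Solvable.le_pCore 2 (Subgroup.Normal.map inferInstance _ (QuotientGroup.mk'_surjective _)) hp)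

end CfsgLib.GrossTwo
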