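import Cfsg.Agent.HallHigman.Exponent.Linear

/-!
An element whose involution is `-1` on the moved subspace: the splitting and the commutant; orbits
of a permutation of order four.
-/

set_option autoImplicit false
set_option linter.style.haveILetI false
set_option linter.unusedSectionVars false

namespace CfsgLib.GrossTwo

open Finset
open CfsgLib.HHExponent (comm mem_comm)

universe u v w

variable {K : Type w} [Field K] {W : Type v} [AddCommGroup W] [Module K W]

/-- The splitting into fixed and moved vectors. -/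
theorem split [FiniteDimensional K W] {X : Module.End K W} (m : ℕ) (h2 : (2 : K) ≠ 0)
    (hZ : (X ^ m + 1) * (X - 1) = 0) :
    IsCompl (LinearMap.ker (X - 1)) (LinearMap.range (X - 1)) ∧
      (∀ v, (X ^ m) v = v ↔ v ∈ LinearMap.ker (X - 1)) ∧
      (∀ v, (X ^ m) v = -v ↔ v ∈ LinearMap.range (X - 1)) := by
  have hP : ∀ v ∈ LinearMap.ker (X - 1), (X ^ m) v = v := by
    intro v hv
    have hv' : X v = v := by rwa [LinearMap.mem_ker, LinearMap.sub_apply, sub_eq_zero] at hv
    clear hZ
    induction m with
    | zero => rfl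
    | succ m ih => rw [pow_succ, Module.End.mul_apply, hv', ih]
  have hM : ∀ v ∈ LinearMap.range (X - 1), (X ^ m) v = -v := by
    rintro _ ⟨u, rfl⟩
    have := LinearMap.congr_fun hZ u
    rw [Module.End.mul_apply, LinearMap.add_apply, Module.End.one_apply, LinearMap.zero_apply] at this
    exact eq_neg_of_add_eq_zero_left this
  have hdis : ∀ v, (X ^ m) v = v → (X ^ m) v = -v → v = 0 := fun v h1 h3 => by
    rw [h1] at h3
    have : (2 : K) • v = 0 := by rw [two_smul]; nth_rw 1 [h3]; exact neg_add_cancel v
    exact (smul_eq_zero.1 this).resolve_left h2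
  have hd : Disjoint (LinearMap.ker (X - 1)) (LinearMap.range (X - 1)) :=
    Submodule.disjoint_def.2 fun v h1 h3 => hdis v (hP v h1) (hM v h3)
  have hc : IsCompl (LinearMap.ker (X - 1)) (LinearMap.range (X - 1)) := by
    refine ⟨hd, codisjoint_iff.2 (Submodule.eq_top_of_finrank_eq ?_)⟩
    have h3 := Submodule.finrank_sup_add_finrank_inf_eq (LinearMap.ker (X - 1))
      (LinearMap.range (X - 1))
    rw [hd.eq_bot, finrank_bot, add_zero] at h3
    rw [h3, add_comm]
    exact LinearMap.finrank_range_add_finrank_ker _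
  have hdec : ∀ v, ∃ a ∈ LinearMap.ker (X - 1), ∃ b ∈ LinearMap.range (X - 1), a + b = v := fun v =>
    Submodule.mem_sup.1 (hc.sup_eq_top ▸ Submodule.mem_top)
  refine ⟨hc, fun v => ⟨fun hv => ?_, hP v⟩, fun v => ⟨fun hv => ?_, hM v⟩⟩
  · obtain ⟨a, ha, b, hb, rfl⟩ := hdec v
    rw [map_add, hP a ha, hM b hb, add_right_inj] at hv
    have hb0 : b = 0 := hdis b (by rw [hM b hb]; exact hv) (hM b hb)
    rwa [hb0, add_zero]
  · obtain ⟨a, ha, b, hb, rfl⟩ := hdec v
    rw [map_add, hP a ha, hM b hb, neg_add, add_left_inj] at hv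
    have ha0 : a = 0 := hdis a (hP a ha) (by rw [hP a ha]; exact hv)
    rwa [ha0, zero_add]

/-- The commutant of an element that is the identity off a plane. -/
theorem le_finrank_comm [FiniteDimensional K W] {X : Module.End K W}
    (hc : IsCompl (LinearMap.ker (X - 1)) (LinearMap.range (X - 1)))
    (hj : Module.finrank K (LinearMap.range (X - 1)) ≤ 2) :
    Module.finrank K (LinearMap.ker (X - 1)) ^ 2 + Module.finrank K (LinearMap.range (X - 1)) ≤
      Module.finrank K (comm X) := by
  classical
  set P := LinearMap.ker (X - 1)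
  set M := LinearMap.range (X - 1) with hMdef
  set j := Module.finrank K M with hjdef
  have hP : ∀ v ∈ P, X v = v := fun v hv => sub_eq_zero.1 (LinearMap.mem_ker.1 hv)
  have hXM : ∀ v ∈ M, X v ∈ M := by
    rintro _ ⟨u, rfl⟩
    refine ⟨X u, ?_⟩
    simp [map_sub]
  set XM : Module.End K M := X.restrict hXM
  obtain ⟨S, hS, hSj⟩ : ∃ S : Submodule K (Module.End K M), (∀ f ∈ S, Commute f XM) ∧
      j ≤ Module.finrank K S := by
    by_cases hsc : ∃ c : K, XM = c • 1
    · obtain ⟨c, hc'⟩ := hsc
      refine ⟨⊤, fun f _ => hc' ▸ (Commute.one_right f).smul_right c, ?_⟩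
      rw [finrank_top, Module.finrank_linearMap]
      exact Nat.le_mul_self _
    · have hli : LinearIndependent K ![(1 : Module.End K M), XM] := by
        rcases subsingleton_or_nontrivial M with h | h
        · exact absurd ⟨0, LinearMap.ext fun v => Subsingleton.elim _ _⟩ hsc
        refine (LinearIndependent.pair_iff' one_ne_zero).2 fun a ha => hsc ⟨a, ha.symm⟩
      refine ⟨Submodule.span K (Set.range ![(1 : Module.End K M), XM]), fun f hf => ?_, ?_⟩
      · induction hf using Submodule.span_induction with
        | mem f hf =>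
          obtain ⟨i, rfl⟩ := hf
          fin_cases i
          · exact Commute.one_left _
          · exact Commute.refl _
        | zero => exact Commute.zero_left _
        | add a b _ _ ha hb => exact ha.add_left hb
        | smul t a _ ha => exact ha.smul_left t
      · rw [finrank_span_eq_card hli]
        exact le_trans hj (by simp)
  let Φ : (Module.End K P × Module.End K M) →ₗ[K] Module.End K W :=
    { toFun := fun t => LinearMap.ofIsCompl hc (P.subtype ∘ₗ t.1) (M.subtype ∘ₗ t.2)
      map_add' := fun a b => LinearMap.ofIsCompl_eq hc (fun u => by simp) (fun u => by simp)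
      map_smul' := fun c a => LinearMap.ofIsCompl_eq hc (fun u => by simp) (fun u => by simp) }
  have hinj : Function.Injective Φ := by
    intro a b hab
    refine Prod.ext (LinearMap.ext fun u => Subtype.ext ?_) (LinearMap.ext fun u => Subtype.ext ?_)
    · have := LinearMap.congr_fun hab (u : W)
      simpa [Φ] using this
    · have := LinearMap.congr_fun hab (u : W)
      simpa [Φ] using this
  have hle : Submodule.map Φ (Submodule.prod ⊤ S) ≤ comm X := by
    rintro _ ⟨⟨A, B⟩, ⟨-, hB⟩, rfl⟩
    refine mem_comm.2 (LinearMap.ext fun v => ?_)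
    obtain ⟨a, ha, b, hb, rfl⟩ := Submodule.mem_sup.1 (hc.sup_eq_top ▸ Submodule.mem_top (x := v))
    have e1 : Φ (A, B) a = A ⟨a, ha⟩ := LinearMap.ofIsCompl_left_apply hc ⟨a, ha⟩
    have e2 : Φ (A, B) b = B ⟨b, hb⟩ := LinearMap.ofIsCompl_right_apply hc ⟨b, hb⟩
    have e3 : Φ (A, B) (X b) = B ⟨X b, hXM b hb⟩ :=
      LinearMap.ofIsCompl_right_apply hc ⟨X b, hXM b hb⟩
    have e4 := congrArg Subtype.val (LinearMap.congr_fun (hS B hB).eq ⟨b, hb⟩)
    rw [Module.End.mul_apply, Module.End.mul_apply] at e4
    rw [Module.End.mul_apply, Module.End.mul_apply, map_add X, hP a ha, map_add, map_add, map_add, e1,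
      e2, e3, hP _ (A ⟨a, ha⟩).2]
    exact congrArg _ e4
  refine le_trans ?_ (LinearMap.finrank_le_finrank_of_injective
    (f := (Φ ∘ₗ (LinearMap.id.prodMap S.subtype)).codRestrict (comm X)
      fun t => hle (Submodule.mem_map_of_mem ⟨Submodule.mem_top, t.2.2⟩)) ?_)
  · haveI : Module.Free K S := Module.Free.of_divisionRing K S
    rw [Module.finrank_prod, Module.finrank_linearMap, pow_two]
    exact Nat.add_le_add le_rfl hSj
  · intro a b hab
    have h := hinj (congrArg Subtype.val hab)
    exact Prod.ext (congrArg Prod.fst h :) (Subtype.ext (congrArg Prod.snd h :))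

/-- Orbit representatives of a permutation of order dividing four. -/
theorem exists_reps_four {ι : Type*} [Fintype ι] (σ : Equiv.Perm ι) (hσ : σ ^ 4 = 1) :
    ∃ R : Finset ι, (∀ i, ∃ r ∈ R, σ.SameCycle r i) ∧
      4 * R.card ≤ Fintype.card ι + Nat.card {i // (σ ^ 2) i = i} +
        2 * Nat.card {i // σ i = i} := by
  classical
  let out : ι → ι := fun i => (Quotient.mk (Equiv.Perm.SameCycle.setoid σ) i).out
  have hout : ∀ i, σ.SameCycle (out i) i := fun i =>
    Quotient.mk_out (s := Equiv.Perm.SameCycle.setoid σ) i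
  have hcls : ∀ {i j}, σ.SameCycle i j → out i = out j := fun {i j} h => by
    simp only [out]
    rw [Quotient.sound (s := Equiv.Perm.SameCycle.setoid σ) h]
  refine ⟨univ.image out, fun i => ⟨out i, mem_image_of_mem _ (mem_univ i), hout i⟩, ?_⟩
  let w : ι → ℕ := fun i =>
    1 + (if (σ ^ 2) i = i then 1 else 0) + (if σ i = i then 2 else 0)
  have htot : ∑ i, w i = Fintype.card ι + Nat.card {i // (σ ^ 2) i = i} +
      2 * Nat.card {i // σ i = i} := by
    simp only [w, sum_add_distrib, sum_ite, sum_const_zero, add_zero, sum_const, smul_eq_mul,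
      mul_one, card_univ, Nat.card_eq_fintype_card, Fintype.card_subtype, mul_comm 2]
  rw [← htot, mul_comm, ← smul_eq_mul, ← sum_const,
    ← sum_fiberwise_of_maps_to (g := out) (t := univ.image out) (s := univ) (f := w)
      (fun i _ => mem_image_of_mem _ (mem_univ i))]
  refine sum_le_sum fun r hr => ?_
  obtain ⟨i₀, -, rfl⟩ := mem_image.1 hr
  set r := out i₀ with hrdef
  have hr' : out r = r := hcls (hout i₀)
  set F := univ.filter fun i => out i = r
  have hmem : ∀ l : ℕ, (σ ^ l) r ∈ F := fun l => mem_filter.2 ⟨mem_univ _, by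
    rw [← hcls (show σ.SameCycle r ((σ ^ l) r) from ⟨(l : ℤ), by rw [zpow_natCast]⟩), hr']⟩
  by_cases h1 : σ r = r
  · refine le_trans ?_ (single_le_sum (f := w) (fun _ _ => Nat.zero_le _)
      (by simpa using hmem 0 : r ∈ F))
    simp [w, h1, pow_two, Equiv.Perm.mul_apply]
  by_cases h2 : (σ ^ 2) r = r
  · have hw1 : 2 ≤ w r := by simp [w, h2]
    have hw2 : 2 ≤ w (σ r) := by
      have : (σ ^ 2) (σ r) = σ r := by
        rw [← Equiv.Perm.mul_apply, ← pow_succ, pow_succ', Equiv.Perm.mul_apply, h2]
      simp [w, this]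
    refine le_trans ?_ (sum_le_sum_of_subset (s := {r, σ r}) (f := w) ?_)
    · rw [sum_pair (Ne.symm h1)]; omega
    · intro a ha
      rcases Finset.mem_insert.1 ha with rfl | ha
      · simpa using hmem 0
      · rw [Finset.mem_singleton] at ha; subst ha; simpa using hmem 1
  · have h3 : (σ ^ 3) r ≠ r := fun h => h1 (by
      have h4 : (σ ^ 4) r = σ r := by rw [pow_succ' σ 3, Equiv.Perm.mul_apply, h]
      rw [hσ] at h4; exact h4.symm)
    have hinj : ∀ a b : ℕ, a < b → b < 4 → (σ ^ a) r ≠ (σ ^ b) r := by
      intro a b hab hb he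
      have hd : (σ ^ (b - a)) r = r := by
        apply (σ ^ a).injective
        rw [← Equiv.Perm.mul_apply, ← pow_add, Nat.add_sub_cancel' hab.le, he]
      have : b - a = 1 ∨ b - a = 2 ∨ b - a = 3 := by omega
      rcases this with e | e | e <;> rw [e] at hd
      · exact h1 (by simpa using hd)
      · exact h2 hd
      · exact h3 hd
    have hcard : ((range 4).image fun l => (σ ^ l) r).card = 4 := by
      rw [card_image_of_injOn, card_range]
      intro a ha b hb he
      simp only [coe_range, Set.mem_Iio] at ha hb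
      rcases lt_trichotomy a b with h | h | h
      · exact absurd he (hinj a b h hb)
      · exact h
      · exact absurd he.symm (hinj b a h ha)
    calc 4 = ∑ _i ∈ (range 4).image (fun l => (σ ^ l) r), 1 := by rw [sum_const, hcard]; rfl
      _ ≤ ∑ i ∈ (range 4).image (fun l => (σ ^ l) r), w i := sum_le_sum fun i _ => by simp [w]; omega
      _ ≤ _ := sum_le_sum_of_subset (by
          intro a ha
          obtain ⟨l, -, rfl⟩ := mem_image.1 ha
          exact hmem l)

end CfsgLib.GrossTwo
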