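import Mathlib
import Cfsg.Agent.GrossTwo.LinearSplit

/-!
An operator moving at most a plane and normalising a twisted group algebra: its involution fixes
every basis line.
-/

set_option autoImplicit false
set_option linter.style.haveILetI false
set_option linter.unusedSectionVars false

namespace CfsgLib.GrossTwo

open Finset
open CfsgLib.HHExponent (comm mem_comm)

universe u v w

variable {K : Type w} [Field K] {W : Type v} [AddCommGroup W] [Module K W]
variable {U : Type u} [Group U] [Fintype U]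

/-- A twisted group algebra filling the endomorphisms, normalised by `X`. -/
structure TwistBasis (b : Module.Basis U K (Module.End K W)) (X : Module.End K W) (π : MulAut U)
    (N : ℕ) : Prop where
  comm : ∀ u v : U, u * v = v * u
  mul : ∀ u v, ∃ c : K, b u * b v = c • b (u * v)
  unit : ∀ u, IsUnit (b u)
  hN : 0 < N
  hX : X ^ N = 1
  conj : ∀ u, ∃ c : K, X * b u * X ^ (N - 1) = c • b (π u)
  hπ : π ^ N = 1

namespace TwistBasis

variable {b : Module.Basis U K (Module.End K W)} {X : Module.End K W} {π : MulAut U} {N : ℕ}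

theorem pow_conj (h : TwistBasis b X π N) : ∀ (i : ℕ) (u : U),
    ∃ c : K, X ^ i * b u * (X ^ (N - 1)) ^ i = c • b ((π ^ i) u) := by
  intro i
  induction i with
  | zero => exact fun u => ⟨1, by simp⟩
  | succ i ih =>
    intro u
    obtain ⟨c, hc⟩ := h.conj u
    obtain ⟨d, hd⟩ := ih (π u)
    refine ⟨c * d, ?_⟩
    rw [pow_succ X, pow_succ' (X ^ (N - 1)), pow_succ π, MulAut.mul_apply, mul_smul, ← hd,
      ← smul_mul_assoc, ← mul_smul_comm, ← hc]
    simp only [mul_assoc]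

theorem pow (h : TwistBasis b X π N) {k M : ℕ} (hk : k * M = N) :
    TwistBasis b (X ^ k) (π ^ k) M := by
  have hM : 0 < M := Nat.pos_of_ne_zero fun h0 => h.hN.ne' (by rw [← hk, h0, mul_zero])
  refine ⟨h.comm, h.mul, h.unit, hM, by rw [← pow_mul, hk, h.hX], fun u => ?_,
    by rw [← pow_mul, hk, h.hπ]⟩
  obtain ⟨c, hc⟩ := h.pow_conj k u
  refine ⟨c, ?_⟩
  rw [← hc]
  refine congrArg (X ^ k * b u * ·) ?_
  rw [← pow_mul X (N - 1), ← pow_mul X k]
  rcases Nat.eq_zero_or_pos k with rfl | hk0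
  · simp
  · have hN1 : (N - 1) * k = N * (k - 1) + k * (M - 1) := by
      rw [Nat.sub_mul, one_mul, Nat.mul_sub, Nat.mul_sub, mul_one, mul_one, hk]
      have : N ≤ N * k := Nat.le_mul_of_pos_right N hk0
      have : k ≤ N := hk ▸ Nat.le_mul_of_pos_right k hM
      omega
    rw [hN1, pow_add, pow_mul X N, h.hX, one_pow, one_mul]

theorem pow_inv (h : TwistBasis b X π N) (i : ℕ) : X ^ i * (X ^ (N - 1)) ^ i = 1 := by
  rw [← (Commute.self_pow X (N - 1)).mul_pow, ← pow_succ', Nat.sub_add_cancel h.hN, h.hX, one_pow]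

theorem ne_zero (h : TwistBasis b X π N) (u : U) : b u ≠ 0 := b.ne_zero u

theorem smul_eq (h : TwistBasis b X π N) {c : K} {u v : U} (e : c • b u = b v) : u = v := by
  classical
  by_contra hne
  have := congrArg (fun f => b.repr f v) e
  simp [b.repr_self, Ne.symm hne] at this

theorem one_smul' (h : TwistBasis b X π N) : ∃ c : K, c ≠ 0 ∧ b 1 = c • 1 := by
  obtain ⟨c, hc⟩ := h.mul 1 1
  rw [mul_one] at hc
  have e : b 1 = c • 1 := (h.unit 1).mul_right_cancel (by rw [hc, smul_mul_assoc, one_mul])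
  exact ⟨c, fun h0 => h.ne_zero 1 (by rw [e, h0, zero_smul]), e⟩

theorem eq_one_of_scalar (h : TwistBasis b X π N) {u : U} {c : K} (e : b u = c • 1) : u = 1 := by
  obtain ⟨d, hd0, hd⟩ := h.one_smul'
  refine (h.smul_eq (c := c * d⁻¹) (u := 1) (v := u) ?_).symm
  rw [hd, smul_smul, mul_assoc, inv_mul_cancel₀ hd0, mul_one, e]

theorem eq_one_of_commute [IsAlgClosed K] [FiniteDimensional K W] [Nontrivial W]
    (h : TwistBasis b X π N) {u : U} (hc : ∀ v, Commute (b u) (b v)) : u = 1 := by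
  obtain ⟨μ, hμ⟩ := Module.End.exists_eigenvalue (b u)
  obtain ⟨v, hv⟩ := hμ.exists_hasEigenvector
  refine h.eq_one_of_scalar (c := μ) (LinearMap.ext fun w => ?_)
  obtain ⟨f, hf⟩ := Submodule.exists_dual_map_eq_bot_of_notMem (p := (⊥ : Submodule K W))
    (by rw [Submodule.mem_bot]; exact hv.2) inferInstance
  set g : Module.End K W := ((f v)⁻¹ • f).smulRight w
  have hg : g v = w := by
    simp [g, inv_mul_cancel₀ hf.1]
  have hcom : Commute (b u) g := by
    rw [← b.sum_repr g]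
    exact Commute.sum_right _ _ _ fun i _ => (hc i).smul_right _
  have := LinearMap.congr_fun hcom.eq v
  rw [Module.End.mul_apply, Module.End.mul_apply, hg, hv.apply_eq_smul, map_smul, hg] at this
  exact this

theorem card_eq [FiniteDimensional K W] (h : TwistBasis b X π N) :
    Fintype.card U = Module.finrank K W ^ 2 := by
  rw [← Module.finrank_eq_card_basis b, Module.finrank_linearMap, pow_two]

theorem fixed_of_scalar (h : TwistBasis b X π N) {i : ℕ} {c : K} (e : X ^ i = c • 1) (u : U) :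
    (π ^ i) u = u := by
  obtain ⟨d, hd⟩ := h.pow_conj i u
  have h1 := h.pow_inv i
  rw [e, smul_mul_assoc, one_mul] at h1
  rw [e, smul_mul_assoc, one_mul, smul_mul_assoc, ← mul_smul_comm, h1, mul_one] at hd
  exact h.smul_eq hd.symm

theorem comm_le [FiniteDimensional K W] (h : TwistBasis b X π N) (R : Finset U)
    (hR : ∀ u, ∃ r ∈ R, Equiv.Perm.SameCycle (π : U ≃ U) r u) :
    Module.finrank K (CfsgLib.HHExponent.comm X) ≤ R.card := by
  choose c hc using h.conj
  refine CfsgLib.HHExponent.finrank_fixed_le b (π : U ≃ U) c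
    (LinearMap.mulLeft K X * LinearMap.mulRight K (X ^ (N - 1)))
    (fun u => by
      rw [Module.End.mul_apply, LinearMap.mulRight_apply, LinearMap.mulLeft_apply, ← mul_assoc]
      exact hc u) R hR _ fun f hf => ?_
  rw [Module.End.mul_apply, LinearMap.mulRight_apply, LinearMap.mulLeft_apply, ← mul_assoc,
    ← mem_comm.1 hf, mul_assoc, ← pow_succ', Nat.sub_add_cancel h.hN, h.hX, mul_one]

end TwistBasis

/-- The fixed subgroup of an automorphism. -/
def fixSub (φ : MulAut U) : Subgroup U := MonoidHom.eqLocus φ.toMonoidHom (MonoidHom.id U)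

theorem mem_fixSub {φ : MulAut U} {u : U} : u ∈ fixSub φ ↔ φ u = u := Iff.rfl

/-- Automorphisms as permutations. -/
def toPermHom : MulAut U →* Equiv.Perm U where
  toFun := MulEquiv.toEquiv
  map_one' := rfl
  map_mul' _ _ := rfl

theorem card_fix (π : MulAut U) (i : ℕ) :
    Nat.card {u : U // ((π : U ≃ U) ^ i) u = u} = Nat.card (fixSub (π ^ i)) :=
  Nat.card_congr (Equiv.subtypeEquivRight fun u => by
    rw [mem_fixSub, show ((π : U ≃ U) ^ i) = toPermHom (π ^ i) from (map_pow toPermHom π i).symm]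
    rfl)

/-- A proper subgroup of a group of prime power order. -/
theorem mul_card_le {s : ℕ} [Fact s.Prime] (hU : IsPGroup s U) {H J : Subgroup U} (hlt : H < J) :
    s * Nat.card H ≤ Nat.card J := by
  obtain ⟨i, hi⟩ := IsPGroup.iff_card.1 (hU.to_subgroup H)
  obtain ⟨k, hk⟩ := IsPGroup.iff_card.1 (hU.to_subgroup J)
  have h1 : Nat.card H < Nat.card J := by
    refine lt_of_le_of_ne (Subgroup.card_le_of_le hlt.le) fun he => hlt.ne ?_
    exact SetLike.coe_injective (Set.eq_of_subset_of_ncard_le hlt.le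
      (by rw [← Nat.card_coe_set_eq, ← Nat.card_coe_set_eq]; exact he.ge))
  rw [hi, hk] at h1 ⊢
  rw [← pow_succ']
  exact Nat.pow_le_pow_right (Fact.out : s.Prime).pos
    ((Nat.pow_lt_pow_iff_right (Fact.out : s.Prime).one_lt).1 h1)

theorem dim_pow {s : ℕ} [hs : Fact s.Prime] [FiniteDimensional K W]
    {b : Module.Basis U K (Module.End K W)} {X : Module.End K W} {π : MulAut U} {N : ℕ}
    (h : TwistBasis b X π N) (hU : IsPGroup s U) : ∃ i, Module.finrank K W = s ^ i := by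
  obtain ⟨k, hk⟩ := IsPGroup.iff_card.1 hU
  rw [Nat.card_eq_fintype_card, h.card_eq] at hk
  obtain ⟨i, -, hi⟩ := (Nat.dvd_prime_pow hs.out).1
    (hk ▸ dvd_pow_self _ two_ne_zero : Module.finrank K W ∣ s ^ k)
  exact ⟨i, hi⟩

/-- The odd case. -/
theorem no_move [FiniteDimensional K W] [Nontrivial W] {s : ℕ} [hs : Fact s.Prime] (hs2 : s ≠ 2)
    (n : ℕ) (hn : 2 ≤ n) (hs3 : n = 2 → s ≠ 3) {b : Module.Basis U K (Module.End K W)}
    {X : Module.End K W} {π : MulAut U} (h : TwistBasis b X π (2 ^ n)) (hU : IsPGroup s U)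
    (h2 : (2 : K) ≠ 0) (hj : Module.finrank K (LinearMap.range (X - 1)) ≤ 2)
    (hZ : (X ^ 2 ^ (n - 1) + 1) * (X - 1) = 0) : ∀ u, (π ^ 2 ^ (n - 1)) u = u := by
  classical
  by_contra hmv
  obtain ⟨hc, -, hM⟩ := split (2 ^ (n - 1)) h2 hZ
  set k := Module.finrank K (LinearMap.ker (X - 1)) with hk
  set j := Module.finrank K (LinearMap.range (X - 1)) with hjd
  have hd : j + k = Module.finrank K W := LinearMap.finrank_range_add_finrank_ker _
  have hk0 : k ≠ 0 := fun h0 => hmv fun u => by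
    refine h.fixed_of_scalar (c := -1) (LinearMap.ext fun v => ?_) u
    have htop : LinearMap.range (X - 1) = ⊤ := Submodule.eq_top_of_finrank_eq (by omega)
    rw [(hM v).2 (htop ▸ Submodule.mem_top), LinearMap.smul_apply, Module.End.one_apply, neg_one_smul]
  have hj0 : j ≠ 0 := fun h0 => hmv fun u => by
    refine h.fixed_of_scalar (c := 1) ?_ u
    have hX1 : X = 1 := sub_eq_zero.1 (LinearMap.range_eq_bot.1 (Submodule.finrank_eq_zero.1 h0))
    rw [hX1, one_pow, one_smul]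
  obtain ⟨R, hR, a, bb, hRc, hcard, hbC, -⟩ := CfsgLib.HHExponent.exists_reps (π : U ≃ U) 2 n
    (by omega) (by
      rw [show (π : U ≃ U) = toPermHom π from rfl, ← map_pow, h.hπ, map_one])
  rw [card_fix] at hcard hbC
  set C := Nat.card (fixSub (π ^ 2 ^ (n - 1)))
  have hlow := (le_finrank_comm hc hj).trans (h.comm_le R hR)
  rw [← hk, ← hjd, hRc] at hlow
  have hC : s * C ≤ Fintype.card U := by
    rw [← Nat.card_eq_fintype_card, ← Subgroup.card_top (G := U)]
    exact mul_card_le hU (lt_top_iff_ne_top.2 fun e => hmv fun u =>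
      mem_fixSub.1 (e ▸ Subgroup.mem_top u))
  obtain ⟨i, hi⟩ := dim_pow h hU
  have hi0 : i ≠ 0 := by
    rintro rfl
    rw [pow_zero] at hi
    omega
  have hsd : s ∣ Module.finrank K W := hi ▸ dvd_pow_self s hi0
  rw [h.card_eq] at hcard hC
  rw [← hd] at hcard hC hsd
  have hs3' : 3 ≤ s := by have := hs.out.two_le; omega
  set N := 2 ^ n with hN
  have hN4 : 4 ≤ N := by rw [hN, show (4 : ℕ) = 2 ^ 2 by norm_num]; exact Nat.pow_le_pow_right two_pos hn
  have haN : 4 * a ≤ a * N := by rw [mul_comm]; exact Nat.mul_le_mul_left a hN4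
  have hC3 : 3 * C ≤ (j + k) ^ 2 := le_trans (Nat.mul_le_mul_right C hs3') hC
  have hmain : 2 * (k ^ 2 + j) ≤ (j + k) ^ 2 := by omega
  clear_value j k C N
  obtain rfl | rfl : j = 1 ∨ j = 2 := by omega
  · have hk1 : k ≤ 1 := by nlinarith
    have : s ∣ 2 := by rwa [show 1 + k = 2 by omega] at hsd
    exact hs2 ((Nat.prime_dvd_prime_iff_eq hs.out Nat.prime_two).1 this)
  · have hk4 : k ≤ 4 := by nlinarith
    obtain rfl | rfl | rfl | rfl : k = 1 ∨ k = 2 ∨ k = 3 ∨ k = 4 := by omega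
    · -- d = 3
      obtain rfl : s = 3 := (Nat.prime_dvd_prime_iff_eq hs.out Nat.prime_three).1 hsd
      have hn2 : n ≠ 2 := fun e => hs3 e rfl
      have hN8 : 8 ≤ N := by
        rw [hN, show (8 : ℕ) = 2 ^ 3 by norm_num]; exact Nat.pow_le_pow_right two_pos (by omega)
      have : 8 * a ≤ a * N := by rw [mul_comm]; exact Nat.mul_le_mul_left a hN8
      rcases Nat.eq_zero_or_pos a with rfl | ha
      · omega
      · omega
    · exact hs2 ((Nat.prime_dvd_prime_iff_eq hs.out Nat.prime_two).1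
        (hs.out.dvd_of_dvd_pow (n := 2) hsd))
    · obtain rfl : s = 5 :=
        (Nat.prime_dvd_prime_iff_eq hs.out (by norm_num)).1 (show s ∣ 5 from hsd)
      omega
    · rcases hs.out.dvd_mul.1 (show s ∣ 2 * 3 from hsd) with h6 | h6
      · exact hs2 ((Nat.prime_dvd_prime_iff_eq hs.out Nat.prime_two).1 h6)
      · obtain rfl : s = 3 := (Nat.prime_dvd_prime_iff_eq hs.out Nat.prime_three).1 h6
        rw [← hd] at hi
        rcases Nat.lt_or_ge i 2 with h5 | h5
        · interval_cases i <;> norm_num at hi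
        · have := Nat.pow_le_pow_right (show 1 ≤ 3 by norm_num) h5
          omega

/-- Scaling of the elementary case to the odd one. -/
theorem range_pow_le (X : Module.End K W) (k : ℕ) :
    LinearMap.range (X ^ k - 1) ≤ LinearMap.range (X - 1) := by
  rintro _ ⟨v, rfl⟩
  induction k generalizing v with
  | zero => simp
  | succ k ih =>
    have e : (X ^ (k + 1) - 1) v = (X ^ k - 1) (X v) + (X - 1) v := by
      simp [pow_succ, Module.End.mul_apply]
    rw [e]
    exact add_mem (ih _) ⟨v, rfl⟩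

theorem pow_sub_one_kill {X : Module.End K W} {A : Module.End K W} (h : A * (X - 1) = 0) :
    ∀ k : ℕ, A * (X ^ k - 1) = 0 := fun k => by
  rw [← mul_geom_sum X k, ← mul_assoc, h, zero_mul]

/-- The residual four-dimensional configuration. -/
theorem residual [FiniteDimensional K W] [Nontrivial W] {X G F E H : Module.End K W}
    (h2 : (2 : K) ≠ 0) (hX4 : X ^ 4 = 1) (hZ : (X ^ 2 + 1) * (X - 1) = 0)
    (hd : Module.finrank K W = 4) (hM : Module.finrank K (LinearMap.range (X - 1)) = 2)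
    (hE2 : E * E = 1) (hEG : Commute E G) (hEF : Commute E F) (hG : IsUnit G) (hH : IsUnit H)
    {h0 : Module.End K W} (hh0 : IsUnit h0) (hEh0 : E * h0 = -(h0 * E))
    (hXE : ∃ c : K, (c = 1 ∨ c = -1) ∧ X * E = c • (E * X))
    (hZG : X ^ 2 * G = -(G * E * X ^ 2)) {c : K} (hc : c ≠ 0) (hXG : X * G = c • (F * G * X))
    (hEH : Commute E H) (hFH : H * F = -(F * H)) : False := by
  obtain ⟨hPM, hP, hMm⟩ := split 2 h2 hZ
  set P := LinearMap.ker (X - 1) with hPdef
  set M := LinearMap.range (X - 1) with hMdef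
  have hPd : Module.finrank K P = 2 := by
    have := LinearMap.finrank_range_add_finrank_ker (X - 1)
    rw [← hMdef, ← hPdef, hM, hd] at this
    omega
  have hX1 : ∀ v ∈ P, X v = v := fun v hv => sub_eq_zero.1 (LinearMap.mem_ker.1 hv)
  have hXM : ∀ v ∈ M, X v ∈ M := by
    rintro _ ⟨u, rfl⟩
    exact ⟨X u, by simp [map_sub]⟩
  have hneg : ∀ v : W, v = -v → v = 0 := fun v hv => by
    have : (2 : K) • v = 0 := by rw [two_smul]; nth_rw 2 [hv]; exact add_neg_cancel v
    exact (smul_eq_zero.1 this).resolve_left h2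
  have hEE : ∀ v, E (E v) = v := fun v => LinearMap.congr_fun hE2 v
  have hcomm : ∀ {A B : Module.End K W}, Commute A B → ∀ v, A (B v) = B (A v) :=
    fun h v => LinearMap.congr_fun h.eq v
  -- the operator commutes with E
  obtain ⟨ε, hε, hXE'⟩ := hXE
  have hXEc : Commute X E := by
    rcases hε with rfl | rfl
    · rwa [one_smul] at hXE'
    exfalso
    have h : ∀ v ∈ P, v = 0 := by
      intro v hv
      have h1 : X (E v) = -(E v) := by
        have := LinearMap.congr_fun hXE' v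
        rw [Module.End.mul_apply, LinearMap.smul_apply, Module.End.mul_apply, hX1 v hv,
          neg_one_smul] at this
        exact this
      have h3 : (X ^ 2) (E v) = E v := by
        rw [pow_two, Module.End.mul_apply, h1, map_neg, h1, neg_neg]
      have h4 := hX1 _ ((hP _).1 h3)
      rw [h1] at h4
      rw [← hEE v, hneg _ h4.symm, map_zero]
    have : P = ⊥ := (Submodule.eq_bot_iff P).2 h
    rw [this, finrank_bot] at hPd
    omega
  have hZE : Commute (X ^ 2) E := hXEc.pow_left 2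
  let E1 := LinearMap.ker (E - 1)
  let E2 := LinearMap.ker (E + 1)
  have m1 : ∀ v, v ∈ E1 ↔ E v = v := fun v => by
    show (E - 1) v = 0 ↔ _
    rw [LinearMap.sub_apply, Module.End.one_apply, sub_eq_zero]
  have m2 : ∀ v, v ∈ E2 ↔ E v = -v := fun v => by
    show (E + 1) v = 0 ↔ _
    rw [LinearMap.add_apply, Module.End.one_apply, add_eq_zero_iff_eq_neg]
  have hdis : E1 ⊓ E2 = ⊥ := (Submodule.eq_bot_iff _).2 fun v hv =>
    hneg v (((m1 v).1 hv.1).symm.trans ((m2 v).1 hv.2))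
  have hsup : E1 ⊔ E2 = ⊤ := eq_top_iff.2 fun v _ => by
    refine Submodule.mem_sup.2 ⟨(2 : K)⁻¹ • (v + E v), Submodule.smul_mem _ _ ?_,
      (2 : K)⁻¹ • (v - E v), Submodule.smul_mem _ _ ?_, ?_⟩
    · rw [m1, map_add, hEE, add_comm]
    · rw [m2, map_sub, hEE, neg_sub]
    · rw [← smul_add, show v + E v + (v - E v) = (2 : K) • v by rw [two_smul]; abel, smul_smul,
        inv_mul_cancel₀ h2, one_smul]
  obtain ⟨h0i, hh0i⟩ := hh0.exists_left_inv
  have hh0inj : ∀ v, h0 v = 0 → v = 0 := fun v hv => by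
    rw [show v = h0i (h0 v) from (LinearMap.congr_fun hh0i v).symm, hv, map_zero]
  have hflip : ∀ v, E (h0 v) = -(h0 (E v)) := fun v => LinearMap.congr_fun hEh0 v
  have hle : ∀ (A B : Submodule K W), (∀ v ∈ A, h0 v ∈ B) → Module.finrank K A ≤ Module.finrank K B :=
    fun A B h => LinearMap.finrank_le_finrank_of_injective (f := h0.restrict h) fun x y hxy =>
      Subtype.ext (sub_eq_zero.1 (hh0inj _ (by
        rw [map_sub, show h0 (x : W) = h0 (y : W) from congrArg Subtype.val hxy, sub_self])))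
  have h12 := hle E1 E2 fun v hv => by rw [m2, hflip, (m1 v).1 hv]
  have h21 := hle E2 E1 fun v hv => by rw [m1, hflip, (m2 v).1 hv, map_neg, neg_neg]
  have hdim := Submodule.finrank_sup_add_finrank_inf_eq E1 E2
  rw [hdis, hsup, finrank_bot, finrank_top, hd] at hdim
  obtain ⟨Gi, hGi⟩ := hG.exists_left_inv
  have hGinj : ∀ v, G v = 0 → v = 0 := fun v hv => by
    rw [show v = Gi (G v) from (LinearMap.congr_fun hGi v).symm, hv, map_zero]
  have hG1 : ∀ v ∈ E1, (X ^ 2) (G v) = -(G ((X ^ 2) v)) := fun v hv => by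
    have := LinearMap.congr_fun hZG v
    rw [Module.End.mul_apply, LinearMap.neg_apply, Module.End.mul_apply, Module.End.mul_apply,
      ← hcomm hZE v, (m1 v).1 hv] at this
    exact this
  have hG2 : ∀ v ∈ E2, (X ^ 2) (G v) = G ((X ^ 2) v) := fun v hv => by
    have := LinearMap.congr_fun hZG v
    rw [Module.End.mul_apply, LinearMap.neg_apply, Module.End.mul_apply, Module.End.mul_apply,
      ← hcomm hZE v, (m2 v).1 hv, map_neg, map_neg, neg_neg] at this
    exact this
  have hGE1 : ∀ v ∈ E1, G v ∈ E1 := fun v hv => by rw [m1, hcomm hEG, (m1 v).1 hv]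
  have hGE2 : ∀ v ∈ E2, G v ∈ E2 := fun v hv => by rw [m2, hcomm hEG, (m2 v).1 hv, map_neg]
  -- E1 contains vectors of both kinds, so neither P nor M is E2
  have hnot : ∀ (A : Submodule K W) (t : K), t ≠ 0 → (∀ v, v ∈ A ↔ (X ^ 2) v = t • v) →
      ¬ E1 ≤ A := by
    intro A t ht hA hle'
    have : E1 = ⊥ := (Submodule.eq_bot_iff _).2 fun v hv => by
      have h1 := (hA _).1 (hle' (hGE1 v hv))
      rw [hG1 v hv, (hA v).1 (hle' hv), map_smul] at h1
      exact (smul_eq_zero.1 (hneg _ h1.symm)).resolve_left ht |> hGinj v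
    rw [this, finrank_bot] at hdim h21
    omega
  have hA1 : ∀ v, v ∈ P ↔ (X ^ 2) v = (1 : K) • v := fun v => by rw [one_smul]; exact (hP v).symm
  have hA2 : ∀ v, v ∈ M ↔ (X ^ 2) v = (-1 : K) • v := fun v => by
    rw [neg_one_smul]; exact (hMm v).symm
  have hsplit : ∀ (A : Submodule K W), (∀ v ∈ A, X v ∈ A) →
      ∀ v ∈ A, ∃ a ∈ A ⊓ P, ∃ b ∈ A ⊓ M, a + b = v := by
    intro A hAX v hv
    have hZ2 : ∀ v, (X ^ 2) ((X ^ 2) v) = v := fun v => by
      rw [← Module.End.mul_apply, ← pow_add, show 2 + 2 = 4 from rfl, hX4, Module.End.one_apply]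
    have hZv : (X ^ 2) v ∈ A := by rw [pow_two, Module.End.mul_apply]; exact hAX _ (hAX v hv)
    refine ⟨(2 : K)⁻¹ • (v + (X ^ 2) v), ⟨Submodule.smul_mem _ _ (add_mem hv hZv), (hP _).1 ?_⟩,
      (2 : K)⁻¹ • (v - (X ^ 2) v), ⟨Submodule.smul_mem _ _ (sub_mem hv hZv), (hMm _).1 ?_⟩, ?_⟩
    · rw [map_smul, map_add, hZ2, add_comm]
    · rw [map_smul, map_sub, hZ2, ← smul_neg, neg_sub]
    · rw [← smul_add, show v + (X ^ 2) v + (v - (X ^ 2) v) = (2 : K) • v by rw [two_smul]; abel,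
        smul_smul, inv_mul_cancel₀ h2, one_smul]
  have hXE2 : ∀ v ∈ E2, X v ∈ E2 := fun v hv => by
    rw [m2, ← hcomm hXEc, (m2 v).1 hv, map_neg]
  have hXE1 : ∀ v ∈ E1, X v ∈ E1 := fun v hv => by rw [m1, ← hcomm hXEc, (m1 v).1 hv]
  have hne : ∀ (A B : Submodule K W) (t : K), t ≠ 0 → (∀ v, v ∈ B ↔ (X ^ 2) v = t • v) →
      Module.finrank K A = 2 → Disjoint A B →
      (∀ v ∈ E2, ∃ a ∈ E2 ⊓ A, ∃ b ∈ E2 ⊓ B, a + b = v) →
      (∀ v ∈ E1, ∃ a ∈ E1 ⊓ A, ∃ b ∈ E1 ⊓ B, a + b = v) → E2 ⊓ B ≠ ⊥ := by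
    intro A B t ht hB hA2' hAB hs2 hs1 hbot
    have hE2A : E2 = A := by
      refine Submodule.eq_of_le_of_finrank_eq (fun v hv => ?_) (by omega)
      obtain ⟨a, ha, b, hb, rfl⟩ := hs2 v hv
      rw [hbot, Submodule.mem_bot] at hb
      rw [hb, add_zero]; exact ha.2
    refine hnot B t ht hB fun v hv => ?_
    obtain ⟨a, ha, b, hb, rfl⟩ := hs1 v hv
    have : a = 0 := (Submodule.mem_bot K).1 (hdis ▸ ⟨ha.1, hE2A.ge ha.2⟩)
    rw [this, zero_add]; exact hb.2
  have hswap : ∀ {A : Submodule K W}, (∀ v ∈ A, X v ∈ A) →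
      ∀ v ∈ A, ∃ a ∈ A ⊓ M, ∃ b ∈ A ⊓ P, a + b = v := fun {A} hAX v hv => by
    obtain ⟨a, ha, b, hb, e⟩ := hsplit A hAX v hv
    exact ⟨b, hb, a, ha, by rw [add_comm, e]⟩
  have hPne : E2 ⊓ P ≠ ⊥ := hne M P 1 one_ne_zero hA1 hM hPM.disjoint.symm (hswap hXE2) (hswap hXE1)
  have hMne : E2 ⊓ M ≠ ⊥ := hne P M (-1) (neg_ne_zero.2 one_ne_zero) hA2 hPd hPM.disjoint
    (hsplit E2 hXE2) (hsplit E1 hXE1)
  have hline : Module.finrank K ↥(E2 ⊓ M) = 1 := by
    have h1 := Submodule.finrank_sup_add_finrank_inf_eq (E2 ⊓ P) (E2 ⊓ M)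
    have h3 : (E2 ⊓ P) ⊓ (E2 ⊓ M) = ⊥ := (Submodule.eq_bot_iff _).2 fun v hv =>
      Submodule.disjoint_def.1 hPM.disjoint v hv.1.2 hv.2.2
    rw [h3, finrank_bot, add_zero] at h1
    have h4 : Module.finrank K ↥((E2 ⊓ P) ⊔ (E2 ⊓ M)) ≤ Module.finrank K E2 :=
      Submodule.finrank_mono (sup_le inf_le_left inf_le_left)
    have h5 := Submodule.finrank_eq_zero.not.2 hPne
    have h6 := Submodule.finrank_eq_zero.not.2 hMne
    omega
  have hGXP : ∀ v ∈ E2 ⊓ P, G v ∈ E2 ⊓ P := fun v hv =>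
    ⟨hGE2 v hv.1, (hP _).1 (by rw [hG2 v hv.1, (hP v).2 hv.2])⟩
  have hGXM : ∀ v ∈ E2 ⊓ M, G v ∈ E2 ⊓ M := fun v hv =>
    ⟨hGE2 v hv.1, (hMm _).1 (by rw [hG2 v hv.1, (hMm v).2 hv.2, map_neg])⟩
  have hGX : ∀ v ∈ E2, X (G v) = G (X v) := by
    intro v hv
    obtain ⟨a, ha, b, hb, rfl⟩ := hsplit E2 hXE2 v hv
    rw [map_add, map_add, map_add, map_add, hX1 a ha.2, hX1 _ (hGXP a ha).2]
    congr 1
    obtain ⟨w, -, hw⟩ := finrank_eq_one_iff'.1 hline
    obtain ⟨s1, hs1⟩ := hw ⟨b, hb⟩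
    obtain ⟨s2, hs2⟩ := hw ⟨G w, hGXM w w.2⟩
    obtain ⟨s3, hs3⟩ := hw ⟨X w, hXE2 w w.2.1, hXM w w.2.2⟩
    have e1 : b = s1 • (w : W) := (congrArg Subtype.val hs1).symm
    have e2 : G (w : W) = s2 • (w : W) := (congrArg Subtype.val hs2).symm
    have e3 : X (w : W) = s3 • (w : W) := (congrArg Subtype.val hs3).symm
    rw [e1, map_smul, map_smul, map_smul, map_smul, e2, e3, map_smul, map_smul, e2, e3, smul_comm s3]
  have hFscal : ∀ v ∈ E2, F v = c⁻¹ • v := by
    intro v hv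
    obtain ⟨G', hG'⟩ := hG.exists_right_inv
    set w := G' v with hwdef
    have hw : G w = v := LinearMap.congr_fun hG' v
    have hwE : w ∈ E2 := by
      rw [m2]
      refine sub_eq_zero.1 (hGinj _ ?_)
      rw [map_sub, map_neg, ← hcomm hEG, hw, (m2 v).1 hv, sub_self]
    -- go back through X
    have hX3 : (X ^ 3) w ∈ E2 := by
      rw [pow_succ', pow_two, Module.End.mul_apply, Module.End.mul_apply]
      exact hXE2 _ (hXE2 _ (hXE2 _ hwE))
    have hu : X ((X ^ 3) w) = w := by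
      rw [← Module.End.mul_apply, ← pow_succ', hX4, Module.End.one_apply]
    have h1 := LinearMap.congr_fun hXG ((X ^ 3) w)
    rw [Module.End.mul_apply, hGX _ hX3, LinearMap.smul_apply, Module.End.mul_apply, hu,
      Module.End.mul_apply, hw] at h1
    conv_rhs => rw [h1]
    rw [smul_smul, inv_mul_cancel₀ hc, one_smul]
  obtain ⟨v, hv, hv0⟩ := E2.exists_mem_ne_zero_of_ne_bot (fun h => hMne (by rw [h, bot_inf_eq]))
  have hHE : H v ∈ E2 := by rw [m2, hcomm hEH, (m2 v).1 hv, map_neg]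
  have h1 := LinearMap.congr_fun hFH v
  rw [LinearMap.neg_apply, Module.End.mul_apply, Module.End.mul_apply, hFscal v hv, hFscal _ hHE,
    map_smul] at h1
  obtain ⟨Hi, hHi⟩ := hH.exists_left_inv
  refine hv0 ?_
  rw [show v = Hi (H v) from (LinearMap.congr_fun hHi v).symm,
    (smul_eq_zero.1 (hneg _ h1)).resolve_left (inv_ne_zero hc), map_zero]

set_option maxHeartbeats 1600000 in
/-- The case of a two-group, for an element of order four. -/
theorem no_move_two [IsAlgClosed K] [FiniteDimensional K W] [Nontrivial W]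
    {b : Module.Basis U K (Module.End K W)} {X : Module.End K W} {π : MulAut U}
    (h : TwistBasis b X π 4) (hexp : ∀ u : U, u * u = 1) (h2 : (2 : K) ≠ 0)
    (hj : Module.finrank K (LinearMap.range (X - 1)) ≤ 2)
    (hZ : (X ^ 2 + 1) * (X - 1) = 0) : ∀ u, (π ^ 2) u = u := by
  classical
  by_contra hmv
  push Not at hmv
  obtain ⟨g₀, hg₀⟩ := hmv
  haveI : Fact (Nat.Prime 2) := ⟨Nat.prime_two⟩
  have hU : IsPGroup 2 U := fun u => ⟨1, by rw [pow_one, pow_two, hexp]⟩
  have hsq : ∀ u v : U, u * (u * v) = v := fun u v => by rw [← mul_assoc, hexp, one_mul]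
  have hne : ∀ u v : U, u ≠ v → u * v ≠ 1 := fun u v huv e => huv (by
    rw [← hsq v u, h.comm v u, e, mul_one])
  have hπ4 : ∀ u, π (π (π (π u))) = u := fun u => by
    have := DFunLike.congr_fun h.hπ u
    simpa [pow_succ', MulAut.mul_apply] using this
  have hπ2 : ∀ u, (π ^ 2) u = π (π u) := fun u => by rw [pow_two, MulAut.mul_apply]
  rw [hπ2] at hg₀
  letI : CommGroup U := { ‹Group U› with mul_comm := h.comm }
  -- the chain g, f, e
  obtain ⟨g, hg⟩ : ∃ g, π (π g) * g ≠ 1 ∧ π (π (π g) * g) = π (π g) * g := by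
    by_cases hfix : π (π (π g₀) * g₀) = π (π g₀) * g₀
    · exact ⟨g₀, hne _ _ hg₀, hfix⟩
    refine ⟨π g₀ * g₀, ?_, ?_⟩
    · intro e
      apply hfix
      rw [map_mul, map_mul] at e
      rw [map_mul, ← mul_inv_eq_one, inv_eq_of_mul_eq_one_right (hexp _), ← e]
      ac_rfl
    · simp only [map_mul, hπ4]
      ac_rfl
  set f := π g * g with hfdef
  set e := π (π g) * g with hedef
  have hπg : π g = f * g := by rw [hfdef, mul_assoc, hexp, mul_one]
  have hπf : π f = e * f := by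
    rw [hfdef, map_mul, hedef, mul_assoc, h.comm g, mul_assoc, hexp, mul_one]
  have hπ2g : π (π g) = e * g := by rw [hedef, mul_assoc, hexp, mul_one]
  have he1 : e ≠ 1 := hg.1
  have hπe : π e = e := hg.2
  clear_value f e
  have hf1 : f ≠ 1 := fun e' => he1 (by rw [← mul_one e, ← e', ← hπf, e', map_one])
  -- signs
  have hsign : ∀ u v, ∃ ε : K, (ε = 1 ∨ ε = -1) ∧ b u * b v = ε • (b v * b u) := by
    intro u v
    obtain ⟨c, hc⟩ := h.mul u v
    obtain ⟨c', hc'⟩ := h.mul v u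
    rw [h.comm v u] at hc'
    have hne' : b v * b u ≠ 0 := ((h.unit v).mul (h.unit u)).ne_zero
    have hc'0 : c' ≠ 0 := fun e' => hne' (by rw [hc', e', zero_smul])
    have he : b u * b v = (c / c') • (b v * b u) := by
      rw [hc, hc', smul_smul, div_mul_cancel₀ _ hc'0]
    refine ⟨c / c', ?_, he⟩
    obtain ⟨d, hd⟩ := h.mul u u
    obtain ⟨d₁, -, hd₁⟩ := h.one_smul'
    rw [hexp, hd₁, smul_smul] at hd
    have h1 : b u * b u * b v = (c / c') ^ 2 • (b v * (b u * b u)) := by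
      rw [mul_assoc, he, mul_smul_comm, ← mul_assoc, he, smul_mul_assoc, smul_smul, pow_two, mul_assoc]
    rw [hd, smul_mul_assoc, one_mul, mul_smul_comm, mul_one, smul_smul] at h1
    have hd0 : d * d₁ ≠ 0 := fun e' => ((h.unit u).mul (h.unit u)).ne_zero (by rw [hd, e', zero_smul])
    have h3 := smul_left_injective K (h.ne_zero v) h1
    refine sq_eq_one_iff.1 (mul_right_cancel₀ hd0 ?_)
    rw [one_mul]; exact h3.symm
  choose ε hε hεb using hsign
  have huniq : ∀ {u v : U} {t : K}, b u * b v = t • (b v * b u) → ε u v = t := fun {u v t} e' =>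
    smul_left_injective K ((h.unit v).mul (h.unit u)).ne_zero ((hεb u v).symm.trans e')
  have hsymm : ∀ u v, ε v u = ε u v := fun u v => huniq (by
    rw [hεb u v, smul_smul]
    rcases hε u v with e' | e' <;> simp [e'])
  have hself : ∀ u, ε u u = 1 := fun u => huniq (by rw [one_smul])
  have hmulε : ∀ u v x, ε (u * v) x = ε u x * ε v x := by
    intro u v x
    obtain ⟨c, hc⟩ := h.mul u v
    have hc0 : c ≠ 0 := fun e' => ((h.unit u).mul (h.unit v)).ne_zero (by rw [hc, e', zero_smul])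
    refine huniq (smul_right_injective _ hc0 ?_)
    show c • (b (u * v) * b x) = c • ((ε u x * ε v x) • (b x * b (u * v)))
    rw [← smul_mul_assoc, ← hc, mul_assoc, hεb v x, mul_smul_comm, ← mul_assoc, hεb u x,
      smul_mul_assoc, smul_smul, mul_assoc, hc, mul_smul_comm, smul_comm c, mul_comm (ε v x)]
  have hX3 : X ^ 3 * X = 1 := by rw [← pow_succ, h.hX]
  have hpi : ∀ u v, ε (π u) (π v) = ε u v := by
    intro u v
    obtain ⟨c, hc⟩ := h.conj u
    obtain ⟨d, hd⟩ := h.conj v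
    have hz : ∀ u (c : K), X * b u * X ^ 3 = c • b (π u) → c ≠ 0 := fun u c hc e' => by
      rw [e', zero_smul] at hc
      have h1 : X ^ 3 * (X * b u * X ^ 3) * X = b u := by
        rw [← mul_assoc, ← mul_assoc, hX3, one_mul, mul_assoc, hX3, mul_one]
      rw [hc, mul_zero, zero_mul] at h1
      exact h.ne_zero u h1.symm
    have hcd : c * d ≠ 0 := mul_ne_zero (hz u c hc) (hz v d hd)
    have hprod : ∀ A B : Module.End K W, X * A * X ^ 3 * (X * B * X ^ 3) = X * (A * B) * X ^ 3 := by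
      intro A B
      rw [show X * A * X ^ 3 * (X * B * X ^ 3) = X * A * (X ^ 3 * X) * (B * X ^ 3) by
        simp only [mul_assoc], hX3, mul_one]
      simp only [mul_assoc]
    refine huniq (smul_right_injective _ hcd ?_)
    show (c * d) • (b (π u) * b (π v)) = (c * d) • (ε u v • (b (π v) * b (π u)))
    rw [smul_comm (c * d), ← smul_mul_smul_comm, ← hc, ← hd, mul_comm c d, ← smul_mul_smul_comm,
      ← hc, ← hd]
    show X * b u * X ^ 3 * (X * b v * X ^ 3) = ε u v • (X * b v * X ^ 3 * (X * b u * X ^ 3))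
    rw [hprod, hprod, hεb u v, mul_smul_comm, smul_mul_assoc]
  have hεfe : ε f e = 1 := by
    have h1 := hpi g e
    rw [hπg, hπe, hmulε] at h1
    have h3 : ε g e ≠ 0 := by rcases hε g e with e' | e' <;> rw [e'] <;> simp
    exact mul_right_cancel₀ h3 (by rw [h1, one_mul])
  have hεge : ε g e = 1 := by
    have h1 := hpi g f
    rw [hπg, hπf, hmulε, hsymm (e * f) f, hsymm (e * f) g, hmulε, hmulε, hself, hsymm f e, hεfe,
      hsymm f g, hsymm g e] at h1
    have h3 : ε f g ≠ 0 := by rcases hε f g with e' | e' <;> rw [e'] <;> simp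
    rw [one_mul, one_mul] at h1
    exact mul_right_cancel₀ h3 (by rw [h1, one_mul])
  have hnd : ∀ u, (∀ v, ε u v = 1) → u = 1 := fun u hu => h.eq_one_of_commute fun v => by
    show b u * b v = b v * b u
    rw [hεb u v, hu v, one_smul]
  obtain ⟨h₀, hh₀⟩ : ∃ u, ε u e = -1 := by
    by_contra hcon
    push Not at hcon
    exact he1 (hnd e fun v => by rw [hsymm v e]; exact (hε v e).resolve_right (hcon v))
  obtain ⟨k₀, hk₀e, hk₀f⟩ : ∃ u, ε u e = 1 ∧ ε u f = -1 := by
    by_contra hcon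
    push Not at hcon
    have hker : ∀ u, ε u e = 1 → ε u f = 1 := fun u hu => (hε u f).resolve_right (hcon u hu)
    have key : ∀ u, ε u e = -1 → ε u f = ε h₀ f := fun u hu => by
      have h1 := hker (u * h₀) (by rw [hmulε, hu, hh₀]; simp)
      rw [hmulε] at h1
      have h3 : ε h₀ f * ε h₀ f = 1 := by rcases hε h₀ f with e'' | e'' <;> rw [e''] <;> simp
      rw [← mul_one (ε u f), ← h3, ← mul_assoc, h1, one_mul]
    rcases hε h₀ f with ht | ht
    · refine hf1 (hnd f fun v => ?_)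
      rw [hsymm v f]
      rcases hε v e with e' | e'
      · exact hker v e'
      · rw [key v e', ht]
    · have hef : e * f = 1 := hnd (e * f) fun v => by
        rw [hsymm v, hsymm (e * f) v, hmulε, hsymm v e, hsymm v f]
        rcases hε v e with e' | e'
        · rw [e', hker v e', one_mul]
        · rw [e', key v e', ht]; simp
      rw [← hπf] at hef
      exact hf1 (π.injective (by rw [hef, map_one]))
  -- the count
  obtain ⟨hc, -, hMm⟩ := split 2 h2 hZ
  set k := Module.finrank K (LinearMap.ker (X - 1)) with hk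
  set j := Module.finrank K (LinearMap.range (X - 1)) with hjd
  have hd : j + k = Module.finrank K W := LinearMap.finrank_range_add_finrank_ker _
  have hk0 : k ≠ 0 := fun h0 => hg₀ (by
    rw [← hπ2]
    refine h.fixed_of_scalar (c := -1) (LinearMap.ext fun v => ?_) _
    have htop : LinearMap.range (X - 1) = ⊤ := Submodule.eq_top_of_finrank_eq (by omega)
    rw [(hMm v).2 (htop ▸ Submodule.mem_top), LinearMap.smul_apply, Module.End.one_apply,
      neg_one_smul])
  have hj0 : j ≠ 0 := fun h0 => hg₀ (by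
    rw [← hπ2]
    refine h.fixed_of_scalar (c := 1) ?_ _
    have hX1 : X = 1 := sub_eq_zero.1 (LinearMap.range_eq_bot.1 (Submodule.finrank_eq_zero.1 h0))
    rw [hX1, one_pow, one_smul])
  have hσ4 : (π : U ≃ U) ^ 4 = 1 := by
    rw [show (π : U ≃ U) = toPermHom π from rfl, ← map_pow, h.hπ, map_one]
  obtain ⟨R, hR, hR4⟩ := exists_reps_four (π : U ≃ U) hσ4
  obtain ⟨R', -, a, bb, -, hcard, -, -⟩ := CfsgLib.HHExponent.exists_reps (π : U ≃ U) 2 2
    (by norm_num) hσ4
  have hCeq := card_fix π 2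
  have hFeq := card_fix π 1
  simp only [pow_one] at hFeq
  simp only [show (2 : ℕ) - 1 = 1 from rfl, pow_one, show (2 : ℕ) ^ 2 = 4 from rfl] at hcard
  rw [hCeq] at hR4 hcard
  rw [hFeq] at hR4
  have hlt1 : fixSub (π ^ 2) < ⊤ := lt_top_iff_ne_top.2 fun e' => hg₀ (by
    have := mem_fixSub.1 (e' ▸ Subgroup.mem_top g₀)
    rwa [hπ2] at this)
  have hlt2 : fixSub π < fixSub (π ^ 2) := by
    refine lt_of_le_of_ne (fun u hu => ?_) fun e' => he1 ?_
    · rw [mem_fixSub] at hu ⊢
      rw [hπ2, hu, hu]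
    · have hfm : f ∈ fixSub (π ^ 2) := by
        rw [mem_fixSub, hπ2, hπf, map_mul, hπe, hπf, hsq]
      rw [← e', mem_fixSub, hπf] at hfm
      exact mul_eq_right.1 hfm
  have hC := mul_card_le hU hlt1
  have hF := mul_card_le hU hlt2
  rw [Subgroup.card_top, Nat.card_eq_fintype_card (α := U)] at hC
  have hlow := (le_finrank_comm hc hj).trans (h.comm_le R hR)
  rw [← hk, ← hjd] at hlow
  have hF1 : 1 ≤ Nat.card (fixSub π) := Nat.card_pos
  obtain ⟨i, hi⟩ := dim_pow h hU
  rw [h.card_eq] at hC hR4 hcard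
  rw [← hd] at hC hR4 hi hcard
  clear_value j k
  have hmain : 2 * (k ^ 2 + j) ≤ (j + k) ^ 2 := by omega
  obtain rfl | rfl : j = 1 ∨ j = 2 := by omega
  · have hk1 : k ≤ 1 := by nlinarith
    obtain rfl : k = 1 := by omega
    omega
  have hk4 : k ≤ 4 := by nlinarith
  have hi3 : i < 3 := by
    by_contra h3
    have := Nat.pow_le_pow_right (show 1 ≤ 2 by norm_num) (show 3 ≤ i by omega)
    omega
  obtain rfl : k = 2 := by interval_cases i <;> omega
  -- the residual configuration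
  have hWd : Module.finrank K W = 4 := hd.symm
  obtain ⟨de, hde⟩ := h.mul e e
  obtain ⟨d₁, -, hd₁⟩ := h.one_smul'
  rw [hexp, hd₁, smul_smul] at hde
  obtain ⟨μ, hμ⟩ := IsAlgClosed.exists_pow_nat_eq (de * d₁) two_pos
  have hμ0 : μ ≠ 0 := fun h0 => ((h.unit e).mul (h.unit e)).ne_zero (by
    rw [hde, ← hμ, h0, zero_pow two_ne_zero, zero_smul])
  set E₀ := μ⁻¹ • b e with hE₀
  have hE₀2 : E₀ * E₀ = 1 := by
    rw [hE₀, smul_mul_smul_comm, hde, smul_smul, ← hμ,
      show μ⁻¹ * μ⁻¹ * μ ^ 2 = 1 by field_simp, one_smul]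
  have hcomE : ∀ u, ε u e = 1 → Commute E₀ (b u) := fun u hu => by
    refine Commute.smul_left ?_ _
    show b e * b u = b u * b e
    rw [hεb e u, hsymm u e, hu, one_smul]
  obtain ⟨cg, hcg⟩ := h.pow_conj 2 g
  rw [hπ2, hπ2g] at hcg
  obtain ⟨ceg, hceg⟩ := h.mul g e
  rw [h.comm g e] at hceg
  have hceg0 : ceg ≠ 0 := fun e' => ((h.unit g).mul (h.unit e)).ne_zero (by rw [hceg, e', zero_smul])
  have hX6 : (X ^ (4 - 1)) ^ 2 = X ^ 2 := by
    rw [← pow_mul, show (4 - 1) * 2 = 4 + 2 from rfl, pow_add, h.hX, one_mul]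
  rw [hX6] at hcg
  set κ := cg * ceg⁻¹ * μ with hκdef
  have hκ : X ^ 2 * b g * X ^ 2 = κ • (b g * E₀) := by
    rw [hcg, hE₀, mul_smul_comm, hceg, smul_smul, smul_smul, hκdef]
    congr 1
    field_simp
  have hX22 : X ^ 2 * X ^ 2 = 1 := by rw [← pow_add]; exact h.hX
  have hκ2 : κ = 1 ∨ κ = -1 := by
    have h1 := congrArg (fun A => A * A) hκ
    simp only [smul_mul_smul_comm] at h1
    obtain ⟨dg, hdg⟩ := h.mul g g
    rw [hexp, hd₁, smul_smul] at hdg
    rw [show X ^ 2 * b g * X ^ 2 * (X ^ 2 * b g * X ^ 2) = X ^ 2 * b g * (X ^ 2 * X ^ 2) * (b g * X ^ 2)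
        by simp only [mul_assoc], hX22, mul_one, show X ^ 2 * b g * (b g * X ^ 2) =
        X ^ 2 * (b g * b g) * X ^ 2 by simp only [mul_assoc], hdg,
      show b g * E₀ * (b g * E₀) = b g * (E₀ * b g) * E₀ by simp only [mul_assoc],
      (hcomE g hεge).eq, show b g * (b g * E₀) * E₀ = b g * b g * (E₀ * E₀) by simp only [mul_assoc],
      hE₀2, hdg, mul_one, mul_smul_comm, mul_one, smul_mul_assoc, hX22, smul_smul] at h1
    have hg0 : dg * d₁ ≠ 0 := fun e' => ((h.unit g).mul (h.unit g)).ne_zero (by rw [hdg, e', zero_smul])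
    have h3 := smul_left_injective K (one_ne_zero (α := Module.End K W)) h1
    refine sq_eq_one_iff.1 (mul_right_cancel₀ hg0 ?_)
    rw [one_mul, pow_two]
    exact h3.symm
  set E := (-κ) • E₀ with hEdef
  have hE2 : E * E = 1 := by
    rw [hEdef, smul_mul_smul_comm, hE₀2]
    rcases hκ2 with e' | e' <;> simp [e']
  have hcomE' : ∀ u, ε u e = 1 → Commute E (b u) := fun u hu => (hcomE u hu).smul_left _
  obtain ⟨cE, hcE⟩ := h.conj e
  rw [hπe] at hcE
  have hXE : ∃ c : K, (c = 1 ∨ c = -1) ∧ X * E = c • (E * X) := by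
    have h1 : X * E * X ^ 3 = cE • E := by
      rw [hEdef, hE₀, smul_smul, mul_smul_comm, smul_mul_assoc, hcE, smul_comm]
    refine ⟨cE, ?_, ?_⟩
    · have h3 := congrArg (fun A => A * A) h1
      simp only [smul_mul_smul_comm, hE2] at h3
      rw [show X * E * X ^ 3 * (X * E * X ^ 3) = X * E * (X ^ 3 * X) * (E * X ^ 3) by
        simp only [mul_assoc], hX3, mul_one, show X * E * (E * X ^ 3) = X * (E * E) * X ^ 3 by
        simp only [mul_assoc], hE2, mul_one, ← pow_succ', h.hX] at h3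
      refine sq_eq_one_iff.1 (smul_left_injective K (one_ne_zero (α := Module.End K W)) ?_)
      show cE ^ 2 • (1 : Module.End K W) = (1 : K) • 1
      rw [one_smul, pow_two]
      exact h3.symm
    · rw [← smul_mul_assoc, ← h1, mul_assoc, hX3, mul_one]
  have hZG : X ^ 2 * b g = -(b g * E * X ^ 2) := by
    rw [hEdef, mul_smul_comm, smul_mul_assoc, neg_smul, neg_neg, ← smul_mul_assoc, ← hκ, mul_assoc,
      hX22, mul_one]
  obtain ⟨cfg, hcfg⟩ := h.mul f g
  have hcfg0 : cfg ≠ 0 := fun e' => ((h.unit f).mul (h.unit g)).ne_zero (by rw [hcfg, e', zero_smul])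
  obtain ⟨cX, hcX⟩ := h.conj g
  rw [hπg] at hcX
  have hXG : X * b g = (cX * cfg⁻¹) • (b f * b g * X) := by
    rw [hcfg, smul_mul_assoc, smul_smul, mul_assoc, inv_mul_cancel₀ hcfg0, mul_one, ← smul_mul_assoc,
      ← hcX, mul_assoc]
    show X * b g = X * b g * (X ^ 3 * X)
    rw [hX3, mul_one]
  have hcXG0 : cX * cfg⁻¹ ≠ 0 := fun e' => by
    rw [e', zero_smul] at hXG
    have : X ^ 3 * (X * b g) = b g := by rw [← mul_assoc, hX3, one_mul]
    rw [hXG, mul_zero] at this
    exact h.ne_zero g this.symm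
  refine residual (G := b g) (F := b f) (E := E) (H := b k₀) (h0 := b h₀) h2 h.hX hZ hWd hjd.symm hE2
    (hcomE' g hεge) (hcomE' f hεfe) (h.unit g) (h.unit k₀) (h.unit h₀) ?_ hXE hZG hcXG0 hXG
    (hcomE' k₀ hk₀e) ?_
  · rw [hEdef, hE₀, smul_smul, smul_mul_assoc, mul_smul_comm, hεb e h₀, hsymm h₀ e, hh₀]
    simp
  · rw [hεb k₀ f, hk₀f, neg_one_smul]

/-- Both cases. -/
theorem no_move_any [IsAlgClosed K] [FiniteDimensional K W] [Nontrivial W] {s : ℕ}
    [hs : Fact s.Prime] (n : ℕ) (hn : 2 ≤ n) (hs3 : n = 2 → s ≠ 3)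
    {b : Module.Basis U K (Module.End K W)} {X : Module.End K W} {π : MulAut U}
    (h : TwistBasis b X π (2 ^ n)) (hexp : ∀ u : U, u ^ s = 1) (h2 : (2 : K) ≠ 0)
    (hj : Module.finrank K (LinearMap.range (X - 1)) ≤ 2)
    (hZ : (X ^ 2 ^ (n - 1) + 1) * (X - 1) = 0) : ∀ u, (π ^ 2 ^ (n - 1)) u = u := by
  by_cases hs2 : s = 2
  · subst hs2
    have hk : 2 ^ (n - 2) * 2 = 2 ^ (n - 1) := by rw [← pow_succ]; congr 1; omega
    have hk4 : 2 ^ (n - 2) * 4 = 2 ^ n := by
      rw [show (4 : ℕ) = 2 ^ 2 by norm_num, ← pow_add]; congr 1; omega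
    have h4 := h.pow hk4
    have hres := no_move_two h4 (fun u => by rw [← pow_two]; exact hexp u) h2
      (le_trans (Submodule.finrank_mono (range_pow_le X _)) hj)
      (by rw [← pow_mul, hk]; exact pow_sub_one_kill hZ _)
    rw [← hk, pow_mul]
    exact hres
  · exact no_move hs2 n hn hs3 h (fun u => ⟨1, by rw [pow_one]; exact hexp u⟩) h2 hj hZ

end CfsgLib.GrossTwo
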