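import Cfsg.Agent.GrossTwo.Twist
import Cfsg.Agent.GrossTwo.ClassTwo
import Cfsg.Agent.GrossTwo.Factors
import Cfsg.Agent.GrossTwo.NoMove
import Cfsg.Agent.HallHigman.Exponent.Count
import Cfsg.Agent.Solvable.Fitting

/-!
A solvable linear group in odd characteristic with an element moving at most a plane, whose
involution is `-1` on the moved vectors: the normal closure of that involution is a 2-group.
-/

set_option autoImplicit false
set_option linter.style.haveILetI false
set_option linter.unusedSectionVars false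

namespace CfsgLib.GrossTwo

open Subgroup
open CfsgLib.HallHigman (weight mem_weight subRep subRep_apply rep_mul rep_inv_self quotRep
  quotRep_apply)

universe u v w

variable {K : Type w} [Field K] {G : Type u} [Group G] {V : Type v} [AddCommGroup V] [Module K V]

/-- The conjugate of a weight. -/
def twistW {A : Subgroup G} [hA : A.Normal] (g : G) (l : A → K) : A → K := fun a =>
  l ⟨g⁻¹ * a * g, by simpa using hA.conj_mem _ a.2 g⁻¹⟩

theorem twistW_mul {A : Subgroup G} [A.Normal] (g h : G) (l : A → K) :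
    twistW g (twistW h l) = twistW (g * h) l :=
  funext fun a => congrArg l (Subtype.ext (by show h⁻¹ * (g⁻¹ * a * g) * h = _; group))

theorem twistW_one {A : Subgroup G} [A.Normal] (l : A → K) : twistW (1 : G) l = l :=
  funext fun a => congrArg l (Subtype.ext (by simp))

theorem map_weight (ρ : Representation K G V) {A : Subgroup G} [A.Normal] {l : A → K} (g : G) {w : V}
    (hw : w ∈ weight (fun a : A => ρ (a : G)) l) :
    ρ g w ∈ weight (fun a : A => ρ (a : G)) (twistW g l) := by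
  refine mem_weight.2 fun a => ?_
  show ρ (a : G) (ρ g w) = twistW g l a • ρ g w
  unfold twistW
  rw [← map_smul, ← mem_weight.1 hw, ← rep_mul, ← rep_mul]
  exact congrArg (fun t => ρ t w) (by group)

/-- The stabiliser of a weight. -/
def weightStab {A : Subgroup G} [A.Normal] (l : A → K) : Subgroup G where
  carrier := {g | twistW g l = l}
  one_mem' := twistW_one l
  mul_mem' := fun {g h} (hg : twistW g l = l) (hh : twistW h l = l) => by
    show twistW (g * h) l = l
    rw [← twistW_mul, hh, hg]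
  inv_mem' := fun {g} (hg : twistW g l = l) => by
    show twistW g⁻¹ l = l
    conv_lhs => rw [← hg, twistW_mul, inv_mul_cancel, twistW_one]

theorem mem_weightStab {A : Subgroup G} [A.Normal] {l : A → K} {g : G} :
    g ∈ weightStab l ↔ twistW g l = l := Iff.rfl

/-- Elements commuting with the action of `A` on a weight space stabilise the weight space. -/
theorem weight_invariant (ρ : Representation K G V) {A : Subgroup G} [A.Normal] {l : A → K} {g : G}
    (hg : g ∈ weightStab l) {w : V} (hw : w ∈ weight (fun a : A => ρ (a : G)) l) :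
    ρ g w ∈ weight (fun a : A => ρ (a : G)) l := by
  have := map_weight ρ g hw
  rwa [mem_weightStab.1 hg] at this

/-- An element moving at most a plane: its involution fixes every weight, and is `-1` on a weight
that is moved. -/
theorem fixed_or_neg [FiniteDimensional K V] (ρ : Representation K G V) {A : Subgroup G} [A.Normal]
    {l : A → K} (hl : weight (fun a : A => ρ (a : G)) l ≠ ⊥) (x : G) (n : ℕ) (hn : 2 ≤ n)
    (hx : x ^ 2 ^ n = 1) (hrk : Module.finrank K (LinearMap.range (ρ x - 1)) ≤ 2)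
    (hZ : (ρ (x ^ 2 ^ (n - 1)) + 1) * (ρ x - 1) = 0) :
    x ^ 2 ^ (n - 1) ∈ weightStab l ∧ (x ∉ weightStab l →
      ∀ w ∈ weight (fun a : A => ρ (a : G)) l, ρ (x ^ 2 ^ (n - 1)) w = -w) := by
  classical
  set z := x ^ 2 ^ (n - 1) with hz
  have hN4 : 4 ≤ 2 ^ n := by
    rw [show (4 : ℕ) = 2 ^ 2 by norm_num]; exact Nat.pow_le_pow_right two_pos hn
  have hfix : z ∈ weightStab l := by
    by_contra hzm
    have hmove : ∀ d : ℕ, 1 ≤ d → d ≤ 3 → x ^ d ∉ weightStab l := by
      intro d h1 h3 hd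
      refine hzm ?_
      obtain rfl | hodd : d = 2 ∨ (d = 1 ∨ d = 3) := by omega
      · have : z = (x ^ 2) ^ 2 ^ (n - 2) := by
          rw [hz, ← pow_mul, ← pow_succ']; congr 2; omega
        rw [this]; exact pow_mem hd _
      · obtain ⟨m, hm⟩ := exists_pow_eq_self_of_coprime (x := x) (n := d) (by
          refine Nat.Coprime.coprime_dvd_right (orderOf_dvd_of_pow_eq_one hx) (Nat.Coprime.pow_right _ ?_)
          rcases hodd with rfl | rfl <;> decide)
        rw [hz, ← hm]
        exact pow_mem (pow_mem hd _) _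
    obtain ⟨w, hw, hw0⟩ := (weight (fun a : A => ρ (a : G)) l).exists_mem_ne_zero_of_ne_bot hl
    have hli := CfsgLib.HallHigman.linearIndependent_weight (fun a : A => ρ (a : G))
      (fun i : Fin 4 => ρ (x ^ (i : ℕ)) w) (fun i : Fin 4 => twistW (x ^ (i : ℕ)) l) ?_
      (fun i => map_weight ρ _ hw)
      (fun i hi => hw0 (by rw [← rep_inv_self ρ (x ^ (i : ℕ)) w, hi, map_zero]))
    swap
    · have key : ∀ i j : Fin 4, (i : ℕ) < j →
          twistW (x ^ (i : ℕ)) l ≠ twistW (x ^ (j : ℕ)) l := by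
        intro i j hij e
        refine hmove ((j : ℕ) - i) (by omega) (by omega) ?_
        rw [mem_weightStab]
        have h1 := congrArg (twistW (A := A) (x ^ (i : ℕ))⁻¹) e
        rw [twistW_mul, twistW_mul, inv_mul_cancel, twistW_one, ← Nat.add_sub_cancel' hij.le, pow_add,
          inv_mul_cancel_left] at h1
        exact h1.symm
      intro i j e
      rcases lt_trichotomy (i : ℕ) (j : ℕ) with h | h | h
      · exact absurd e (key i j h)
      · exact Fin.ext h
      · exact absurd e.symm (key j i h)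
    have h3 : LinearIndependent K fun i : Fin 3 => (ρ x - 1) (ρ (x ^ (i : ℕ)) w) := by
      rw [Fintype.linearIndependent_iff] at hli ⊢
      intro g hg
      have hsum := hli ![-(g 0), g 0 - g 1, g 1 - g 2, g 2] (by
        rw [← hg, Fin.sum_univ_four, Fin.sum_univ_three]
        simp only [LinearMap.sub_apply, Module.End.one_apply, ← rep_mul, ← pow_succ']
        simp only [Fin.val_zero, Fin.val_one, Fin.val_two, Matrix.cons_val_zero, Matrix.cons_val_one,
          Matrix.cons_val, show ((3 : Fin 4) : ℕ) = 3 from rfl, smul_sub, sub_smul, neg_smul]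
        abel)
      have e0 := hsum 0
      have e3 := hsum 3
      have e2 := hsum 2
      simp at e0 e2 e3
      intro i
      fin_cases i
      · simpa using e0
      · simpa [e3] using e2
      · simpa using e3
    have h4 : Fintype.card (Fin 3) ≤ Module.finrank K (LinearMap.range (ρ x - 1)) :=
      (LinearIndependent.of_comp (LinearMap.range (ρ x - 1)).subtype
        (v := fun i : Fin 3 => (⟨_, LinearMap.mem_range_self (ρ x - 1) (ρ (x ^ (i : ℕ)) w)⟩ :
          LinearMap.range (ρ x - 1))) h3).fintype_card_le_finrank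
    rw [Fintype.card_fin] at h4
    omega
  refine ⟨hfix, fun hxm w hw => ?_⟩
  have h1 := LinearMap.congr_fun hZ w
  rw [Module.End.mul_apply, LinearMap.zero_apply, LinearMap.sub_apply, Module.End.one_apply, map_sub,
    sub_eq_zero] at h1
  simp only [LinearMap.add_apply, Module.End.one_apply] at h1
  have hl1 : ρ z w + w ∈ weight (fun a : A => ρ (a : G)) l :=
    add_mem (weight_invariant ρ hfix hw) hw
  have hl2 : ρ z w + w ∈ weight (fun a : A => ρ (a : G)) (twistW x l) := by
    rw [← h1]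
    refine add_mem ?_ (map_weight ρ x hw)
    rw [← rep_mul, show z * x = x * z from ((Commute.refl x).pow_left _).eq, rep_mul]
    exact map_weight ρ x (weight_invariant ρ hfix hw)
  refine eq_neg_of_add_eq_zero_left (CfsgLib.HallHigman.eq_zero_of_mem_sup (fun a : A => ρ (a : G))
    {twistW x l} l ?_ _ hl1 (by simpa using hl2))
  rw [Finset.mem_singleton]
  exact fun e => hxm e.symm

/-- In an irreducible representation, operators agreeing on all weight spaces are equal. -/
theorem eq_of_eqOn_weights [IsAlgClosed K] [FiniteDimensional K V] [Nontrivial V]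
    (ρ : Representation K G V)
    (hirr : ∀ W : Submodule K V, (∀ g : G, ∀ w ∈ W, ρ g w ∈ W) → W = ⊥ ∨ W = ⊤)
    {A : Subgroup G} [A.Normal] (hA : ∀ a ∈ A, ∀ b ∈ A, Commute (ρ a) (ρ b)) {φ ψ : Module.End K V}
    (h : ∀ l : A → K, weight (fun a : A => ρ (a : G)) l ≠ ⊥ →
      ∀ w ∈ weight (fun a : A => ρ (a : G)) l, φ w = ψ w) : φ = ψ := by
  set S : Submodule K V := ⨆ l : A → K, weight (fun a : A => ρ (a : G)) l with hS
  have hSi : ∀ g : G, ∀ w ∈ S, ρ g w ∈ S := by
    intro g w hw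
    refine Submodule.iSup_induction _ (motive := fun w => ρ g w ∈ S) hw (fun l u hu => ?_) ?_ ?_
    · exact Submodule.mem_iSup_of_mem (twistW g l) (map_weight ρ g hu)
    · rw [map_zero]; exact zero_mem _
    · intro a b ha hb; rw [map_add]; exact add_mem ha hb
  obtain ⟨l₀, hl₀⟩ := CfsgLib.HallHigman.exists_weight (fun a : A => ρ (a : G))
    (fun a b => hA a a.2 b b.2)
  have htop : S = ⊤ := (hirr S hSi).resolve_left fun e => hl₀ (eq_bot_iff.2
    (e ▸ le_iSup (fun l : A → K => weight (fun a : A => ρ (a : G)) l) l₀))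
  refine LinearMap.ext fun v => ?_
  have hv : v ∈ S := htop ▸ Submodule.mem_top
  refine Submodule.iSup_induction _ (motive := fun w => φ w = ψ w) hv (fun l u hu => ?_) ?_ ?_
  · rcases eq_or_ne (weight (fun a : A => ρ (a : G)) l) ⊥ with e | e
    · rw [e, Submodule.mem_bot] at hu; rw [hu, map_zero, map_zero]
    · exact h l e u hu
  · rw [map_zero, map_zero]
  · intro a b ha hb; rw [map_add, map_add, ha, hb]

/-- The involution centralises every abelian normal subgroup. -/
theorem commute_abelian [IsAlgClosed K] [FiniteDimensional K V] [Nontrivial V]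
    (ρ : Representation K G V) (hinj : Function.Injective ρ)
    (hirr : ∀ W : Submodule K V, (∀ g : G, ∀ w ∈ W, ρ g w ∈ W) → W = ⊥ ∨ W = ⊤)
    (x : G) (n : ℕ) (hn : 2 ≤ n) (hx : x ^ 2 ^ n = 1)
    (hrk : Module.finrank K (LinearMap.range (ρ x - 1)) ≤ 2)
    (hZ : (ρ (x ^ 2 ^ (n - 1)) + 1) * (ρ x - 1) = 0) (A : Subgroup G) [A.Normal]
    (hA : ∀ a ∈ A, ∀ b ∈ A, a * b = b * a) (a : G) (ha : a ∈ A) :
    Commute (x ^ 2 ^ (n - 1)) a := hinj (by
  rw [map_mul, map_mul]
  refine eq_of_eqOn_weights ρ hirr (fun a ha b hb => (show Commute a b from hA a ha b hb).map ρ)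
    fun l hl w hw => ?_
  have h1 := weight_invariant ρ (fixed_or_neg ρ hl x n hn hx hrk hZ).1 hw
  rw [Module.End.mul_apply, Module.End.mul_apply, mem_weight.1 hw ⟨a, ha⟩, map_smul,
    mem_weight.1 h1 ⟨a, ha⟩])

theorem finrank_range_subRep_le [FiniteDimensional K V] (ρ : Representation K G V) (H : Subgroup G)
    (W : Submodule K V) (hW : ∀ h ∈ H, ∀ w ∈ W, ρ h w ∈ W) (h : H) :
    Module.finrank K (LinearMap.range (subRep ρ H W hW h - 1)) ≤
      Module.finrank K (LinearMap.range (ρ (h : G) - 1)) := by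
  rw [← Submodule.finrank_map_subtype_eq]
  refine Submodule.finrank_mono ?_
  rintro _ ⟨_, ⟨u, rfl⟩, rfl⟩
  exact ⟨(u : V), rfl⟩

theorem subRep_kill (ρ : Representation K G V) (H : Subgroup G)
    (W : Submodule K V) (hW : ∀ h ∈ H, ∀ w ∈ W, ρ h w ∈ W) (y h : H)
    (hk : (ρ (y : G) + 1) * (ρ (h : G) - 1) = 0) :
    (subRep ρ H W hW y + 1) * (subRep ρ H W hW h - 1) = 0 :=
  LinearMap.ext fun w => Subtype.ext (LinearMap.congr_fun hk (w : V))

/-- The weight-space step: on an invariant space where the commutators of a normal `s`-subgroup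
are scalar. -/
theorem commute_step [IsAlgClosed K] [FiniteDimensional K V] [Nontrivial V] [Finite G]
    (ρ : Representation K G V) (h2 : (2 : K) ≠ 0) (x : G) (n : ℕ) (hn : 2 ≤ n)
    (hx : x ^ 2 ^ n = 1) (hrk : Module.finrank K (LinearMap.range (ρ x - 1)) ≤ 2)
    (hZ : (ρ (x ^ 2 ^ (n - 1)) + 1) * (ρ x - 1) = 0)
    (s : ℕ) [Fact s.Prime] (hs3 : n = 2 → s ≠ 3) (Q : Subgroup G) [Q.Normal]
    (hgen : Q ⊔ zpowers x = ⊤)
    (htw : ∀ g ∈ Q, ∀ h ∈ Q, ∃ c : K, ρ g * ρ h = c • (ρ h * ρ g))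
    (hpw : ∀ g ∈ Q, ∀ h ∈ Q, Commute (ρ (g ^ s)) (ρ h)) :
    ∀ g ∈ Q, ∀ h ∈ Q, Commute
      (ρ (x ^ 2 ^ (n - 1) * g * (x ^ 2 ^ (n - 1))⁻¹ * g⁻¹)) (ρ h) := by
  classical
  set z := x ^ 2 ^ (n - 1) with hz
  set R1 := CfsgLib.HHExponent.rad ρ Q with hR1
  haveI : R1.Normal := ⟨fun r hr g => CfsgLib.HHExponent.conj_mem_rad ρ
    (by rw [Subgroup.normalizer_eq_top]; exact mem_top g) hr⟩
  have hR1c : ∀ a ∈ R1, ∀ b ∈ R1, Commute (ρ a) (ρ b) := fun a ha b hb => ha.2 b hb.1
  obtain ⟨l, hl⟩ := CfsgLib.HallHigman.exists_weight (fun a : R1 => ρ (a : G))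
    (fun a b => hR1c a a.2 b b.2)
  obtain ⟨hzl, hneg⟩ := fixed_or_neg ρ hl x n hn hx hrk hZ
  have hQl : ∀ g ∈ Q, ∀ w ∈ weight (fun a : R1 => ρ (a : G)) l,
      ρ g w ∈ weight (fun a : R1 => ρ (a : G)) l := fun g hg w hw => mem_weight.2 fun a => by
    have hc : Commute (ρ (a : G)) (ρ g) := a.2.2 g hg
    rw [← Module.End.mul_apply, hc.eq, Module.End.mul_apply, mem_weight.1 hw a, map_smul]
  by_cases hxl : x ∈ weightStab l
  swap
  · -- the involution is scalar on the weight space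
    intro g hg h hh
    set d := z * g * z⁻¹ * g⁻¹ with hd
    have hdQ : d ∈ Q := mul_mem (Subgroup.Normal.conj_mem inferInstance g hg z) (inv_mem hg)
    have hzn : ∀ w ∈ weight (fun a : R1 => ρ (a : G)) l, ρ z w = -w := hneg hxl
    have hzi : ∀ w ∈ weight (fun a : R1 => ρ (a : G)) l, ρ z⁻¹ w = -w := fun w hw => by
      have h1 := congrArg (ρ z⁻¹) (hzn w hw)
      rw [rep_inv_self, map_neg] at h1
      exact (neg_eq_iff_eq_neg.2 h1).symm
    have hd1 : ∀ w ∈ weight (fun a : R1 => ρ (a : G)) l, ρ d w = w := fun w hw => by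
      have hgi := hQl g⁻¹ (inv_mem hg) w hw
      rw [hd, rep_mul, rep_mul, rep_mul, hzi _ hgi, map_neg, CfsgLib.HallHigman.rep_self_inv, map_neg,
        hzn w hw, neg_neg]
    obtain ⟨c, hc⟩ := htw d hdQ h hh
    obtain ⟨w, hw, hw0⟩ := (weight (fun a : R1 => ρ (a : G)) l).exists_mem_ne_zero_of_ne_bot hl
    have h1 := LinearMap.congr_fun hc w
    rw [Module.End.mul_apply, LinearMap.smul_apply, Module.End.mul_apply, hd1 _ (hQl h hh w hw),
      hd1 w hw] at h1
    have hne : ρ h w ≠ 0 := fun e => hw0 (by rw [← rep_inv_self ρ h w, e, map_zero])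
    have hc1 : c = 1 := smul_left_injective K hne (by
      show c • ρ h w = (1 : K) • ρ h w
      rw [one_smul]; exact h1.symm)
    rw [hc1, one_smul] at hc
    exact hc
  -- the radical is scalar on the invariant weight space
  set W2 := weight (fun a : R1 => ρ (a : G)) l
  have hstab : ∀ g : G, g ∈ weightStab l := by
    have : (⊤ : Subgroup G) ≤ weightStab l := by
      rw [← hgen]
      refine sup_le (fun g hg => ?_) (zpowers_le.2 hxl)
      refine mem_weightStab.2 (funext fun a => ?_)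
      obtain ⟨w, hw, hw0⟩ := W2.exists_mem_ne_zero_of_ne_bot hl
      have hne : ρ g w ≠ 0 := fun e => hw0 (by rw [← rep_inv_self ρ g w, e, map_zero])
      refine smul_left_injective K hne ?_
      show twistW g l a • ρ g w = l a • ρ g w
      rw [← mem_weight.1 (map_weight ρ g hw) a, mem_weight.1 (hQl g hg w hw) a]
    exact fun g => this (mem_top g)
  have hW2 : ∀ g : G, ∀ w ∈ W2, ρ g w ∈ W2 := fun g w hw => weight_invariant ρ (hstab g) hw
  haveI : Nontrivial W2 := Submodule.nontrivial_iff_ne_bot.2 hl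
  set σ := wholeSub ρ W2 hW2 with hσ
  have hnd : Nondeg σ Q R1 := by
    refine ⟨CfsgLib.HHExponent.rad_le ρ Q, fun a ha => ⟨l ⟨a, ha⟩, LinearMap.ext fun w =>
      Subtype.ext (mem_weight.1 w.2 ⟨a, ha⟩)⟩, fun g hg h hh => ?_, fun g hg hcm => ⟨hg, fun h hh => ?_⟩⟩
    · obtain ⟨c, hc⟩ := htw g hg h hh
      exact ⟨c, LinearMap.ext fun w => Subtype.ext (LinearMap.congr_fun hc (w : V))⟩
    · obtain ⟨c, hc⟩ := htw g hg h hh
      obtain ⟨w, hw0⟩ := exists_ne (0 : W2)
      have h1 : ρ g (ρ h (w : V)) = ρ h (ρ g (w : V)) :=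
        congrArg Subtype.val (LinearMap.congr_fun (hcm h hh) w)
      have h3 := LinearMap.congr_fun hc (w : V)
      rw [LinearMap.smul_apply, Module.End.mul_apply, Module.End.mul_apply, h1] at h3
      have hne : ρ h (ρ g (w : V)) ≠ 0 := fun e => hw0 (Subtype.ext (by
        show (w : V) = 0
        rw [← rep_inv_self ρ g (w : V), ← rep_inv_self ρ h (ρ g (w : V)), e, map_zero, map_zero]))
      have hc1 : c = 1 := smul_left_injective K hne (by
        show c • ρ h (ρ g (w : V)) = (1 : K) • ρ h (ρ g (w : V))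
        rw [one_smul]; exact h3.symm)
      rw [hc, hc1, one_smul]
  obtain ⟨M, -, hM0, hMi, hMirr⟩ :=
    exists_irreducible σ ⊤ ⊤ top_ne_bot fun _ _ _ _ => Submodule.mem_top
  obtain ⟨W, hWM, hW0, hWi, hWirr⟩ := exists_irreducible σ Q M hM0 fun g _ => hMi g (mem_top g)
  have hxQ : x ∈ normalizer (Q : Set G) := by rw [Subgroup.normalizer_eq_top]; exact mem_top x
  obtain ⟨X, hXm, hXN, hXc⟩ := hnd.exists_inner W hW0 hWi hWirr x hxQ (2 ^ n) (pow_pos two_pos n) hx
  set Y := X ^ (2 ^ n - 1) * σ x with hYdef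
  have hrxY : σ x = X * Y := by
    rw [hYdef, ← mul_assoc, ← pow_succ', Nat.sub_add_cancel (Nat.one_le_two_pow), hXN, one_mul]
  -- `x` preserves W
  have hxW : ∀ w ∈ W, σ x w ∈ W := by
    have hYM : ∀ w ∈ M, Y w ∈ M := fun w hw => by
      rw [hYdef, Module.End.mul_apply]
      exact spanQ_map_mem (fun g _ => hMi g (mem_top g)) (pow_mem_spanQ hXm _) (hMi x (mem_top x) w hw)
    haveI : Nontrivial M := Submodule.nontrivial_iff_ne_bot.2 hM0
    obtain ⟨c, hc⟩ := Module.End.exists_eigenvalue (Y.restrict hYM)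
    obtain ⟨v, hv⟩ := hc.exists_hasEigenvector
    let S : Submodule K W2 := M ⊓ Module.End.eigenspace Y c
    let St : Subgroup G :=
      { carrier := {g | ∀ u ∈ S, σ g u ∈ S ∧ σ g⁻¹ u ∈ S}
        one_mem' := fun u hu => by simp [hu]
        mul_mem' := fun {a b} ha hb u hu => by
          rw [rep_mul, mul_inv_rev, rep_mul]
          exact ⟨(ha _ (hb u hu).1).1, (hb _ (ha u hu).2).2⟩
        inv_mem' := fun {a} ha u hu => ⟨(ha u hu).2, by rw [inv_inv]; exact (ha u hu).1⟩ }
    have hcomY : ∀ g : G, Commute Y (σ g) → ∀ u ∈ S, σ g u ∈ S := fun g hg u hu =>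
      ⟨hMi g (mem_top g) u hu.1, Module.End.mem_eigenspace_iff.2 (by
        rw [← Module.End.mul_apply, hg.eq, Module.End.mul_apply,
          Module.End.mem_eigenspace_iff.1 hu.2, map_smul])⟩
    have hcinv : ∀ g : G, Commute Y (σ g) → Commute Y (σ g⁻¹) := fun g hg => by
      show Y * σ g⁻¹ = σ g⁻¹ * Y
      calc Y * σ g⁻¹ = σ g⁻¹ * (σ g * Y) * σ g⁻¹ := by
            rw [← mul_assoc (σ g⁻¹), ← map_mul, inv_mul_cancel, map_one, one_mul]
        _ = σ g⁻¹ * Y := by
            rw [← hg.eq, mul_assoc, mul_assoc Y, ← map_mul, mul_inv_cancel, map_one, mul_one]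
    have hxY : Commute Y (σ x) := by rw [hrxY]; exact (hXc X hXm).mul_right (Commute.refl Y)
    have hS : (⊤ : Subgroup G) ≤ St := by
      rw [← hgen]
      refine sup_le (fun g hg u hu => ?_) (zpowers_le.2 fun u hu => ?_)
      · have := hXc _ (rho_mem_spanQ (ρ := σ) hg)
        exact ⟨hcomY g this u hu, hcomY _ (hcinv g this) u hu⟩
      · exact ⟨hcomY x hxY u hu, hcomY _ (hcinv x hxY) u hu⟩
    have hSM : S = M := by
      refine (hMirr S inf_le_left fun g _ u hu => ((hS (mem_top g)) u hu).1).resolve_left fun e => ?_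
      have : (v : W2) ∈ S :=
        ⟨v.2, Module.End.mem_eigenspace_iff.2 (congrArg Subtype.val hv.apply_eq_smul)⟩
      rw [e, Submodule.mem_bot] at this
      exact hv.2 (Subtype.ext this)
    intro w hw
    have hwS : w ∈ S := hSM.symm ▸ hWM hw
    rw [hrxY, Module.End.mul_apply, Module.End.mem_eigenspace_iff.1 hwS.2, map_smul]
    exact Submodule.smul_mem _ _ (spanQ_map_mem hWi hXm hw)
  haveI : Nontrivial W := Submodule.nontrivial_iff_ne_bot.2 hW0
  obtain ⟨b, hb, -⟩ := hnd.exists_basis W hWi hW0 hWirr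
  set Xw : Module.End K W := (σ x).restrict hxW with hXw
  have hXwp : ∀ i (w : W), (((Xw ^ i) w : W) : W2) = σ (x ^ i) w := by
    intro i
    induction i with
    | zero => intro w; simp
    | succ i ih =>
      intro w
      rw [pow_succ', pow_succ', Module.End.mul_apply, map_mul, Module.End.mul_apply, ← ih]; rfl
  haveI : Fintype (Q ⧸ R1.subgroupOf Q) := Fintype.ofFinite _
  let π : MulAut (Q ⧸ R1.subgroupOf Q) := CfsgLib.HHExponent.uAct ρ Q ⟨x, hxQ⟩
  have hπi : ∀ i, π ^ i = CfsgLib.HHExponent.uAct ρ Q ⟨x ^ i, pow_mem hxQ i⟩ := fun i => by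
    rw [← map_pow]; rfl
  have hkill : (Xw ^ 2 ^ (n - 1) + 1) * (Xw - 1) = 0 := LinearMap.ext fun w => Subtype.ext (by
    have h1 := LinearMap.congr_fun hZ ((w : W2) : V)
    rw [Module.End.mul_apply, LinearMap.add_apply, Module.End.one_apply, Submodule.coe_add, hXwp,
      LinearMap.zero_apply, Submodule.coe_zero]
    exact Subtype.ext h1)
  have hrkw : Module.finrank K (LinearMap.range (Xw - 1)) ≤ 2 := by
    rw [← Submodule.finrank_map_subtype_eq W (LinearMap.range (Xw - 1)),
      ← Submodule.finrank_map_subtype_eq W2]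
    refine le_trans (Submodule.finrank_mono ?_) hrk
    rintro _ ⟨_, ⟨_, ⟨u, rfl⟩, rfl⟩, rfl⟩
    exact ⟨((u : W2) : V), rfl⟩
  have hres : ∀ (g : Q), ∃ c : K, ∀ w : W, σ (g : G) (w : W2) =
      c • (((b (g : Q ⧸ R1.subgroupOf Q)) w : W) : W2) := fun g => by
    obtain ⟨c, hc⟩ := hnd.exists_smul g
    exact ⟨c, fun w => by rw [hb, resRep_apply, hc, LinearMap.smul_apply]⟩
  have htb : TwistBasis b Xw π (2 ^ n) := by
    refine ⟨fun u v => ?_, fun u v => ?_, fun u => ?_, pow_pos two_pos n, LinearMap.ext fun w =>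
      Subtype.ext (by rw [hXwp, hx, map_one]; rfl), fun u => ?_, ?_⟩
    · induction u using QuotientGroup.induction_on with
      | H g =>
        induction v using QuotientGroup.induction_on with
        | H h =>
          rw [← QuotientGroup.mk_mul, ← QuotientGroup.mk_mul, QuotientGroup.eq, mem_subgroupOf]
          refine hnd.nd _ ((g * h)⁻¹ * (h * g) : Q).2 fun k _ => ?_
          obtain ⟨c, hc⟩ := hnd.twist h h.2 g g.2
          have e : σ (((g * h)⁻¹ * (h * g) : Q) : G) = c • 1 := by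
            show σ (((g : G) * h)⁻¹ * ((h : G) * g)) = _
            rw [map_mul σ _ ((h : G) * g), map_mul σ (h : G) (g : G), hc, ← map_mul σ (g : G) (h : G),
              mul_smul_comm, ← map_mul, inv_mul_cancel, map_one]
          rw [e, smul_mul_assoc, mul_smul_comm, one_mul, mul_one]
    · obtain ⟨c, hc⟩ := hres (u.out * v.out)
      refine ⟨c, LinearMap.ext fun w => Subtype.ext ?_⟩
      have e : ((u.out * v.out : Q) : Q ⧸ R1.subgroupOf Q) = u * v := by
        rw [QuotientGroup.mk_mul, QuotientGroup.out_eq', QuotientGroup.out_eq']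
      rw [← e, LinearMap.smul_apply, Submodule.coe_smul, ← hc, Module.End.mul_apply, hb, hb,
        resRep_apply, resRep_apply, ← rep_mul]
      rfl
    · rw [hb]
      exact IsUnit.map (subRep σ Q W hWi) (Group.isUnit _)
    · obtain ⟨c, hc⟩ := hres ⟨x * (u.out : G) * x⁻¹, Subgroup.Normal.conj_mem inferInstance _ u.out.2 x⟩
      refine ⟨c, LinearMap.ext fun w => Subtype.ext ?_⟩
      have e : π u = ((⟨x * (u.out : G) * x⁻¹, Subgroup.Normal.conj_mem inferInstance _ u.out.2 x⟩ : Q) :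
          Q ⧸ R1.subgroupOf Q) := by
        conv_lhs => rw [← QuotientGroup.out_eq' u]
        exact CfsgLib.HHExponent.uAct_mk ρ Q ⟨x, hxQ⟩ u.out
      rw [e, LinearMap.smul_apply, Submodule.coe_smul, ← hc, Module.End.mul_apply, Module.End.mul_apply,
        hb]
      show σ x (σ (repOf u) (((Xw ^ (2 ^ n - 1)) w : W) : W2)) = _
      have hxi : x ^ (2 ^ n - 1) = x⁻¹ := eq_inv_of_mul_eq_one_left (by
        rw [← pow_succ, Nat.sub_add_cancel Nat.one_le_two_pow, hx])
      rw [hXwp, hxi, ← rep_mul, ← rep_mul]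
      rfl
    · rw [hπi]
      rw [show (⟨x ^ 2 ^ n, pow_mem hxQ _⟩ : normalizer (Q : Set G)) = 1 from Subtype.ext hx, map_one]
  have hexp : ∀ u : Q ⧸ R1.subgroupOf Q, u ^ s = 1 := fun u => by
    induction u using QuotientGroup.induction_on with
    | H g =>
      rw [← QuotientGroup.mk_pow]
      exact (QuotientGroup.eq_one_iff _).2 (mem_subgroupOf.2 ⟨(g ^ s : Q).2, fun h hh => by
        rw [SubgroupClass.coe_pow]; exact (hpw g g.2 h hh).eq⟩)
  have hmain := no_move_any (s := s) n hn hs3 htb hexp h2 hrkw hkill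
  intro g hg h hh
  have h1 := hmain ((⟨g, hg⟩ : Q) : Q ⧸ R1.subgroupOf Q)
  rw [hπi] at h1
  exact ((CfsgLib.HHExponent.uAct_fix_iff ρ Q ⟨_, pow_mem hxQ _⟩ ⟨g, hg⟩).1 h1).2 h hh

/-- The normal closure of the involution centralises its part of every core modulo the centre. -/
theorem commute_prime [IsAlgClosed K] [FiniteDimensional K V] [Nontrivial V] [Finite G]
    (ρ : Representation K G V) (hinj : Function.Injective ρ)
    (hirr : ∀ W : Submodule K V, (∀ g : G, ∀ w ∈ W, ρ g w ∈ W) → W = ⊥ ∨ W = ⊤)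
    (h2 : (2 : K) ≠ 0) (x : G) (n : ℕ) (hn : 2 ≤ n) (hx : x ^ 2 ^ n = 1)
    (hrk : Module.finrank K (LinearMap.range (ρ x - 1)) ≤ 2)
    (hZ : (ρ (x ^ 2 ^ (n - 1)) + 1) * (ρ x - 1) = 0)
    (s : ℕ) [Fact s.Prime] (hs3 : n = 2 → s ≠ 3)
    {q b : G} (hq : q ∈ normalClosure {x ^ 2 ^ (n - 1)} ⊓ Cfsg.pCore s G)
    (hb : b ∈ normalClosure {x ^ 2 ^ (n - 1)} ⊓ Cfsg.pCore s G) :
    Commute (x ^ 2 ^ (n - 1) * q * (x ^ 2 ^ (n - 1))⁻¹ * q⁻¹) b := by
  classical
  set z := x ^ 2 ^ (n - 1) with hz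
  set Q := normalClosure {z} ⊓ Cfsg.pCore s G with hQdef
  haveI : (Cfsg.pCore s G).Normal := CfsgLib.Solvable.pCore_normal s
  have hQs : IsPGroup s Q := (CfsgLib.Solvable.isPGroup_pCore s).to_le inf_le_right
  have hAL : ∀ A : Subgroup G, A.Normal → (∀ a ∈ A, ∀ b ∈ A, a * b = b * a) →
      normalClosure {z} ≤ centralizer (A : Set G) := fun A hAn hAc => by
    haveI := hAn
    refine normalClosure_le_normal fun g hg => ?_
    rw [Set.mem_singleton_iff.1 hg]
    exact mem_centralizer_iff.2 fun a ha =>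
      (commute_abelian ρ hinj hirr x n hn hx hrk hZ A hAc a ha).symm.eq
  have hcl := fun {a c : G} (ha : a ∈ Q) (hc : c ∈ Q) => classTwo Q hQs
    (fun A hAn _ hAc a ha r hr => mem_centralizer_iff.1 (hAL A hAn hAc hr.1) a ha) ha hc
  set Z0 := Q ⊓ centralizer (Q : Set G) with hZ0
  have hmemZ : ∀ a ∈ Q, (∀ c ∈ Q, Commute a c) → a ∈ Z0 := fun a ha h =>
    ⟨ha, mem_centralizer_iff.2 fun c hc => (h c hc).symm.eq⟩
  have hcomZ : ∀ a ∈ Q, ∀ c ∈ Q, a * c * a⁻¹ * c⁻¹ ∈ Z0 := fun a ha c hc =>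
    hmemZ _ (mul_mem (mul_mem (mul_mem ha hc) (inv_mem ha)) (inv_mem hc)) (hcl ha hc).1
  have hZ0c : ∀ a ∈ Z0, ∀ c ∈ Z0, Commute (ρ a) (ρ c) := fun a ha c hc =>
    (show Commute a c from (mem_centralizer_iff.1 ha.2 c hc.1).symm).map ρ
  set d := z * q * z⁻¹ * q⁻¹ with hd
  have hdQ : d ∈ Q := mul_mem (Subgroup.Normal.conj_mem inferInstance q hq z) (inv_mem hq)
  apply hinj
  rw [map_mul ρ d b, map_mul ρ b d]
  refine eq_of_eqOn_weights ρ hirr hZ0c fun l hl w hw => ?_
  set Wl := weight (fun a : Z0 => ρ (a : G)) l with hWl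
  have hQl : ∀ g ∈ Q, ∀ u ∈ Wl, ρ g u ∈ Wl := fun g hg u hu => mem_weight.2 fun a => by
    have hc : Commute (ρ (a : G)) (ρ g) :=
      (show Commute (a : G) g from (mem_centralizer_iff.1 a.2.2 g hg).symm).map ρ
    rw [← Module.End.mul_apply, hc.eq, Module.End.mul_apply, mem_weight.1 hu a, map_smul]
  have htwist : ∀ g ∈ Q, ∀ c ∈ Q, ∃ t : K, ∀ u ∈ Wl, ρ g (ρ c u) = t • ρ c (ρ g u) := by
    intro g hg c hc
    refine ⟨l ⟨_, hcomZ g hg c hc⟩, fun u hu => ?_⟩
    rw [← mem_weight.1 (hQl c hc _ (hQl g hg u hu)) ⟨_, hcomZ g hg c hc⟩, ← rep_mul, ← rep_mul,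
      ← rep_mul]
    exact congrArg (fun t => ρ t u) (by group)
  by_cases hxl : x ∈ weightStab l
  swap
  · -- the involution is scalar
    obtain ⟨hzl, hneg⟩ := fixed_or_neg ρ hl x n hn hx hrk hZ
    have hzi : ∀ u ∈ Wl, ρ z⁻¹ u = -u := fun u hu => by
      have h1 := congrArg (ρ z⁻¹) (hneg hxl u hu)
      rw [rep_inv_self, map_neg] at h1
      exact (neg_eq_iff_eq_neg.2 h1).symm
    have hd1 : ∀ u ∈ Wl, ρ d u = u := fun u hu => by
      rw [hd, rep_mul, rep_mul, rep_mul, hzi _ (hQl q⁻¹ (inv_mem hq) u hu), map_neg,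
        CfsgLib.HallHigman.rep_self_inv, map_neg, hneg hxl u hu, neg_neg]
    rw [Module.End.mul_apply, Module.End.mul_apply, hd1 _ (hQl b hb w hw), hd1 w hw]
  -- the weight space is invariant under `x`
  set H := Q ⊔ zpowers x with hH
  have hHl : ∀ g ∈ H, ∀ u ∈ Wl, ρ g u ∈ Wl := by
    have hle : H ≤ weightStab l := by
      refine sup_le (fun g hg => mem_weightStab.2 (funext fun a => ?_)) (zpowers_le.2 hxl)
      unfold twistW
      refine congrArg l (Subtype.ext ?_)
      show g⁻¹ * (a : G) * g = a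
      rw [mul_assoc, ← mem_centralizer_iff.1 a.2.2 g hg, inv_mul_cancel_left]
    exact fun g hg u hu => weight_invariant ρ (hle hg) hu
  haveI : Nontrivial Wl := Submodule.nontrivial_iff_ne_bot.2 hl
  set σ := subRep ρ H Wl hHl with hσ
  have hQH : Q ≤ H := le_sup_left
  let xH : H := ⟨x, mem_sup_right (mem_zpowers x)⟩
  have hgen : Q.subgroupOf H ⊔ zpowers xH = ⊤ := by
    apply Subgroup.map_injective H.subtype_injective
    rw [Subgroup.map_sup, MonoidHom.map_zpowers, Subgroup.subgroupOf_map_subtype,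
      ← MonoidHom.range_eq_map, Subgroup.range_subtype, inf_eq_left.2 hQH]
    rfl
  have hzH : ((xH ^ 2 ^ (n - 1) : H) : G) = z := by rw [SubgroupClass.coe_pow]
  have hres := commute_step σ h2 xH n hn (Subtype.ext (by rw [SubgroupClass.coe_pow]; exact hx))
    ((finrank_range_subRep_le ρ H Wl hHl xH).trans hrk)
    (subRep_kill ρ H Wl hHl _ xH (by rw [hzH]; exact hZ)) s hs3 (Q.subgroupOf H) hgen
    (fun g hg c hc => by
      obtain ⟨t, ht⟩ := htwist g hg c hc
      exact ⟨t, LinearMap.ext fun u => Subtype.ext (ht u u.2)⟩)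
    (fun g hg c hc => by
      have h1 : Commute ((g : G) ^ s) (c : G) := (hcl hg hc).2.2
      have h3 : Commute (g ^ s) c := Subtype.ext (by simpa using h1.eq)
      exact h3.map σ)
    ⟨q, hQH hq⟩ hq ⟨b, hQH hb⟩ hb
  have := congrArg Subtype.val (LinearMap.congr_fun hres.eq ⟨w, hw⟩)
  exact this

/-- The core case: a faithful irreducible group. -/
theorem isPGroup_normalClosure [IsAlgClosed K] [FiniteDimensional K V] [Nontrivial V] [Finite G]
    (hs : Group.IsSolvable G) (ρ : Representation K G V) (hinj : Function.Injective ρ)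
    (hirr : ∀ W : Submodule K V, (∀ g : G, ∀ w ∈ W, ρ g w ∈ W) → W = ⊥ ∨ W = ⊤)
    (r : ℕ) [hr : Fact r.Prime] [CharP K r] (hr2 : r ≠ 2) (x : G) (n : ℕ) (hn : 2 ≤ n)
    (hrn : n = 2 → r = 3) (hx : x ^ 2 ^ n = 1)
    (hrk : Module.finrank K (LinearMap.range (ρ x - 1)) ≤ 2)
    (hZ : (ρ (x ^ 2 ^ (n - 1)) + 1) * (ρ x - 1) = 0) :
    IsPGroup 2 (normalClosure {x ^ 2 ^ (n - 1)}) := by
  classical
  set z := x ^ 2 ^ (n - 1) with hzdef
  set L := normalClosure {z} with hL
  have h2 : (2 : K) ≠ 0 := by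
    rw [show (2 : K) = ((2 : ℕ) : K) by norm_num, Ne, CharP.cast_eq_zero_iff K r]
    exact fun h => hr2 ((Nat.prime_dvd_prime_iff_eq hr.out Nat.prime_two).1 h)
  haveI : (Cfsg.pCore r G).Normal := CfsgLib.Solvable.pCore_normal r
  have hr0 : Cfsg.pCore r G = ⊥ := by
    by_contra hne
    haveI := hs
    obtain ⟨A, hAn, hA0, hAR, hAc, -, p, hp, hpA, hpAp⟩ :=
      CfsgLib.Solvable.exists_normal_elementary_le hne inferInstance
    refine hA0 ((Subgroup.eq_bot_iff_forall A).2 fun a ha => hinj ?_)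
    obtain ⟨k, hk⟩ := (CfsgLib.Solvable.isPGroup_pCore (G := G) r) ⟨a, hAR ha⟩
    haveI := hAn
    haveI := hAc
    rw [map_one]
    refine eq_of_eqOn_weights ρ hirr (fun a ha b hb =>
      (show Commute a b from congrArg Subtype.val (hAc.is_comm.comm ⟨a, ha⟩ ⟨b, hb⟩)).map ρ)
      fun l hl w hw => ?_
    obtain ⟨v, hv, hv0⟩ := (weight (fun a : A => ρ (a : G)) l).exists_mem_ne_zero_of_ne_bot hl
    have hpow : ∀ i : ℕ, ρ (a ^ i) v = l ⟨a, ha⟩ ^ i • v := by
      intro i
      induction i with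
      | zero => simp
      | succ i ih => rw [pow_succ', rep_mul, ih, map_smul, mem_weight.1 hv ⟨a, ha⟩, smul_smul, pow_succ]
    have h1 := hpow (r ^ k)
    rw [show a ^ r ^ k = 1 from congrArg Subtype.val hk, map_one, Module.End.one_apply] at h1
    have h3 : l ⟨a, ha⟩ ^ r ^ k = 1 := smul_left_injective K hv0 (by
      show l ⟨a, ha⟩ ^ r ^ k • v = (1 : K) • v
      rw [one_smul]; exact h1.symm)
    have h4 : l ⟨a, ha⟩ = 1 := by
      refine sub_eq_zero.1 (eq_zero_of_pow_eq_zero (n := r ^ k) ?_)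
      rw [sub_pow_char_pow, h3, one_pow, sub_self]
    rw [mem_weight.1 hw ⟨a, ha⟩, h4, one_smul, Module.End.one_apply]
  have hzL : z ∈ L := subset_normalClosure rfl
  have hz2 : z * z = 1 := by
    rw [hzdef, ← pow_add, ← two_mul, ← pow_succ', Nat.sub_add_cancel (by omega : 1 ≤ n), hx]
  -- the cores of L
  have hcore : ∀ s : ℕ, s.Prime → ∀ q ∈ L ⊓ Cfsg.pCore s G,
      (z * q * z⁻¹ * q⁻¹) ^ 2 = 1 ∧
      ∀ g ∈ L, g * q * g⁻¹ * q⁻¹ ∈ L ⊓ Cfsg.pCore s G ⊓
        centralizer ((L ⊓ Cfsg.pCore s G : Subgroup G) : Set G) ∧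
        Commute (g * q * g⁻¹ * q⁻¹) z := by
    intro s hsp q hq
    haveI := Fact.mk hsp
    haveI : (Cfsg.pCore s G).Normal := CfsgLib.Solvable.pCore_normal s
    set Q := L ⊓ Cfsg.pCore s G
    set Z0 := Q ⊓ centralizer (Q : Set G)
    have hcen : L ≤ centralizer (Z0 : Set G) := normalClosure_le_normal fun g hg => by
      rw [Set.mem_singleton_iff.1 hg]
      exact mem_centralizer_iff.2 fun a ha => (commute_abelian ρ hinj hirr x n hn hx hrk hZ Z0
        (fun a ha b hb => (mem_centralizer_iff.1 ha.2 b hb.1).symm) a ha).symm.eq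
    have hall : ∀ g ∈ L, ∀ u ∈ Q, g * u * g⁻¹ * u⁻¹ ∈ Z0 := by
      by_cases hsr : s = r
      · subst hsr
        intro g _ u hu
        have : u = 1 := (Subgroup.eq_bot_iff_forall _).1 hr0 u hu.2
        subst this
        simp
      let S : Subgroup G :=
        { carrier := {g | ∀ u ∈ Q, g * u * g⁻¹ * u⁻¹ ∈ Z0}
          one_mem' := fun u _ => by simp
          mul_mem' := fun {a c} ha hc u hu => by
            rw [show a * c * u * (a * c)⁻¹ * u⁻¹ =
              (a * (c * u * c⁻¹) * a⁻¹ * (c * u * c⁻¹)⁻¹) * (c * u * c⁻¹ * u⁻¹) by group]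
            exact mul_mem (ha _ (Subgroup.Normal.conj_mem inferInstance u hu c)) (hc u hu)
          inv_mem' := fun {a} ha u hu => by
            have h1 := ha (a⁻¹ * u * a) (by simpa using Subgroup.Normal.conj_mem inferInstance u hu a⁻¹)
            rw [show a⁻¹ * u * a⁻¹⁻¹ * u⁻¹ =
              (a * (a⁻¹ * u * a) * a⁻¹ * (a⁻¹ * u * a)⁻¹)⁻¹ by group]
            exact inv_mem h1 }
      haveI : S.Normal := ⟨fun g hg c u hu => by
        have h1 := hg (c⁻¹ * u * c) (by simpa using Subgroup.Normal.conj_mem inferInstance u hu c⁻¹)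
        have h3 := Subgroup.Normal.conj_mem (inferInstance : Z0.Normal) _ h1 c
        rwa [show c * (g * (c⁻¹ * u * c) * g⁻¹ * (c⁻¹ * u * c)⁻¹) * c⁻¹ =
          c * g * c⁻¹ * u * (c * g * c⁻¹)⁻¹ * u⁻¹ by group] at h3⟩
      have : L ≤ S := normalClosure_le_normal fun g hg => by
        rw [Set.mem_singleton_iff.1 hg]
        intro u hu
        exact ⟨Q.mul_mem (Subgroup.Normal.conj_mem inferInstance u hu z) (Q.inv_mem hu),
          mem_centralizer_iff.2 fun c hc => (commute_prime ρ hinj hirr h2 x n hn hx hrk hZ s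
            (fun e e3 => hsr (e3.trans (hrn e).symm)) hu hc).symm.eq⟩
      exact fun g hg => this hg
    refine ⟨?_, fun g hg => ⟨hall g hg q hq, mem_centralizer_iff.1 (hcen hzL) _ (hall g hg q hq)⟩⟩
    have hd := hall z hzL q hq
    have hdz : Commute (z * q * z⁻¹ * q⁻¹) z := mem_centralizer_iff.1 (hcen hzL) _ hd
    set d := z * q * z⁻¹ * q⁻¹ with hddef
    have h1 : z * q * z⁻¹ = d * q := by rw [hddef, inv_mul_cancel_right]
    have hzi : z⁻¹ = z := inv_eq_of_mul_eq_one_right hz2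
    have h3 : z * (z * q * z⁻¹) * z⁻¹ = q := by
      rw [hzi, show z * (z * q * z) * z = (z * z) * q * (z * z) by group, hz2, one_mul, mul_one]
    rw [h1, ← mul_assoc, ← hdz.eq, show d * z * q * z⁻¹ = d * (z * q * z⁻¹) by group, h1,
      ← mul_assoc, mul_eq_right] at h3
    rw [pow_two]
    exact h3
  -- odd cores are central in L
  have hodd : ∀ s : ℕ, s.Prime → s ≠ 2 → ∀ q ∈ L ⊓ Cfsg.pCore s G, ∀ g ∈ L, Commute g q := by
    intro s hsp hs2 q hq
    haveI := Fact.mk hsp
    have h1 : z * q * z⁻¹ * q⁻¹ = 1 := by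
      obtain ⟨hd2, hd3⟩ := hcore s hsp q hq
      obtain ⟨j, hj⟩ := IsPGroup.iff_orderOf.1 (CfsgLib.Solvable.isPGroup_pCore (G := G) s)
        ⟨_, (hd3 z hzL).1.1.2⟩
      rw [Subgroup.orderOf_mk] at hj
      refine orderOf_eq_one_iff.1 (Nat.eq_one_of_dvd_coprimes ?_ dvd_rfl (orderOf_dvd_of_pow_eq_one hd2))
      rw [hj]
      exact ((Nat.coprime_primes hsp Nat.prime_two).2 hs2).pow_left j
    have hS : ∀ g ∈ L, ∀ u ∈ L ⊓ Cfsg.pCore s G, Commute g u := by
      haveI : (Cfsg.pCore s G).Normal := CfsgLib.Solvable.pCore_normal s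
      have : L ≤ centralizer ((L ⊓ Cfsg.pCore s G : Subgroup G) : Set G) :=
        normalClosure_le_normal fun g hg => by
          rw [Set.mem_singleton_iff.1 hg]
          refine mem_centralizer_iff.2 fun u hu => ?_
          obtain ⟨hd2, hd3⟩ := hcore s hsp u hu
          obtain ⟨j, hj⟩ := IsPGroup.iff_orderOf.1 (CfsgLib.Solvable.isPGroup_pCore (G := G) s)
            ⟨_, (hd3 z hzL).1.1.2⟩
          rw [Subgroup.orderOf_mk] at hj
          have h3 : z * u * z⁻¹ * u⁻¹ = 1 := by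
            refine orderOf_eq_one_iff.1
              (Nat.eq_one_of_dvd_coprimes ?_ dvd_rfl (orderOf_dvd_of_pow_eq_one hd2))
            rw [hj]
            exact ((Nat.coprime_primes hsp Nat.prime_two).2 hs2).pow_left j
          exact (mul_inv_eq_iff_eq_mul.1 (mul_inv_eq_one.1 h3)).symm
      exact fun g hg u hu => (mem_centralizer_iff.1 (this hg) u hu).symm
    exact fun g hg => hS g hg q hq
  -- squares centralise the 2-core
  have hsq : ∀ q ∈ L ⊓ Cfsg.pCore 2 G, ∀ g ∈ L, Commute (g ^ 2) q := by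
    intro q hq
    set T := L ⊓ Cfsg.pCore 2 G
    haveI : (Cfsg.pCore 2 G).Normal := CfsgLib.Solvable.pCore_normal 2
    have hgen : ∀ g ∈ L, ∀ u ∈ T, (g * u * g⁻¹ * u⁻¹) ^ 2 = 1 := by
      let S : Subgroup G :=
        { carrier := {g | g ∈ L ∧ ∀ u ∈ T, (g * u * g⁻¹ * u⁻¹) ^ 2 = 1}
          one_mem' := ⟨one_mem L, fun u _ => by simp⟩
          mul_mem' := fun {a c} ha hc => ⟨mul_mem ha.1 hc.1, fun u hu => by
            have hu' : c * u * c⁻¹ ∈ T := Subgroup.Normal.conj_mem inferInstance u hu c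
            rw [show a * c * u * (a * c)⁻¹ * u⁻¹ =
              (a * (c * u * c⁻¹) * a⁻¹ * (c * u * c⁻¹)⁻¹) * (c * u * c⁻¹ * u⁻¹) by group]
            have h5 : Commute (a * (c * u * c⁻¹) * a⁻¹ * (c * u * c⁻¹)⁻¹) (c * u * c⁻¹ * u⁻¹) :=
              (mem_centralizer_iff.1 ((hcore 2 Nat.prime_two _ hu').2 a ha.1).1.2 _
                ((hcore 2 Nat.prime_two u hu).2 c hc.1).1.1).symm
            rw [h5.mul_pow, ha.2 _ hu', hc.2 u hu, one_mul]⟩
          inv_mem' := fun {a} ha => ⟨inv_mem ha.1, fun u hu => by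
            have hu' : a⁻¹ * u * a ∈ T := by simpa using Subgroup.Normal.conj_mem inferInstance u hu a⁻¹
            rw [show a⁻¹ * u * a⁻¹⁻¹ * u⁻¹ = (a * (a⁻¹ * u * a) * a⁻¹ * (a⁻¹ * u * a)⁻¹)⁻¹ by group,
              inv_pow, ha.2 _ hu', inv_one]⟩ }
      haveI : S.Normal := ⟨fun g hg c => ⟨Subgroup.Normal.conj_mem inferInstance g hg.1 c, fun u hu => by
        have h1 := hg.2 (c⁻¹ * u * c) (by simpa using Subgroup.Normal.conj_mem inferInstance u hu c⁻¹)
        rw [show c * g * c⁻¹ * u * (c * g * c⁻¹)⁻¹ * u⁻¹ =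
          c * (g * (c⁻¹ * u * c) * g⁻¹ * (c⁻¹ * u * c)⁻¹) * c⁻¹ by group, conj_pow, h1, mul_one,
          mul_inv_cancel]⟩⟩
      have : L ≤ S := normalClosure_le_normal fun g hg => by
        rw [Set.mem_singleton_iff.1 hg]
        exact ⟨hzL, fun u hu => (hcore 2 Nat.prime_two u hu).1⟩
      exact fun g hg => (this hg).2
    intro g hg
    have hc := (hcore 2 Nat.prime_two q hq).2 g hg
    have hcg : Commute (g * q * g⁻¹ * q⁻¹) g := by
      have hcen : L ≤ centralizer ({g * q * g⁻¹ * q⁻¹} : Set G) := by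
        haveI : (L ⊓ Cfsg.pCore 2 G ⊓
            centralizer ((L ⊓ Cfsg.pCore 2 G : Subgroup G) : Set G)).Normal := inferInstance
        have : L ≤ centralizer ((L ⊓ Cfsg.pCore 2 G ⊓
            centralizer ((L ⊓ Cfsg.pCore 2 G : Subgroup G) : Set G) : Subgroup G) : Set G) :=
          normalClosure_le_normal fun u hu => by
            rw [Set.mem_singleton_iff.1 hu]
            exact mem_centralizer_iff.2 fun a ha => (commute_abelian ρ hinj hirr x n hn hx hrk hZ
              (L ⊓ Cfsg.pCore 2 G ⊓ centralizer ((L ⊓ Cfsg.pCore 2 G : Subgroup G) : Set G))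
              (fun a ha b hb => (mem_centralizer_iff.1 ha.2 b hb.1).symm) a ha).symm.eq
        exact this.trans (centralizer_le (Set.singleton_subset_iff.2 hc.1))
      exact mem_centralizer_iff.1 (hcen hg) _ rfl
    have h1 := comm_pow_left hcg 2
    rw [hgen g hg q hq, mul_inv_eq_one] at h1
    exact mul_inv_eq_iff_eq_mul.1 h1
  -- the structure of L
  haveI : Group.IsSolvable G := hs
  haveI : Group.IsSolvable L := inferInstance
  haveI : Fact (Nat.Prime 2) := ⟨Nat.prime_two⟩
  have hcenF : ∀ g : L, g ^ 2 ∈ Cfsg.fittingSubgroup L := by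
    intro g
    refine CfsgLib.Fitting.centralizer_fittingSubgroup_le_of_solvable ?_
    rw [CfsgLib.Solvable.fittingSubgroup_eq_iSup_pCore, mem_centralizer_iff]
    intro u hu
    refine Subgroup.iSup_induction _ (C := fun u : L => u * g ^ 2 = g ^ 2 * u) hu (fun s u hu => ?_)
      (by simp) (fun a c ha hc => by rw [mul_assoc, hc, ← mul_assoc, ha, mul_assoc])
    haveI := Fact.mk s.2
    haveI := ((CfsgLib.Solvable.pCore_normal (G := L) (s : ℕ)))
    have hsub : (u : G) ∈ L ⊓ Cfsg.pCore (s : ℕ) G := ⟨u.2, by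
      haveI : (Cfsg.pCore (s : ℕ) L).Characteristic := by
        refine Subgroup.characteristic_iff_map_eq.2 fun φ => le_antisymm
          (CfsgLib.Solvable.le_pCore _ ((CfsgLib.Solvable.pCore_normal _).map _ φ.surjective)
            ((CfsgLib.Solvable.isPGroup_pCore _).map _)) fun v hv => ?_
        refine ⟨φ.symm v, CfsgLib.Solvable.le_pCore _
          ((CfsgLib.Solvable.pCore_normal _).map _ φ.symm.surjective)
          ((CfsgLib.Solvable.isPGroup_pCore _).map φ.symm.toMonoidHom) ⟨v, hv, rfl⟩, by simp⟩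
      haveI : ((Cfsg.pCore (s : ℕ) L).map L.subtype).Normal :=
        ConjAct.normal_of_characteristic_of_normal
      exact CfsgLib.Solvable.le_pCore _ this ((CfsgLib.Solvable.isPGroup_pCore _).map _) ⟨u, hu, rfl⟩⟩
    refine Subtype.ext ?_
    show (u : G) * (g : G) ^ 2 = (g : G) ^ 2 * u
    by_cases hs2 : (s : ℕ) = 2
    · rw [hs2] at hsub; exact (hsq _ hsub g g.2).symm.eq
    · exact ((hodd s s.2 hs2 _ hsub g g.2).pow_left 2).symm.eq
  have hFle : Cfsg.fittingSubgroup L ≤ Cfsg.pCore 2 L ⊔ center L := by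
    rw [CfsgLib.Solvable.fittingSubgroup_eq_iSup_pCore]
    refine iSup_le fun s => ?_
    by_cases hs2 : (s : ℕ) = 2
    · rw [hs2]; exact le_sup_left
    refine le_trans (fun u hu => mem_center_iff.2 fun g => ?_) le_sup_right
    haveI := Fact.mk s.2
    haveI : (Cfsg.pCore (s : ℕ) L).Normal := CfsgLib.Solvable.pCore_normal _
    have hsub : (u : G) ∈ L ⊓ Cfsg.pCore (s : ℕ) G := ⟨u.2, by
      haveI : (Cfsg.pCore (s : ℕ) L).Characteristic := by
        refine Subgroup.characteristic_iff_map_eq.2 fun φ => le_antisymm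
          (CfsgLib.Solvable.le_pCore _ ((CfsgLib.Solvable.pCore_normal _).map _ φ.surjective)
            ((CfsgLib.Solvable.isPGroup_pCore _).map _)) fun v hv => ?_
        refine ⟨φ.symm v, CfsgLib.Solvable.le_pCore _
          ((CfsgLib.Solvable.pCore_normal _).map _ φ.symm.surjective)
          ((CfsgLib.Solvable.isPGroup_pCore _).map φ.symm.toMonoidHom) ⟨v, hv, rfl⟩, by simp⟩
      haveI : ((Cfsg.pCore (s : ℕ) L).map L.subtype).Normal :=
        ConjAct.normal_of_characteristic_of_normal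
      exact CfsgLib.Solvable.le_pCore _ this ((CfsgLib.Solvable.isPGroup_pCore _).map _) ⟨u, hu, rfl⟩⟩
    exact Subtype.ext ((hodd s s.2 hs2 _ hsub g g.2).eq)
  have hoddcen : ∀ g : L, Odd (orderOf g) → g ∈ center L := by
    intro g hg
    obtain ⟨m, hm⟩ := exists_pow_eq_self_of_coprime (x := g) (n := 2) hg.coprime_two_left
    have hgF : g ∈ Cfsg.pCore 2 L ⊔ center L := hm ▸ pow_mem (hFle (hcenF g)) m
    haveI : (Cfsg.pCore 2 L).Normal := CfsgLib.Solvable.pCore_normal 2
    obtain ⟨a, ha, c, hc, rfl⟩ := Subgroup.mem_sup_of_normal_left.1 hgF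
    obtain ⟨k, hk⟩ := (CfsgLib.Solvable.isPGroup_pCore (G := L) 2) ⟨a, ha⟩
    have hac : Commute a c := mem_center_iff.1 hc a
    have h1 : (a * c) ^ 2 ^ k ∈ center L := by
      rw [hac.mul_pow, show a ^ 2 ^ k = 1 from congrArg Subtype.val hk, one_mul]
      exact pow_mem hc _
    obtain ⟨m', hm'⟩ := exists_pow_eq_self_of_coprime (x := a * c) (n := 2 ^ k)
      (hg.coprime_two_left.pow_left k)
    rw [← hm']
    exact pow_mem h1 m'
  let P : Sylow 2 L := default
  have hPn : (P : Subgroup L).Normal := by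
    haveI : ∀ q : Nat.Primes, Fact (q : ℕ).Prime := fun q => ⟨q.2⟩
    let S : ∀ q : Nat.Primes, Sylow (q : ℕ) L := fun q => default
    refine normalizer_eq_top_iff.1 (top_le_iff.1 ?_)
    rw [← CfsgLib.Solvable.iSup_sylow_eq_top (G := L) fun q =>
      if hq : (q : ℕ) = 2 then hq ▸ P else S q]
    refine iSup_le fun q => ?_
    split_ifs with hq
    · obtain ⟨q, hqp⟩ := q
      change q = 2 at hq
      subst hq
      exact le_normalizer
    · intro g hg
      obtain ⟨j, hj⟩ := IsPGroup.iff_orderOf.1 (S q).2 ⟨g, hg⟩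
      rw [Subgroup.orderOf_mk] at hj
      have hgc : g ∈ center L := hoddcen g (hj ▸ (q.2.odd_of_ne_two hq).pow)
      exact mem_normalizer_iff.2 fun u => by
        rw [show g * u * g⁻¹ = u by rw [← mem_center_iff.1 hgc u, mul_inv_cancel_right]]
  have hLP : L ≤ (P : Subgroup L).map L.subtype := by
    haveI : ((P : Subgroup L).map L.subtype).Normal := by
      haveI : (P : Subgroup L).Characteristic := P.characteristic_of_normal hPn
      exact ConjAct.normal_of_characteristic_of_normal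
    refine normalClosure_le_normal fun g hg => ?_
    rw [Set.mem_singleton_iff.1 hg]
    haveI := hPn
    have hzp : IsPGroup 2 (zpowers (⟨z, hzL⟩ : L)) := by
      rw [IsPGroup.iff_card, Nat.card_zpowers]
      obtain ⟨i, -, hi⟩ := (Nat.dvd_prime_pow Nat.prime_two).1
        (orderOf_dvd_of_pow_eq_one (show (⟨z, hzL⟩ : L) ^ 2 ^ 1 = 1 from Subtype.ext (by
          rw [SubgroupClass.coe_pow, pow_one, pow_two]; exact hz2)))
      exact ⟨i, hi⟩
    refine ⟨⟨z, hzL⟩, ?_, rfl⟩
    exact (P.3 (hzp.to_sup_of_normal_right P.2) le_sup_right).le (mem_sup_left (mem_zpowers _))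
  exact (P.2.map L.subtype).to_le hLP

/-- The linear theorem. -/
theorem linear_odd {K : Type w} [Field K] [IsAlgClosed K] {G : Type u} [Group G] [Finite G]
    (hs : Group.IsSolvable G) {V : Type v} [AddCommGroup V] [Module K V] [FiniteDimensional K V]
    (r : ℕ) [hr : Fact r.Prime] [CharP K r] (hr2 : r ≠ 2) (ρ : Representation K G V)
    (hinj : Function.Injective ρ) (h0 : Cfsg.pCore r G = ⊥) (x : G) (n : ℕ) (hn : 2 ≤ n)
    (hrn : n = 2 → r = 3) (hx : x ^ 2 ^ n = 1)
    (hrk : Module.finrank K (LinearMap.range (ρ x - 1)) ≤ 2)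
    (hZ : (ρ (x ^ 2 ^ (n - 1)) + 1) * (ρ x - 1) = 0) :
    IsPGroup 2 (normalClosure {x ^ 2 ^ (n - 1)}) := by
  classical
  set z := x ^ 2 ^ (n - 1) with hzdef
  set L := normalClosure {z} with hL
  let P : ∀ (V : Type v) [AddCommGroup V] [Module K V], Representation K G V → Prop :=
    fun V _ _ σ => FiniteDimensional K V ∧ Module.finrank K (LinearMap.range (σ x - 1)) ≤ 2 ∧
      (σ z + 1) * (σ x - 1) = 0
  have hD := pgroup_of_factors (K := K) hr.out (oddGen L) P ?_ ?_ ?_ V ρ ⟨inferInstance, hrk, hZ⟩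
  · haveI := oddGen_normal L
    have hbot : oddGen L = ⊥ := by
      refine eq_bot_iff.2 (le_trans (CfsgLib.Solvable.le_pCore r inferInstance fun d => ?_) h0.le)
      obtain ⟨k, hk⟩ := hD d d.2
      exact ⟨k, Subtype.ext (hinj (by rw [SubgroupClass.coe_pow, hk, OneMemClass.coe_one, map_one]))⟩
    intro g
    obtain ⟨k, t, ht, hkt⟩ : ∃ k t, ¬ 2 ∣ t ∧ orderOf (g : G) = 2 ^ k * t :=
      let ⟨k, t, h1, h2⟩ := Nat.exists_eq_pow_mul_and_not_dvd (orderOf_pos (g : G)).ne' 2 (by norm_num)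
      ⟨k, t, h1, h2⟩
    refine ⟨k, Subtype.ext ?_⟩
    have h1 : (g : G) ^ 2 ^ k ∈ oddGen L := subset_closure ⟨pow_mem g.2 _, by
      rw [orderOf_pow_of_dvd (pow_ne_zero _ two_ne_zero) ⟨t, hkt⟩, hkt,
        Nat.mul_div_cancel_left _ (pow_pos two_pos _)]
      exact Nat.not_even_iff_odd.1 fun he => ht (even_iff_two_dvd.1 he)⟩
    rw [hbot, mem_bot] at h1
    exact h1
  · intro V _ _ σ W hW ⟨hfd, h1, h2⟩
    haveI := hfd
    refine ⟨inferInstance, le_trans ?_ h1, LinearMap.ext fun w => Subtype.ext ?_⟩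
    · rw [← Submodule.finrank_map_subtype_eq]
      refine Submodule.finrank_mono ?_
      rintro _ ⟨_, ⟨u, rfl⟩, rfl⟩
      exact ⟨(u : V), rfl⟩
    · exact LinearMap.congr_fun h2 (w : V)
  · intro V _ _ σ W hW ⟨hfd, h1, h2⟩
    haveI := hfd
    refine ⟨inferInstance, le_trans ?_ h1, Submodule.linearMap_qext _ (LinearMap.ext fun v => ?_)⟩
    · refine le_trans ?_ (Submodule.finrank_map_le W.mkQ _)
      refine Submodule.finrank_mono ?_
      rintro _ ⟨u, rfl⟩
      induction u using Submodule.Quotient.induction_on with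
      | H v => exact ⟨σ x v - v, ⟨v, rfl⟩, rfl⟩
    · exact congrArg Submodule.Quotient.mk (LinearMap.congr_fun h2 v)
  · intro V _ _ _ _ σ hirr ⟨_, h1, h2⟩ d hd
    let M := σ.toHomUnits.ker
    let τ : Representation K (G ⧸ M) V :=
      (Units.coeHom _).comp (QuotientGroup.kerLift σ.toHomUnits)
    have hτ : ∀ g : G, τ (QuotientGroup.mk g) = σ g := fun g => rfl
    have hτinj : Function.Injective τ :=
      Units.val_injective.comp (QuotientGroup.kerLift_injective _)
    haveI := hs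
    have hp2 := isPGroup_normalClosure (G := G ⧸ M)
      (Group.isSolvable_of_surjective (QuotientGroup.mk'_surjective M)) τ hτinj
      (fun W hW => hirr W fun g w hw => hτ g ▸ hW _ w hw) r hr2 (QuotientGroup.mk x) n hn hrn
      (by rw [← QuotientGroup.mk_pow, hx, QuotientGroup.mk_one])
      (by rw [hτ]; exact h1) (by rw [← QuotientGroup.mk_pow, hτ, hτ]; exact h2)
    have hmap : L.map (QuotientGroup.mk' M) =
        normalClosure {(QuotientGroup.mk x : G ⧸ M) ^ 2 ^ (n - 1)} := by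
      rw [hL, Subgroup.map_normalClosure _ _ (QuotientGroup.mk'_surjective M), Set.image_singleton]
      rfl
    have : oddGen L ≤ M := (closure_le _).2 fun g ⟨hg, ho⟩ => by
      rw [← hmap] at hp2
      obtain ⟨k, hk⟩ := hp2 ⟨QuotientGroup.mk g, ⟨g, hg, rfl⟩⟩
      refine (QuotientGroup.eq_one_iff g).1 ?_
      have h3 : (QuotientGroup.mk g : G ⧸ M) ^ 2 ^ k = 1 := congrArg Subtype.val hk
      have h4 := pow_gcd_eq_one.2 ⟨(show (QuotientGroup.mk g : G ⧸ M) ^ orderOf g = 1 by
        rw [← QuotientGroup.mk_pow, pow_orderOf_eq_one, QuotientGroup.mk_one]), h3⟩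
      rwa [(ho.coprime_two_right.pow_right k).gcd_eq_one, pow_one] at h4
    exact congrArg Units.val (MonoidHom.mem_ker.1 (this hd))

end CfsgLib.GrossTwo
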