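import Cfsg.Agent.GrossTwo.StepR
import Cfsg.Agent.GrossTwo.LinearOdd
import Cfsg.Agent.HallHigman.Exponent.Bound
import Cfsg.Agent.Fusion.PSolvableExt

/-!
Gross's bound on the 2-length by the exponent of a Sylow 2-subgroup.
-/

set_option autoImplicit false
set_option linter.style.haveILetI false
set_option linter.unusedSectionVars false

namespace CfsgLib.GrossTwo

open Subgroup
open scoped commutatorElement
open CfsgLib.HallHigman (weight mem_weight subRep subRep_apply quotRep quotRep_apply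
  quotRep_sub_one_pow rep_mul rep_inv_self)

universe u v w

/-- A soluble group is `p`-soluble. -/
theorem isPSolvable_of_solvable (p : ℕ) [Fact p.Prime] : ∀ {G : Type u} [Group G] [Finite G],
    Group.IsSolvable G → Cfsg.IsPSolvable p G := by
  intro G
  induction hn : Nat.card G using Nat.strong_induction_on generalizing G with
  | _ N ih =>
  intro _ _ hs
  subst hn
  rcases subsingleton_or_nontrivial G with h | h
  · exact CfsgLib.PSolvableExt.isPSolvable_of_card (Or.inr (by simp [Nat.card_unique]))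
  haveI := hs
  obtain ⟨A, hAn, hA0, -, -, -, q, hq, -, hqA⟩ := CfsgLib.Solvable.exists_normal_elementary_le
    (N := (⊤ : Subgroup G)) top_ne_bot inferInstance
  haveI := hAn
  haveI := Fact.mk hq
  refine CfsgLib.PSolvableExt.isPSolvable_of_extension A
    (CfsgLib.PSolvableExt.isPSolvable_of_card ?_)
    (ih _ (CfsgLib.Solvable.card_quotient_lt hA0) rfl
      (Group.isSolvable_of_surjective (QuotientGroup.mk'_surjective A)))
  obtain ⟨k, hk⟩ := IsPGroup.iff_card.1 hqA
  by_cases hqp : q = p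
  · exact Or.inl ⟨k, hqp ▸ hk⟩
  · exact Or.inr (hk ▸ ((Nat.coprime_primes hq Fact.out).2 hqp).pow_left k)

/-- A scaled rank bound for matrices: the base change of an operator with a small image. -/
theorem finrank_range_baseChange_le {F : Type*} [Field F] {K : Type*} [Field K] (φ : F →+* K)
    {E : Type*} [AddCommGroup E] [Module F E] [FiniteDimensional F E] {d j : ℕ}
    (b : Module.Basis (Fin d) F E) (u : Module.End F E) (S : Submodule F E)
    (hS : Module.finrank F S = j) (hu : ∀ e, u e ∈ S) :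
    Module.finrank K (LinearMap.range
      (Matrix.toLin' ((LinearMap.toMatrix b b u).map φ))) ≤ j := by
  classical
  let e := (Module.finBasisOfFinrankEq F S hS).equivFun
  let B : (Fin j → F) →ₗ[F] E := S.subtype ∘ₗ e.symm.toLinearMap
  let C : E →ₗ[F] (Fin j → F) := e.toLinearMap ∘ₗ u.codRestrict S hu
  have hu' : u = B ∘ₗ C := LinearMap.ext fun v => by simp [B, C]
  rw [hu', LinearMap.toMatrix_comp b (Pi.basisFun F (Fin j)) b, Matrix.map_mul, Matrix.toLin'_mul]
  refine le_trans (Submodule.finrank_mono (LinearMap.range_comp_le_range _ _)) ?_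
  refine le_trans (LinearMap.finrank_range_le _) ?_
  rw [Module.finrank_fintype_fun_eq_card, Fintype.card_fin]

/-- The kernel of a faithful action on `R` modulo `Z`, for a normal `r`-group `R` with all abelian
normal subgroups central: no normal `r`-section. -/
theorem exists_linear {G : Type u} [Group G] [Finite G] (hcenter : ∀ A : Subgroup G, A.Normal →
      (∀ a ∈ A, ∀ b ∈ A, a * b = b * a) → A ≤ center G)
    (r : ℕ) [hr : Fact r.Prime] (R : Subgroup G) [R.Normal] (hR : IsPGroup r R)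
    (R1 : Subgroup G) (hR1 : R1 ≤ R) (hidx : (R ⊓ center G).relIndex R1 = r ^ 2)
    (x z : G) (hx : ∀ a ∈ R, x * a * x⁻¹ * a⁻¹ ∈ R1)
    (hz : ∀ a ∈ R1, z * a * z⁻¹ * a ∈ R ⊓ center G) :
    ∃ (d : ℕ) (σ : Representation (AlgebraicClosure (ZMod r)) G (Fin d → AlgebraicClosure (ZMod r))),
      Cfsg.pCore r (G ⧸ σ.toHomUnits.ker) = ⊥ ∧
      Module.finrank (AlgebraicClosure (ZMod r)) (LinearMap.range (σ x - 1)) ≤ 2 ∧
      (σ z + 1) * (σ x - 1) = 0 ∧
      ∀ g ∈ σ.toHomUnits.ker, ∀ a ∈ R, g * a * g⁻¹ * a⁻¹ ∈ R ⊓ center G := by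
  classical
  set Z := R ⊓ center G with hZdef
  set π := QuotientGroup.mk' Z with hπ
  set V := R.map π with hV
  haveI hVn : V.Normal := Subgroup.Normal.map inferInstance π (QuotientGroup.mk'_surjective Z)
  have hcl := fun {a b : G} (ha : a ∈ R) (hb : b ∈ R) => classTwo R hR
    (fun A hAn _ hAc a ha r _ => (mem_center_iff.1 (hcenter A hAn hAc ha) r).symm) ha hb
  have hmemZ : ∀ a ∈ R, (∀ b ∈ R, Commute a b) → a ∈ Z := fun a ha h =>
    ⟨ha, hcenter (R ⊓ centralizer (R : Set G)) inferInstance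
      (fun a ha b hb => (mem_centralizer_iff.1 ha.2 b hb.1).symm)
      ⟨ha, mem_centralizer_iff.2 fun b hb => (h b hb).symm.eq⟩⟩
  have hcomZ : ∀ a ∈ R, ∀ b ∈ R, a * b * a⁻¹ * b⁻¹ ∈ Z := fun a ha b hb =>
    hmemZ _ (mul_mem (mul_mem (mul_mem ha hb) (inv_mem ha)) (inv_mem hb)) (hcl ha hb).1
  haveI hVc : IsMulCommutative V := ⟨⟨by
    rintro ⟨_, a, ha, rfl⟩ ⟨_, b, hb, rfl⟩
    refine Subtype.ext ?_
    show π a * π b = π b * π a
    rw [← mul_inv_eq_one, ← map_mul, ← map_mul, ← map_inv, ← map_mul]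
    refine (QuotientGroup.eq_one_iff _).2 ?_
    rw [mul_inv_rev, ← mul_assoc]
    exact hcomZ a ha b hb⟩⟩
  have hVel : Cfsg.IsElementaryAbelian r V := ⟨hVc, by
    rintro _ ⟨a, ha, rfl⟩
    rw [← map_pow]
    exact (QuotientGroup.eq_one_iff _).2 (hmemZ _ (pow_mem ha r) fun b hb => (hcl ha hb).2.2)⟩
  haveI : Finite (CfsgLib.ZJ.ElabMod V hVel) := CfsgLib.ZJ.elabModFinite hVel
  haveI : Module.Finite (ZMod r) (CfsgLib.ZJ.ElabMod V hVel) := Module.Finite.of_finite
  let nv : G →* normalizer (V : Set (G ⧸ Z)) :=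
    π.codRestrict _ fun y => by rw [Subgroup.normalizer_eq_top]; exact mem_top _
  let ρ₀ : Representation (ZMod r) G (CfsgLib.ZJ.ElabMod V hVel) := (CfsgLib.ZJ.conjEnd hVel).comp nv
  let val : CfsgLib.ZJ.ElabMod V hVel → G ⧸ Z := fun u => (CfsgLib.ZJ.ofVec hVel u : V)
  have hval : ∀ y u, val (ρ₀ y u) = π y * val u * (π y)⁻¹ := fun y u => rfl
  have hval_add : ∀ a b, val (a + b) = val a * val b := fun a b => rfl
  have hvalinj : Function.Injective val := fun a b h =>
    CfsgLib.ZJ.ofVec_injective hVel (Subtype.ext h)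
  have hsurjV : ∀ u, ∃ a ∈ R, val u = π a := fun u => by
    obtain ⟨a, ha, he⟩ := (CfsgLib.ZJ.ofVec hVel u).2
    exact ⟨a, ha, he.symm⟩
  have hvec : ∀ a ∈ R, ∃ u, val u = π a := fun a ha =>
    ⟨CfsgLib.ZJ.toVec hVel ⟨π a, a, ha, rfl⟩, rfl⟩
  let K := AlgebraicClosure (ZMod r)
  let E := Module.End (ZMod r) (CfsgLib.ZJ.ElabMod V hVel)
  let b := Module.finBasis (ZMod r) (CfsgLib.ZJ.ElabMod V hVel)
  let d := Module.finrank (ZMod r) (CfsgLib.ZJ.ElabMod V hVel)
  let M : E →+* Module.End K (Fin d → K) :=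
    ((Matrix.toLinAlgEquiv' (R := K) (n := Fin d)).toRingEquiv.toRingHom.comp
      ((algebraMap (ZMod r) K).mapMatrix (m := Fin d))).comp
        (LinearMap.toMatrixAlgEquiv b).toRingEquiv.toRingHom
  have hMinj : Function.Injective M := fun u v huv =>
    (LinearMap.toMatrixAlgEquiv b).injective (Matrix.map_injective (algebraMap (ZMod r) K).injective
      (Matrix.toLinAlgEquiv'.injective huv))
  let σ : Representation K G (Fin d → K) := M.toMonoidHom.comp ρ₀
  have hσ : ∀ y, σ y = M (ρ₀ y) := fun y => rfl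
  set C := σ.toHomUnits.ker with hCdef
  have hC : ∀ g, g ∈ C ↔ ∀ a ∈ R, g * a * g⁻¹ * a⁻¹ ∈ Z := by
    intro g
    rw [hCdef, MonoidHom.mem_ker]
    have h1 : σ.toHomUnits g = 1 ↔ ρ₀ g = 1 := by
      rw [Units.ext_iff]
      show M (ρ₀ g) = 1 ↔ _
      rw [← map_one M, hMinj.eq_iff]
    rw [h1]
    constructor
    · intro h a ha
      obtain ⟨u, hu⟩ := hvec a ha
      have h3 := hval g u
      rw [h, Module.End.one_apply, hu, ← map_inv, ← map_mul, ← map_mul] at h3
      refine (QuotientGroup.eq_one_iff _).1 ?_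
      show π (g * a * g⁻¹ * a⁻¹) = 1
      rw [map_mul π _ a⁻¹, ← h3, map_inv, mul_inv_cancel]
    · intro h
      refine LinearMap.ext fun u => hvalinj ?_
      obtain ⟨a, ha, hu⟩ := hsurjV u
      rw [hval, Module.End.one_apply, hu, ← map_inv, ← map_mul, ← map_mul, ← mul_inv_eq_one,
        ← map_inv, ← map_mul]
      exact (QuotientGroup.eq_one_iff _).2 (h a ha)
  refine ⟨d, σ, ?_, ?_, ?_, fun g hg => (hC g).1 hg⟩
  · -- no normal r-section
    set f := QuotientGroup.mk' C with hf
    haveI : (Cfsg.pCore r (G ⧸ C)).Normal := CfsgLib.Solvable.pCore_normal r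
    set P0 := (Cfsg.pCore r (G ⧸ C)).comap f with hP0
    haveI : P0.Normal := Subgroup.Normal.comap inferInstance f
    suffices hP0C : P0 ≤ C by
      rw [← map_comap_eq_self_of_surjective (QuotientGroup.mk'_surjective C) (Cfsg.pCore r (G ⧸ C)),
        Subgroup.map_eq_bot_iff, QuotientGroup.ker_mk']
      exact hP0C
    let S0 : Sylow r G := default
    have hRS : R ≤ (S0 : Subgroup G) :=
      (S0.3 (hR.to_sup_of_normal_left S0.2) le_sup_right).le.trans' le_sup_left
    have hPS : P0 ≤ (S0 : Subgroup G) ⊔ C := by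
      intro g hg
      have h1 : f g ∈ ((S0.mapSurjective (QuotientGroup.mk'_surjective C) : Sylow r (G ⧸ C)) :
          Subgroup (G ⧸ C)) := CfsgLib.Fitting.pCore_le_sylow _ hg
      obtain ⟨t, ht, htg⟩ := h1
      rw [← mul_inv_cancel_left t g]
      exact mul_mem_sup ht (QuotientGroup.eq.1 htg)
    -- the elements fixed modulo Z
    set D := ⁅R, P0⁆ with hD
    have hDR : D ≤ R := commutator_le_left R P0
    by_contra hne
    have hDZ : ¬ D ≤ Z := fun hle => hne fun g hg => (hC g).2 fun a ha => by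
      have h1 := inv_mem (hle (commutator_mem_commutator ha hg))
      rwa [commutatorElement_def, show (a * g * a⁻¹ * g⁻¹)⁻¹ = g * a * g⁻¹ * a⁻¹ by group] at h1
    let A : Subgroup G := R ⊓ (centralizer (P0.map π : Set (G ⧸ Z))).comap π
    haveI : (P0.map π).Normal :=
      Subgroup.Normal.map inferInstance π (QuotientGroup.mk'_surjective Z)
    haveI : A.Normal := inferInstance
    have hAP : ⁅A, P0⁆ ≤ Z := commutator_le.2 fun a ha g hg => by
      refine (QuotientGroup.eq_one_iff _).1 ?_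
      show π ⁅a, g⁆ = 1
      rw [map_commutatorElement, commutatorElement_eq_one_iff_mul_comm]
      exact (mem_centralizer_iff.1 ha.2 (π g) ⟨g, hg, rfl⟩).symm
    have hAR : ⁅A, R⁆ ≤ Z := commutator_le.2 fun a ha b hb => by
      rw [commutatorElement_def]; exact hcomZ a ha.1 b hb
    have hZcen : ∀ H : Subgroup G, ⁅Z, H⁆ = ⊥ := fun H =>
      commutator_eq_bot_iff_le_centralizer.2 fun c hc => mem_centralizer_iff.2 fun h _ =>
        mem_center_iff.1 hc.2 h
    have hDA : ⁅D, A⁆ = ⊥ := by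
      refine Subgroup.commutator_commutator_eq_bot_of_rotate ?_ ?_
      · rw [commutator_comm P0 A, eq_bot_iff, ← hZcen R]
        exact commutator_mono hAP le_rfl
      · rw [eq_bot_iff, ← hZcen P0]
        exact commutator_mono hAR le_rfl
    set B := D ⊓ A with hB
    have hBZ : B ≤ Z := fun a ha => hmemZ a (hDR ha.1) fun c hc =>
      (mem_center_iff.1 (hcenter B inferInstance (fun a ha b hb =>
        (mem_centralizer_iff.1 (commutator_eq_bot_iff_le_centralizer.1 hDA ha.1) b hb.2).symm) ha) c).symm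
    set J := (S0 : Subgroup G).map π with hJ
    haveI : Group.IsNilpotent J := (S0.2.map π).isNilpotent
    haveI : (D.map π).Normal := Subgroup.Normal.map inferInstance π (QuotientGroup.mk'_surjective Z)
    set N := (D.map π).subgroupOf J with hN
    have hN0 : N ≠ ⊥ := fun h0 => hDZ fun a ha => by
      have : (⟨π a, ⟨a, hRS (hDR ha), rfl⟩⟩ : J) ∈ N := mem_subgroupOf.2 ⟨a, ha, rfl⟩
      rw [h0, mem_bot] at this
      exact (QuotientGroup.eq_one_iff a).1 (congrArg Subtype.val this)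
    obtain ⟨y, hy, hy1⟩ := (bot_or_exists_ne_one _).resolve_left
      (CfsgLib.PGroupBasic.inf_center_ne_bot N hN0)
    obtain ⟨a, ha, hay⟩ := mem_subgroupOf.1 hy.1
    refine hy1 (Subtype.ext ?_)
    rw [← hay]
    refine (QuotientGroup.eq_one_iff a).2 (hBZ ⟨ha, hDR ha, ?_⟩)
    show π a ∈ centralizer (P0.map π : Set (G ⧸ Z))
    rw [mem_centralizer_iff]
    rintro _ ⟨g, hg, rfl⟩
    have key : ((S0 : Subgroup G) ⊔ C).map π ≤ centralizer {π a} := by
      rw [Subgroup.map_sup]
      refine sup_le (fun u hu => mem_centralizer_iff.2 fun v hv => ?_) ?_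
      · rw [Set.mem_singleton_iff.1 hv, hay]
        exact (congrArg Subtype.val (mem_center_iff.1 hy.2 ⟨u, hu⟩)).symm
      · rintro _ ⟨c, hc, rfl⟩
        refine mem_centralizer_iff.2 fun v hv => ?_
        rw [Set.mem_singleton_iff.1 hv]
        have h1 : π (c * a * c⁻¹ * a⁻¹) = 1 := (QuotientGroup.eq_one_iff _).2 ((hC c).1 hc a (hDR ha))
        rw [map_mul, map_mul, map_mul, map_inv, map_inv, mul_inv_eq_one, mul_inv_eq_iff_eq_mul] at h1
        exact h1.symm
    exact (mem_centralizer_iff.1 (key ⟨g, hPS hg, rfl⟩) _ rfl).symm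
  · -- the moved subspace
    let S : Submodule (ZMod r) (CfsgLib.ZJ.ElabMod V hVel) :=
      AddSubgroup.toZModSubmodule r
        { carrier := {u | val u ∈ R1.map π}
          add_mem' := fun {a b} ha hb => by
            show val (a + b) ∈ R1.map π
            rw [hval_add]; exact mul_mem ha hb
          zero_mem' := one_mem (R1.map π)
          neg_mem' := fun {a} ha => (R1.map π).inv_mem ha }
    have hS : ∀ u, u ∈ S ↔ val u ∈ R1.map π := fun u => Iff.rfl
    have hScard : Nat.card S = r ^ 2 := by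
      rw [← hidx]
      have e := Subgroup.relIndex_ker R1 (f := π)
      rw [QuotientGroup.ker_mk'] at e
      rw [e]
      refine Nat.card_congr
        { toFun := fun u => ⟨val u.1, u.2⟩
          invFun := fun v => ⟨CfsgLib.ZJ.toVec hVel ⟨v.1, Subgroup.map_mono hR1 v.2⟩, v.2⟩
          left_inv := fun u => rfl
          right_inv := fun v => rfl }
    have hSd : Module.finrank (ZMod r) S = 2 := by
      have h1 := Module.natCard_eq_pow_finrank (K := ZMod r) (V := S)
      rw [hScard, Nat.card_zmod] at h1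
      exact (Nat.pow_right_injective hr.out.two_le h1).symm
    rw [hσ, ← map_one M, ← map_sub]
    refine finrank_range_baseChange_le (algebraMap (ZMod r) K) b (ρ₀ x - 1) S hSd fun u => ?_
    rw [hS]
    obtain ⟨a, ha, hu⟩ := hsurjV u
    refine ⟨x * a * x⁻¹ * a⁻¹, hx a ha, ?_⟩
    have h1 : val ((ρ₀ x - 1) u) * val u = val (ρ₀ x u) := by
      rw [← hval_add, LinearMap.sub_apply, Module.End.one_apply, sub_add_cancel]
    rw [hval, hu] at h1
    rw [eq_mul_inv_of_mul_eq h1, map_mul, map_mul, map_mul, map_inv, map_inv]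
  · rw [hσ, hσ, ← map_one M, ← map_sub, ← map_add, ← map_mul, ← map_zero M]
    refine congrArg M (LinearMap.ext fun u => hvalinj ?_)
    obtain ⟨a, ha, hu⟩ := hsurjV u
    have h1 : val ((ρ₀ x - 1) u) = π (x * a * x⁻¹ * a⁻¹) := by
      have h2 : val ((ρ₀ x - 1) u) * val u = val (ρ₀ x u) := by
        rw [← hval_add, LinearMap.sub_apply, Module.End.one_apply, sub_add_cancel]
      rw [hval, hu] at h2
      rw [eq_mul_inv_of_mul_eq h2, map_mul, map_mul, map_mul, map_inv, map_inv]
    rw [Module.End.mul_apply, LinearMap.add_apply, Module.End.one_apply, hval_add, hval, h1,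
      LinearMap.zero_apply, ← map_inv, ← map_mul, ← map_mul, ← map_mul]
    exact (QuotientGroup.eq_one_iff _).2 (hz _ (hx a ha))

variable {K : Type w} [Field K]

/-- What is to be proved for a representation. -/
def Claim (K : Type w) [Field K] (G : Type u) [Group G] (V : Type v) [AddCommGroup V] [Module K V]
    (ρ : Representation K G V) : Prop :=
  ∀ (n : ℕ), 1 ≤ n → ∀ x : G, x ^ 2 ^ n = 1 → (ρ x - 1) ^ (2 ^ n - 1) = 0 →
    x ^ 2 ^ (n - 1) ∈ Cfsg.pPrimePCore 2 G

/-- The elements `S` are involutions of deficient elements. -/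
def Deficient {G : Type u} [Group G] {V : Type v} [AddCommGroup V] [Module K V]
    (ρ : Representation K G V) (S : Set G) : Prop :=
  ∀ s ∈ S, ∃ n : ℕ, 1 ≤ n ∧ ∃ x : G, x ^ 2 ^ n = 1 ∧ (ρ x - 1) ^ (2 ^ n - 1) = 0 ∧
    s = x ^ 2 ^ (n - 1)

/-- Using the claim on composition factors. -/
theorem two_group_on [IsAlgClosed K] [CharP K 2] (d : ℕ)
    (IH : ∀ m < d, ∀ (G : Type u) [Group G] [Finite G] (V : Type v) [AddCommGroup V] [Module K V]
      [FiniteDimensional K V] [Nontrivial V] (ρ : Representation K G V), Module.finrank K V = m →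
      Function.Injective ρ → (∀ W : Submodule K V, (∀ g : G, ∀ w ∈ W, ρ g w ∈ W) → W = ⊥ ∨ W = ⊤) →
      Group.IsSolvable G → Claim K G V ρ)
    {G : Type u} [Group G] [Finite G] (hs : Group.IsSolvable G) {V : Type v} [AddCommGroup V]
    [Module K V] [FiniteDimensional K V] (hd : Module.finrank K V < d) (ρ : Representation K G V)
    (S : Set G) (hS : Deficient ρ S) (L : Subgroup G) (hL : L ≤ closure S) :
    ∀ t ∈ twoGen (oddGen L), ∃ k, ρ (t ^ 2 ^ k) = 1 := by
  refine pgroup_of_factors (K := K) Nat.prime_two (twoGen (oddGen L))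
    (fun V _ _ σ => FiniteDimensional K V ∧ Module.finrank K V < d ∧ Deficient σ S) ?_ ?_ ?_ V ρ
    ⟨inferInstance, hd, hS⟩
  · intro V _ _ σ W hW ⟨hfd, h1, h2⟩
    haveI := hfd
    refine ⟨inferInstance, lt_of_le_of_lt (Submodule.finrank_le W) h1, fun s hs => ?_⟩
    obtain ⟨n, hn, x, hx, hdx, e⟩ := h2 s hs
    exact ⟨n, hn, x, hx, wholeSub_sub_one_pow σ W hW x _ hdx, e⟩
  · intro V _ _ σ W hW ⟨hfd, h1, h2⟩
    haveI := hfd
    refine ⟨inferInstance, lt_of_le_of_lt (Submodule.finrank_quotient_le W) h1, fun s hs => ?_⟩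
    obtain ⟨n, hn, x, hx, hdx, e⟩ := h2 s hs
    exact ⟨n, hn, x, hx, quotRep_sub_one_pow σ W hW x _ hdx, e⟩
  · intro V _ _ _ _ σ hirr ⟨_, h1, h2⟩ t ht
    let M := σ.toHomUnits.ker
    let τ : Representation K (G ⧸ M) V :=
      (Units.coeHom _).comp (QuotientGroup.kerLift σ.toHomUnits)
    have hτ : ∀ g : G, τ (QuotientGroup.mk g) = σ g := fun g => rfl
    have hτinj : Function.Injective τ :=
      Units.val_injective.comp (QuotientGroup.kerLift_injective _)
    haveI := hs
    have hC := IH _ h1 (G ⧸ M) V τ rfl hτinj (fun W hW => hirr W fun g w hw => hτ g ▸ hW _ w hw)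
      (Group.isSolvable_of_surjective (QuotientGroup.mk'_surjective M))
    have := twoGen_oddGen_map_eq_one (QuotientGroup.mk' M) S (fun s hs => by
      obtain ⟨n, hn, x, hx, hdx, rfl⟩ := h2 s hs
      rw [map_pow]
      exact hC n hn _ (by rw [← map_pow, hx, map_one]) (by
        show (τ (QuotientGroup.mk x) - 1) ^ (2 ^ n - 1) = 0
        rw [hτ]; exact hdx)) L hL t ht
    exact congrArg Units.val (MonoidHom.mem_ker.1 ((QuotientGroup.eq_one_iff t).1 this))

/-- Odd order elements of a normal subgroup, seen in a larger subgroup. -/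
theorem twoGen_oddGen_le_map {G : Type u} [Group G] {H : Subgroup G} (L : Subgroup G) (hL : L ≤ H) :
    twoGen (oddGen L) ≤ (twoGen (oddGen (L.subgroupOf H))).map H.subtype := by
  have h1 : oddGen L ≤ (oddGen (L.subgroupOf H)).map H.subtype := (closure_le _).2 fun g hg =>
    ⟨⟨g, hL hg.1⟩, subset_closure ⟨mem_subgroupOf.2 hg.1, by
      rw [← orderOf_injective H.subtype H.subtype_injective]; exact hg.2⟩, rfl⟩
  refine (closure_le _).2 fun g ⟨hg, k, hk⟩ => ?_
  obtain ⟨u, hu, rfl⟩ := h1 hg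
  exact ⟨u, subset_closure ⟨hu, k, H.subtype_injective (by rw [map_pow, hk, map_one])⟩, rfl⟩

/-- `O_p` is trivial in a faithful irreducible group in characteristic `p`. -/
theorem pCore_eq_bot [IsAlgClosed K] (p : ℕ) [hp : Fact p.Prime] [CharP K p] {G : Type u} [Group G]
    [Finite G] (hs : Group.IsSolvable G) {V : Type v} [AddCommGroup V] [Module K V]
    [FiniteDimensional K V] [Nontrivial V] (ρ : Representation K G V) (hinj : Function.Injective ρ)
    (hirr : ∀ W : Submodule K V, (∀ g : G, ∀ w ∈ W, ρ g w ∈ W) → W = ⊥ ∨ W = ⊤) :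
    Cfsg.pCore p G = ⊥ := by
  by_contra hne
  haveI := hs
  haveI : (Cfsg.pCore p G).Normal := CfsgLib.Solvable.pCore_normal p
  obtain ⟨A, hAn, hA0, hAR, hAc, -⟩ := CfsgLib.Solvable.exists_normal_elementary_le hne inferInstance
  refine hA0 ((Subgroup.eq_bot_iff_forall A).2 fun a ha => hinj ?_)
  obtain ⟨k, hk⟩ := (CfsgLib.Solvable.isPGroup_pCore (G := G) p) ⟨a, hAR ha⟩
  haveI := hAn
  rw [map_one]
  refine eq_of_eqOn_weights ρ hirr (fun a ha b hb =>
    (show Commute a b from congrArg Subtype.val (hAc.is_comm.comm ⟨a, ha⟩ ⟨b, hb⟩)).map ρ)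
    fun l hl w hw => ?_
  obtain ⟨v, hv, hv0⟩ := (weight (fun a : A => ρ (a : G)) l).exists_mem_ne_zero_of_ne_bot hl
  have hpow : ∀ i : ℕ, ρ (a ^ i) v = l ⟨a, ha⟩ ^ i • v := by
    intro i
    induction i with
    | zero => simp
    | succ i ih => rw [pow_succ', rep_mul, ih, map_smul, mem_weight.1 hv ⟨a, ha⟩, smul_smul, pow_succ]
  have h1 := hpow (p ^ k)
  rw [show a ^ p ^ k = 1 from congrArg Subtype.val hk, map_one, Module.End.one_apply] at h1
  have h3 : l ⟨a, ha⟩ ^ p ^ k = 1 := smul_left_injective K hv0 (by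
    show l ⟨a, ha⟩ ^ p ^ k • v = (1 : K) • v
    rw [one_smul]; exact h1.symm)
  have h4 : l ⟨a, ha⟩ = 1 := by
    refine sub_eq_zero.1 (eq_zero_of_pow_eq_zero (n := p ^ k) ?_)
    rw [sub_pow_char_pow, h3, one_pow, sub_self]
  rw [mem_weight.1 hw ⟨a, ha⟩, h4, one_smul, Module.End.one_apply]

set_option maxHeartbeats 800000 in
/-- The claim for faithful irreducible representations. -/
theorem claim [IsAlgClosed K] [CharP K 2] : ∀ (d : ℕ) (G : Type u) [Group G] [Finite G] (V : Type v)
    [AddCommGroup V] [Module K V] [FiniteDimensional K V] [Nontrivial V] (ρ : Representation K G V),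
    Module.finrank K V = d → Function.Injective ρ →
    (∀ W : Submodule K V, (∀ g : G, ∀ w ∈ W, ρ g w ∈ W) → W = ⊥ ∨ W = ⊤) →
    Group.IsSolvable G → Claim K G V ρ := by
  intro d
  induction d using Nat.strong_induction_on with
  | _ d IH =>
  intro G _ _ V _ _ _ _ ρ hd hinj hirr hs n hn x hx hdef
  classical
  haveI := hs
  haveI : Fact (Nat.Prime 2) := ⟨Nat.prime_two⟩
  set z := x ^ 2 ^ (n - 1) with hzdef
  set L := normalClosure {z} with hL
  have hzL : z ∈ L := subset_normalClosure rfl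
  have h02 : Cfsg.pCore 2 G = ⊥ := pCore_eq_bot 2 hs ρ hinj hirr
  obtain rfl | hn2 : n = 1 ∨ 2 ≤ n := by omega
  · have h1 : ρ x = 1 := by simpa [sub_eq_zero] using hdef
    rw [hzdef, show x = 1 from hinj (h1.trans (map_one ρ).symm), one_pow]
    exact one_mem _
  by_cases hA : ∀ A : Subgroup G, A.Normal → (∀ a ∈ A, ∀ b ∈ A, a * b = b * a) →
      ∀ a ∈ A, ∃ c : K, ρ a = c • 1
  swap
  · -- blocks
    push Not at hA
    obtain ⟨A, hAn, hAc, a₀, ha₀, hns⟩ := hA
    haveI := hAn
    have hblk : ∀ (g : G) (l : A → K), weight (fun a : A => ρ (a : G)) l ≠ ⊥ →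
        ∃ a < n, (g * x * g⁻¹) ^ 2 ^ a ∈ weightStab l ∧
          ∀ w ∈ weight (fun a : A => ρ (a : G)) l,
            ((ρ ((g * x * g⁻¹) ^ 2 ^ a) - 1 : Module.End K V) ^ (2 ^ (n - a) - 1)) w = 0 := by
      intro g l hl
      have hdefg : (ρ (g * x * g⁻¹) - 1) ^ (2 ^ n - 1) = 0 := by
        have e : ∀ k : ℕ, (ρ (g * x * g⁻¹) - 1) ^ k = ρ g * (ρ x - 1) ^ k * ρ g⁻¹ := by
          intro k
          induction k with
          | zero => rw [pow_zero, pow_zero, mul_one, ← map_mul, mul_inv_cancel, map_one]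
          | succ k ih =>
            rw [pow_succ, ih, pow_succ, show ρ (g * x * g⁻¹) - 1 = ρ g * (ρ x - 1) * ρ g⁻¹ by
              rw [mul_sub, sub_mul, mul_one, ← map_mul, ← map_mul, ← map_mul, mul_inv_cancel, map_one]]
            simp only [mul_assoc]
            rw [← mul_assoc (ρ g⁻¹) (ρ g), ← map_mul, inv_mul_cancel, map_one, one_mul]
        rw [e, hdef, mul_zero, zero_mul]
      obtain ⟨a, han, hfix, hk⟩ := CfsgLib.HHExponent.block 2 ρ A
        (fun a ha b hb => by rw [← map_mul, ← map_mul, hAc a ha b hb]) (g * x * g⁻¹)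
        (by rw [Subgroup.normalizer_eq_top]; exact mem_top _) n
        (by rw [conj_pow, hx, mul_one, mul_inv_cancel]) l hl _ hdefg
        (Nat.sub_lt (pow_pos two_pos n) one_pos)
      refine ⟨a, han, mem_weightStab.2 (funext fun t => hfix t _), fun w hw => ?_⟩
      have h1 := hk w hw
      have e : (2 ^ n - 1) / 2 ^ a = 2 ^ (n - a) - 1 := by
        obtain ⟨m, rfl⟩ : ∃ m, n = a + m := ⟨n - a, by omega⟩
        rw [Nat.add_sub_cancel_left, pow_add]
        have ha : 0 < 2 ^ a := pow_pos two_pos a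
        have hm : 1 ≤ 2 ^ m := Nat.one_le_two_pow
        obtain ⟨q, hq⟩ : ∃ q, 2 ^ m = q + 1 := ⟨2 ^ m - 1, by omega⟩
        rw [hq, Nat.add_sub_cancel, mul_add, mul_one, Nat.add_sub_assoc ha,
          Nat.mul_add_div ha, Nat.div_eq_of_lt (show 2 ^ a - Nat.succ 0 < 2 ^ a by omega), add_zero]
      rwa [e] at h1
    have hLl : ∀ l : A → K, weight (fun a : A => ρ (a : G)) l ≠ ⊥ → L ≤ weightStab l := by
      intro l hl
      refine (closure_le _).2 fun s hs => ?_
      obtain ⟨g, rfl⟩ : ∃ g, g * z * g⁻¹ = s := by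
        obtain ⟨a, ha, hc⟩ := Group.mem_conjugatesOfSet_iff.1 hs
        rw [Set.mem_singleton_iff] at ha
        rw [ha] at hc
        exact isConj_iff.1 hc
      obtain ⟨a, han, hfix, -⟩ := hblk g l hl
      rw [hzdef, ← conj_pow, show 2 ^ (n - 1) = 2 ^ a * 2 ^ (n - 1 - a) by
        rw [← pow_add]; congr 1; omega, pow_mul]
      exact pow_mem hfix _
    refine le_pPrimePCore_of_twoGen L (fun t ht => ?_) hzL
    haveI := oddGen_normal L
    haveI := twoGen_normal (oddGen L)
    suffices hD : IsPGroup 2 (twoGen (oddGen L)) by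
      have := CfsgLib.Solvable.le_pCore 2 (inferInstance : (twoGen (oddGen L)).Normal) hD ht
      rwa [h02, mem_bot] at this
    intro t
    obtain ⟨k, m, hm, hkm⟩ : ∃ k m, ¬ 2 ∣ m ∧ orderOf (t : G) = 2 ^ k * m :=
      let ⟨k, m, h1, h2⟩ := Nat.exists_eq_pow_mul_and_not_dvd (orderOf_pos (t : G)).ne' 2 (by norm_num)
      ⟨k, m, h1, h2⟩
    refine ⟨k, Subtype.ext (hinj ?_)⟩
    rw [SubgroupClass.coe_pow, OneMemClass.coe_one, map_one]
    refine eq_of_eqOn_weights ρ hirr (fun a ha b hb => (show Commute a b from hAc a ha b hb).map ρ)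
      fun l hl w hw => ?_
    set Wl := weight (fun a : A => ρ (a : G)) l
    set H := weightStab l with hH
    have hHl : ∀ g ∈ H, ∀ u ∈ Wl, ρ g u ∈ Wl := fun g hg u hu => weight_invariant ρ hg hu
    have hlt : Module.finrank K Wl < d := by
      rw [← hd]
      refine Submodule.finrank_lt fun e => hns (l ⟨a₀, ha₀⟩) (LinearMap.ext fun v => ?_)
      exact mem_weight.1 (e ▸ Submodule.mem_top : v ∈ Wl) ⟨a₀, ha₀⟩
    have htm : (t : G) ∈ (twoGen (oddGen (L.subgroupOf H))).map H.subtype :=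
      twoGen_oddGen_le_map L (hLl l hl) t.2
    obtain ⟨t', ht', hte⟩ := htm
    let S : Set H := {h | ∃ g : G, (h : G) = g * z * g⁻¹}
    have hLS : L.subgroupOf H ≤ closure S := by
      refine (Subgroup.map_le_map_iff_of_injective H.subtype_injective).1 ?_
      rw [Subgroup.subgroupOf_map_subtype, inf_eq_left.2 (hLl l hl), MonoidHom.map_closure]
      refine (closure_le _).2 fun s hs => ?_
      obtain ⟨g, rfl⟩ : ∃ g, g * z * g⁻¹ = s := by
        obtain ⟨a, ha, hc⟩ := Group.mem_conjugatesOfSet_iff.1 hs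
        rw [Set.mem_singleton_iff] at ha
        rw [ha] at hc
        exact isConj_iff.1 hc
      exact subset_closure ⟨⟨g * z * g⁻¹, hLl l hl (Subgroup.Normal.conj_mem inferInstance z hzL g)⟩,
        ⟨g, rfl⟩, rfl⟩
    have hSdef : Deficient (subRep ρ H Wl hHl) S := by
      rintro s ⟨g, hg⟩
      obtain ⟨a, han, hfix, hk⟩ := hblk g l hl
      refine ⟨n - a, by omega, ⟨_, hfix⟩, Subtype.ext ?_, LinearMap.ext fun u => Subtype.ext ?_,
        Subtype.ext ?_⟩
      · rw [SubgroupClass.coe_pow, ← pow_mul, ← pow_add, Nat.add_sub_cancel' han.le, conj_pow, hx,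
          mul_one, mul_inv_cancel]
        rfl
      · rw [CfsgLib.HallHigman.subRep_sub_one_pow]
        exact hk u u.2
      · rw [hg, SubgroupClass.coe_pow, ← pow_mul, ← pow_add, hzdef, conj_pow]
        congr 3
        congr 1
        omega
    obtain ⟨j, hj⟩ := two_group_on d IH (G := H) inferInstance hlt (subRep ρ H Wl hHl) S hSdef _ hLS t' ht'
    set u := t' ^ 2 ^ k
    have hu : (u : G) = (t : G) ^ 2 ^ k := by rw [SubgroupClass.coe_pow, ← hte]; rfl
    have hum : u ^ m = 1 := Subtype.ext (by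
      rw [SubgroupClass.coe_pow, hu, ← pow_mul, ← hkm, pow_orderOf_eq_one]; rfl)
    have h5 : (subRep ρ H Wl hHl u) = 1 := by
      have h6 := pow_gcd_eq_one.2 ⟨(show (subRep ρ H Wl hHl u) ^ m = 1 by rw [← map_pow, hum, map_one]),
        (show (subRep ρ H Wl hHl u) ^ 2 ^ j = 1 by
          rw [← map_pow, ← pow_mul, mul_comm, pow_mul, map_pow, hj, one_pow])⟩
      rwa [((Nat.prime_two.coprime_iff_not_dvd.2 hm).symm.pow_right j).gcd_eq_one, pow_one] at h6
    have h7 := congrArg Subtype.val (LinearMap.congr_fun h5 ⟨w, hw⟩)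
    rw [subRep_apply, hu] at h7
    exact h7
  -- all abelian normal subgroups are scalar
  have hcenter : ∀ A : Subgroup G, A.Normal → (∀ a ∈ A, ∀ b ∈ A, a * b = b * a) → A ≤ center G :=
    fun A hAn hAc a ha => mem_center_iff.2 fun g => hinj (by
      obtain ⟨c, hc⟩ := hA A hAn hAc a ha
      rw [map_mul, map_mul, hc, mul_smul_comm, mul_one, smul_mul_assoc, one_mul])
  have hFodd : Cfsg.fittingSubgroup G ≤ Cfsg.pPrimeCore 2 G := by
    rw [CfsgLib.Solvable.fittingSubgroup_eq_iSup_pCore]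
    refine iSup_le fun q => ?_
    haveI := Fact.mk q.2
    by_cases hq : (q : ℕ) = 2
    · rw [hq, h02]; exact bot_le
    · obtain ⟨k, hk⟩ := IsPGroup.iff_card.1 (CfsgLib.Solvable.isPGroup_pCore (G := G) (q : ℕ))
      exact CfsgLib.Solvable.le_pPrimeCore 2 (CfsgLib.Solvable.pCore_normal _)
        (hk ▸ ((Nat.coprime_primes q.2 Nat.prime_two).2 hq).pow_left k)
  by_cases hall : ∀ r : Nat.Primes, ∀ a ∈ Cfsg.pCore (r : ℕ) G, Commute z a
  · have : z ∈ Cfsg.fittingSubgroup G := by
      refine CfsgLib.Fitting.centralizer_fittingSubgroup_le_of_solvable ?_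
      rw [CfsgLib.Solvable.fittingSubgroup_eq_iSup_pCore, mem_centralizer_iff]
      intro u hu
      refine Subgroup.iSup_induction _ (C := fun u : G => u * z = z * u) hu
        (fun q u hu => (hall q u hu).symm.eq) (by simp)
        (fun a c ha hc => by rw [mul_assoc, hc, ← mul_assoc, ha, mul_assoc])
    have h1 : z ∈ Cfsg.pPrimeCore 2 G := hFodd this
    exact (Cfsg.pPrimePCore 2 G).one_mem |> fun h => by
      have hz1 : z = 1 := by
        have hc := CfsgLib.Solvable.coprime_card_pPrimeCore (G := G) 2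
        have h3 : z ^ Nat.card (Cfsg.pPrimeCore 2 G) = 1 :=
          congrArg Subtype.val (pow_card_eq_one' (x := (⟨z, h1⟩ : Cfsg.pPrimeCore 2 G)))
        have h4 : z ^ 2 = 1 := by
          rw [hzdef, ← pow_mul, ← pow_succ, Nat.sub_add_cancel hn, hx]
        have h5 := pow_gcd_eq_one.2 ⟨h3, h4⟩
        rwa [hc.gcd_eq_one, pow_one] at h5
      rw [hz1]; exact h
  push Not at hall
  obtain ⟨⟨r, hrp⟩, a₀, ha₀, hne⟩ := hall
  change a₀ ∈ Cfsg.pCore r G at ha₀
  haveI := Fact.mk hrp
  have hr2 : r ≠ 2 := by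
    rintro rfl
    rw [h02, mem_bot] at ha₀
    exact hne (ha₀ ▸ Commute.one_right z)
  set R := Cfsg.pCore r G with hR
  haveI : R.Normal := CfsgLib.Solvable.pCore_normal r
  obtain ⟨hrn, hxc, R1, hR1, -, hidx, hxR, hzR⟩ := stepR ρ hinj hA r hr2 R
    (CfsgLib.Solvable.isPGroup_pCore r) n hn2 x hx hdef (fun h => hne (h a₀ ha₀))
  obtain ⟨m, σ, hcore, hrk, hkill, hker⟩ := exists_linear hcenter r R
    (CfsgLib.Solvable.isPGroup_pCore r) R1 hR1 hidx x z hxR hzR
  set M := σ.toHomUnits.ker with hM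
  let τ : Representation (AlgebraicClosure (ZMod r)) (G ⧸ M) (Fin m → AlgebraicClosure (ZMod r)) :=
    (Units.coeHom _).comp (QuotientGroup.kerLift σ.toHomUnits)
  have hτ : ∀ g : G, τ (QuotientGroup.mk g) = σ g := fun g => rfl
  have hτinj : Function.Injective τ := Units.val_injective.comp (QuotientGroup.kerLift_injective _)
  have hp2 := linear_odd (G := G ⧸ M) (Group.isSolvable_of_surjective (QuotientGroup.mk'_surjective M))
    r hr2 τ hτinj hcore (QuotientGroup.mk x) n hn2 (fun e => by rw [hrn, e]; rfl)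
    (by rw [← QuotientGroup.mk_pow, hx, QuotientGroup.mk_one]) (by rw [hτ]; exact hrk)
    (by rw [← QuotientGroup.mk_pow, hτ, hτ]; exact hkill)
  have hmap : L.map (QuotientGroup.mk' M) =
      normalClosure {(QuotientGroup.mk x : G ⧸ M) ^ 2 ^ (n - 1)} := by
    rw [hL, Subgroup.map_normalClosure _ _ (QuotientGroup.mk'_surjective M), Set.image_singleton]
    rfl
  rw [← hmap] at hp2
  have hoth : ∀ q : Nat.Primes, (q : ℕ) ≠ r → ∀ u ∈ Cfsg.pCore (q : ℕ) G, ∀ g ∈ L, Commute g u := by
    intro q hq u hu g hg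
    haveI := Fact.mk q.2
    haveI : (Cfsg.pCore (q : ℕ) G).Normal := CfsgLib.Solvable.pCore_normal _
    have : L ≤ centralizer (Cfsg.pCore (q : ℕ) G : Set G) := normalClosure_le_normal fun y hy => by
      rw [Set.mem_singleton_iff.1 hy]
      refine mem_centralizer_iff.2 fun v hv => ?_
      have hdis : Disjoint (Cfsg.pCore (q : ℕ) G) R :=
        IsPGroup.disjoint_of_ne _ _ hq _ _ (CfsgLib.Solvable.isPGroup_pCore _)
          (CfsgLib.Solvable.isPGroup_pCore _)
      have h1 : Commute v x := hxc v fun a ha =>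
        Subgroup.commute_of_normal_of_disjoint _ _ inferInstance inferInstance hdis v a hv ha
      exact (h1.pow_right _).eq
    exact (mem_centralizer_iff.1 (this hg) u hu).symm
  refine le_pPrimePCore_of_twoGen L (fun t ht => ?_) hzL
  -- the odd part of L centralises R modulo Z
  have hodd : oddGen L ≤ Cfsg.pPrimeCore 2 G := by
    refine (closure_le _).2 fun g ⟨hg, hgo⟩ => ?_
    have hgM : g ∈ M := by
      obtain ⟨k, hk⟩ := hp2 ⟨QuotientGroup.mk g, ⟨g, hg, rfl⟩⟩
      refine (QuotientGroup.eq_one_iff g).1 ?_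
      have h3 : (QuotientGroup.mk g : G ⧸ M) ^ 2 ^ k = 1 := congrArg Subtype.val hk
      have h4 := pow_gcd_eq_one.2 ⟨(show (QuotientGroup.mk g : G ⧸ M) ^ orderOf g = 1 by
        rw [← QuotientGroup.mk_pow, pow_orderOf_eq_one, QuotientGroup.mk_one]), h3⟩
      rwa [(hgo.coprime_two_right.pow_right k).gcd_eq_one, pow_one] at h4
    -- the kernel of everything is odd
    let T : Subgroup G := M ⊓ (⨅ q : {q : Nat.Primes // (q : ℕ) ≠ r},
      centralizer (Cfsg.pCore (q.1 : ℕ) G : Set G))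
    have hgT : g ∈ T := ⟨hgM, mem_iInf.2 fun q => mem_centralizer_iff.2 fun u hu =>
      (hoth q.1 q.2 u hu g hg).symm.eq⟩
    have hTr : ∀ y ∈ T, y ^ r ∈ Cfsg.fittingSubgroup G := by
      intro y hy
      refine CfsgLib.Fitting.centralizer_fittingSubgroup_le_of_solvable ?_
      rw [CfsgLib.Solvable.fittingSubgroup_eq_iSup_pCore, mem_centralizer_iff]
      intro u hu
      refine Subgroup.iSup_induction _ (C := fun u : G => u * y ^ r = y ^ r * u) hu
        (fun q u hu => ?_) (by simp)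
        (fun a c ha hc => by rw [mul_assoc, hc, ← mul_assoc, ha, mul_assoc])
      by_cases hq : (q : ℕ) = r
      · rw [hq] at hu
        have hc := hker y hy.1 u hu
        set c := y * u * y⁻¹ * u⁻¹ with hcdef
        have hcy : Commute c y := (mem_center_iff.1 hc.2 y).symm
        have h1 := comm_pow_left hcy r
        have hcr : c ^ r = 1 := by
          have h2 : u ^ r * y = y * u ^ r := by
            have hu2 : u ^ r ∈ R ⊓ center G := by
              have hcl := fun {a b : G} (ha : a ∈ R) (hb : b ∈ R) =>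
                classTwo R (CfsgLib.Solvable.isPGroup_pCore r) (fun A hAn _ hAc a ha r _ =>
                  (mem_center_iff.1 (hcenter A hAn hAc ha) r).symm) ha hb
              exact ⟨pow_mem hu r, hcenter (R ⊓ centralizer (R : Set G)) inferInstance
                (fun a ha b hb => (mem_centralizer_iff.1 ha.2 b hb.1).symm)
                ⟨pow_mem hu r, mem_centralizer_iff.2 fun b hb => ((hcl hu hb).2.2).symm.eq⟩⟩
            exact (mem_center_iff.1 hu2.2 y).symm
          have h3 : (y * u * y⁻¹) ^ r = u ^ r := by rw [conj_pow, ← h2, mul_inv_cancel_right]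
          have h4 : y * u * y⁻¹ = c * u := by rw [hcdef, inv_mul_cancel_right]
          rw [h4, (show Commute c u from (mem_center_iff.1 hc.2 u).symm).mul_pow, mul_eq_right] at h3
          exact h3
        rw [hcr, mul_inv_eq_one] at h1
        exact (mul_inv_eq_iff_eq_mul.1 h1).symm
      · exact (((show Commute u y from mem_centralizer_iff.1 (mem_iInf.1 hy.2 ⟨q, hq⟩) u hu)).pow_right r).eq
    haveI : T.Normal := by
      haveI : ∀ q : {q : Nat.Primes // (q : ℕ) ≠ r},
          (centralizer (Cfsg.pCore (q.1 : ℕ) G : Set G)).Normal := fun q => by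
        haveI : (Cfsg.pCore (q.1 : ℕ) G).Normal := CfsgLib.Solvable.pCore_normal _
        infer_instance
      haveI := Subgroup.normal_iInf_normal (fun q : {q : Nat.Primes // (q : ℕ) ≠ r} =>
        (inferInstance : (centralizer (Cfsg.pCore (q.1 : ℕ) G : Set G)).Normal))
      infer_instance
    have hTodd : (Nat.card T).Coprime 2 := by
      refine ((Nat.Prime.coprime_iff_not_dvd Nat.prime_two).2 fun hd => ?_).symm
      obtain ⟨y, hy⟩ := exists_prime_orderOf_dvd_card' 2 hd
      have hy2 : (y : G) ^ 2 = 1 := by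
        rw [← SubgroupClass.coe_pow, ← hy, pow_orderOf_eq_one, OneMemClass.coe_one]
      obtain ⟨t', ht'⟩ := hrp.odd_of_ne_two hr2
      have h1 := hFodd (hTr y y.2)
      rw [ht', pow_succ, pow_mul, hy2, one_pow, one_mul] at h1
      have hc := CfsgLib.Solvable.coprime_card_pPrimeCore (G := G) 2
      have h3 : (y : G) ^ Nat.card (Cfsg.pPrimeCore 2 G) = 1 :=
        congrArg Subtype.val (pow_card_eq_one' (x := (⟨y, h1⟩ : Cfsg.pPrimeCore 2 G)))
      have h5 := pow_gcd_eq_one.2 ⟨h3, hy2⟩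
      rw [hc.gcd_eq_one, pow_one] at h5
      rw [show y = 1 from Subtype.ext h5, orderOf_one] at hy
      omega
    exact CfsgLib.Solvable.le_pPrimeCore 2 inferInstance hTodd hgT
  obtain ⟨k, hk⟩ : ∃ k : ℕ, t ^ 2 ^ k = 1 := by
    suffices IsPGroup 2 (twoGen (oddGen L)) by
      obtain ⟨k, hk⟩ := this ⟨t, ht⟩
      exact ⟨k, congrArg Subtype.val hk⟩
    -- generated by 2-elements of an odd group
    have hbot : twoGen (oddGen L) = ⊥ := by
      refine eq_bot_iff.2 ((closure_le _).2 fun g ⟨hg, k, hk⟩ => ?_)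
      have hc := CfsgLib.Solvable.coprime_card_pPrimeCore (G := G) 2
      have h3 : g ^ Nat.card (Cfsg.pPrimeCore 2 G) = 1 :=
        congrArg Subtype.val (pow_card_eq_one' (x := (⟨g, hodd hg⟩ : Cfsg.pPrimeCore 2 G)))
      have h5 := pow_gcd_eq_one.2 ⟨h3, hk⟩
      rw [(hc.pow_right k).gcd_eq_one, pow_one] at h5
      exact Subgroup.mem_bot.2 h5
    rw [hbot]; exact IsPGroup.of_bot
  have hc := CfsgLib.Solvable.coprime_card_pPrimeCore (G := G) 2
  have h3 : t ^ Nat.card (Cfsg.pPrimeCore 2 G) = 1 :=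
    congrArg Subtype.val (pow_card_eq_one' (x := (⟨t, hodd (twoGen_le _ ht)⟩ : Cfsg.pPrimeCore 2 G)))
  have h5 := pow_gcd_eq_one.2 ⟨h3, hk⟩
  rwa [(hc.pow_right k).gcd_eq_one, pow_one] at h5

/-- The claim for a faithful representation of a group with trivial `O_2`. -/
theorem mem_pPrimePCore [IsAlgClosed K] [CharP K 2] {G : Type u} [Group G] [Finite G]
    (hs : Group.IsSolvable G) {V : Type v} [AddCommGroup V] [Module K V] [FiniteDimensional K V]
    (ρ : Representation K G V) (hinj : Function.Injective ρ) (h0 : Cfsg.pCore 2 G = ⊥)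
    (n : ℕ) (hn : 1 ≤ n) (x : G) (hx : x ^ 2 ^ n = 1) (hdef : (ρ x - 1) ^ (2 ^ n - 1) = 0) :
    x ^ 2 ^ (n - 1) ∈ Cfsg.pPrimePCore 2 G := by
  haveI : Fact (Nat.Prime 2) := ⟨Nat.prime_two⟩
  set z := x ^ 2 ^ (n - 1) with hzdef
  let S := Group.conjugatesOfSet ({z} : Set G)
  have hS : Deficient ρ S := by
    intro s hsS
    obtain ⟨a, ha, hc⟩ := Group.mem_conjugatesOfSet_iff.1 hsS
    rw [Set.mem_singleton_iff] at ha
    subst ha
    obtain ⟨g, rfl⟩ := isConj_iff.1 hc
    refine ⟨n, hn, g * x * g⁻¹, by rw [conj_pow, hx, mul_one, mul_inv_cancel], ?_, by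
      rw [hzdef, conj_pow]⟩
    have e : ∀ k : ℕ, (ρ (g * x * g⁻¹) - 1) ^ k = ρ g * (ρ x - 1) ^ k * ρ g⁻¹ := by
      intro k
      induction k with
      | zero => rw [pow_zero, pow_zero, mul_one, ← map_mul, mul_inv_cancel, map_one]
      | succ k ih =>
        rw [pow_succ, ih, pow_succ, show ρ (g * x * g⁻¹) - 1 = ρ g * (ρ x - 1) * ρ g⁻¹ by
          rw [mul_sub, sub_mul, mul_one, ← map_mul, ← map_mul, ← map_mul, mul_inv_cancel, map_one]]
        simp only [mul_assoc]
        rw [← mul_assoc (ρ g⁻¹) (ρ g), ← map_mul, inv_mul_cancel, map_one, one_mul]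
    rw [e, hdef, mul_zero, zero_mul]
  haveI : (normalClosure ({z} : Set G)).Normal := normalClosure_normal
  refine le_pPrimePCore_of_twoGen (normalClosure ({z} : Set G)) (fun t ht => ?_) (subset_normalClosure rfl)
  haveI := oddGen_normal (normalClosure ({z} : Set G))
  haveI := twoGen_normal (oddGen (normalClosure ({z} : Set G)))
  suffices hD : IsPGroup 2 (twoGen (oddGen (normalClosure ({z} : Set G)))) by
    have := CfsgLib.Solvable.le_pCore 2 inferInstance hD ht
    rwa [h0, mem_bot] at this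
  intro u
  obtain ⟨k, hk⟩ := two_group_on (Module.finrank K V + 1) (fun m _ => claim m) hs (by omega) ρ S hS
    (normalClosure ({z} : Set G)) le_rfl u u.2
  exact ⟨k, Subtype.ext (hinj (by rw [SubgroupClass.coe_pow, hk, OneMemClass.coe_one, map_one]))⟩

open CfsgLib.FGSA in
/-- The bound, by induction on the exponent. -/
theorem pLengthLE_two (e : ℕ) : ∀ (G : Type u) [Group G] [Finite G], Group.IsSolvable G →
    (∀ P : Subgroup G, IsPGroup 2 P → ∀ y ∈ P, y ^ 2 ^ (e + 1) = 1) →
    Cfsg.PLengthLE 2 (2 * e + 1) G := by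
  haveI : Fact (Nat.Prime 2) := ⟨Nat.prime_two⟩
  induction e with
  | zero =>
    intro G _ _ hs hexp
    haveI := hs
    have h0 := CfsgLib.HHExponent.pPrimeCore_quotient_U (p := 2) (G := G) (i := 0) (by decide)
    haveI : (Cfsg.pCore 2 (G ⧸ PLen.U 2 G 1)).Normal := CfsgLib.Solvable.pCore_normal 2
    obtain ⟨d, ρ, hinj, hA, -⟩ := CfsgLib.HHExponent.exists_rep (p := 2) h0
      (isPSolvable_of_solvable 2 (Group.isSolvable_of_surjective
        (QuotientGroup.mk'_surjective _)))
    have key : ∀ P : Subgroup G, IsPGroup 2 P → ∀ g ∈ P, g ∈ PLen.U 2 G (1 + 1) := by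
      intro P hP g hg
      refine CfsgLib.HHExponent.mem_U_succ_of_odd (by decide) ?_
      set g' := QuotientGroup.mk' (PLen.U 2 G 1) g
      have hg' : IsPGroup 2 (zpowers g') :=
        MonoidHom.map_zpowers (QuotientGroup.mk' (PLen.U 2 G 1)) g ▸
          (hP.to_le (zpowers_le.2 hg)).map _
      have hexp' := CfsgLib.HHExponent.exponent_quotient (PLen.U 2 G 1) hexp
      have h1 := hA g' 1 fun f hf => by
        rw [hexp' _ hg' g' (mem_zpowers g'), hexp' _ (IsPGroup.to_sup_of_normal_left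
          (CfsgLib.Solvable.isPGroup_pCore 2) hg') (f * g') (mul_mem_sup hf (mem_zpowers g'))]
      rw [show (2 ^ 1 - 1 : ℕ) = 1 from rfl, pow_one, sub_eq_zero, ← map_one ρ] at h1
      exact (QuotientGroup.eq_one_iff g').1 (hinj h1)
    refine PLen.pLengthLE_add (a := 1) (b := 0) _ (CfsgLib.HHExponent.pLengthLE_U 1) ?_
    refine CfsgLib.HHExponent.pLengthLE_of_exponent_zero fun P hP y hy => ?_
    obtain ⟨S, hS, hle⟩ := CfsgLib.HHExponent.exists_lift _ hP
    obtain ⟨y', hy', rfl⟩ := hle hy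
    rw [pow_zero, pow_one]
    exact (QuotientGroup.eq_one_iff _).2 (key S hS y' hy')
  | succ e ih =>
    intro G _ _ hs hexp
    haveI := hs
    have h0 := CfsgLib.HHExponent.pPrimeCore_quotient_U (p := 2) (G := G) (i := 0) (by decide)
    set Y := G ⧸ PLen.U 2 G 1
    haveI : (Cfsg.pCore 2 Y).Normal := CfsgLib.Solvable.pCore_normal 2
    obtain ⟨d, ρ, hinj, hA, -⟩ := CfsgLib.HHExponent.exists_rep (p := 2) h0
      (isPSolvable_of_solvable 2 (Group.isSolvable_of_surjective
        (QuotientGroup.mk'_surjective _)))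
    let f : G →* Y ⧸ Cfsg.pCore 2 Y :=
      (QuotientGroup.mk' (Cfsg.pCore 2 Y)).comp (QuotientGroup.mk' (PLen.U 2 G 1))
    have hfs : Function.Surjective f :=
      (QuotientGroup.mk'_surjective _).comp (QuotientGroup.mk'_surjective _)
    have hfk : f.ker = PLen.U 2 G (1 + 1) := by
      show f.ker = (Cfsg.upperPSeries 2 G (1 + 1)).1
      simp only [Cfsg.upperPSeries, if_neg (show ¬ Even 1 by decide), f, ← MonoidHom.comap_ker,
        QuotientGroup.ker_mk']
      rfl
    haveI : (Cfsg.pPrimeCore 2 (Y ⧸ Cfsg.pCore 2 Y)).Normal := CfsgLib.Solvable.pPrimeCore_normal 2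
    set W := (Cfsg.pPrimeCore 2 (Y ⧸ Cfsg.pCore 2 Y)).comap f with hW
    set W' := (Cfsg.pPrimePCore 2 (Y ⧸ Cfsg.pCore 2 Y)).comap f with hW'
    have hWU : W ≤ PLen.U 2 G (2 + 1) := by
      refine PLen.le_succ (Subgroup.Normal.comap inferInstance f) ?_
      show PLen.Good 2 2 ((PLen.U 2 G (1 + 1)).relIndex W)
      rw [← hfk, Subgroup.relIndex_ker, map_comap_eq_self_of_surjective hfs, PLen.Good,
        if_pos (by decide)]
      exact CfsgLib.Solvable.coprime_card_pPrimeCore 2
    have hWU' : W' ≤ PLen.U 2 G (3 + 1) := by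
      haveI : (Cfsg.pPrimePCore 2 (Y ⧸ Cfsg.pCore 2 Y)).Normal := by
        haveI := CfsgLib.Solvable.pCore_normal (G := (Y ⧸ Cfsg.pCore 2 Y) ⧸
          Cfsg.pPrimeCore 2 (Y ⧸ Cfsg.pCore 2 Y)) 2
        exact Subgroup.Normal.comap inferInstance _
      refine PLen.le_succ (Subgroup.Normal.comap inferInstance f) ?_
      refine PLen.Good.of_dvd ?_ (Subgroup.relIndex_dvd_of_le_left W' hWU)
      let f' := (QuotientGroup.mk' (Cfsg.pPrimeCore 2 (Y ⧸ Cfsg.pCore 2 Y))).comp f
      have hk : f'.ker = W := by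
        simp only [f', ← MonoidHom.comap_ker, QuotientGroup.ker_mk', hW]
      rw [← hk, Subgroup.relIndex_ker, hW', Cfsg.pPrimePCore, Subgroup.comap_comap,
        map_comap_eq_self_of_surjective (f := f') ((QuotientGroup.mk'_surjective _).comp hfs), PLen.Good,
        if_neg (by decide)]
      exact IsPGroup.iff_card.1 (CfsgLib.Solvable.isPGroup_pCore 2)
    have key : ∀ P : Subgroup G, IsPGroup 2 P → ∀ g ∈ P, g ^ 2 ^ (e + 1) ∈ PLen.U 2 G (3 + 1) := by
      intro P hP g hg
      refine hWU' (show f (g ^ 2 ^ (e + 1)) ∈ Cfsg.pPrimePCore 2 _ from ?_)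
      set g' := QuotientGroup.mk' (PLen.U 2 G 1) g
      have hg' : IsPGroup 2 (zpowers g') :=
        MonoidHom.map_zpowers (QuotientGroup.mk' (PLen.U 2 G 1)) g ▸
          (hP.to_le (zpowers_le.2 hg)).map _
      have hexp' := CfsgLib.HHExponent.exponent_quotient (PLen.U 2 G 1) hexp
      have h1 := hA g' (e + 1 + 1) fun f hf => by
        rw [hexp' _ hg' g' (mem_zpowers g'), hexp' _ (IsPGroup.to_sup_of_normal_left
          (CfsgLib.Solvable.isPGroup_pCore 2) hg') (f * g') (mul_mem_sup hf (mem_zpowers g'))]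
      rw [map_pow]
      exact mem_pPrimePCore (Group.isSolvable_of_surjective hfs) ρ hinj CfsgLib.HHExponent.pCore_quotient
        (e + 1 + 1) (by omega) (f g)
        (by rw [← map_pow, hexp P hP g hg, map_one]) h1
    have hQ : Cfsg.PLengthLE 2 (2 * e + 1) (G ⧸ PLen.U 2 G (3 + 1)) := by
      refine ih _ (Group.isSolvable_of_surjective (QuotientGroup.mk'_surjective _)) fun P hP y hy => ?_
      obtain ⟨S, hS, hle⟩ := CfsgLib.HHExponent.exists_lift _ hP
      obtain ⟨y', hy', rfl⟩ := hle hy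
      rw [← map_pow]
      exact (QuotientGroup.eq_one_iff _).2 (key S hS y' hy')
    exact PLen.pLengthLE_mono (by omega)
      (PLen.pLengthLE_add (a := 2) _ (CfsgLib.HHExponent.pLengthLE_U 2) hQ)

end CfsgLib.GrossTwo
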