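import Cfsg.Agent.GrossTwo.Twist
import Cfsg.Agent.GrossTwo.ClassTwo

/-!
A deficient element in a group all of whose abelian normal subgroups act by scalars: its action on
an odd core.
-/

set_option autoImplicit false
set_option linter.style.haveILetI false
set_option linter.unusedSectionVars false

namespace CfsgLib.GrossTwo

open Subgroup Finset
open CfsgLib.HallHigman (subRep subRep_apply)

universe u v w

theorem charP_end {K : Type w} [Field K] {V : Type v} [AddCommGroup V] [Module K V] [Nontrivial V]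
    (p : ℕ) [CharP K p] : CharP (Module.End K V) p :=
  charP_of_injective_algebraMap (algebraMap K (Module.End K V)).injective p

/-- A fixed vector of a monomial operator with free orbits outside `u₀` is a trace. -/
theorem fixed_eq_trace {K : Type w} [Field K] {E : Type v} [AddCommGroup E] [Module K E]
    {U : Type u} [Fintype U] (b : Module.Basis U K E) (A : E →ₗ[K] E) (π : U → U)
    (hπ : Function.Injective π) (u₀ : U) (hu₀ : π u₀ = u₀)
    (hA : ∀ u, ∃ c : K, A (b u) = c • b (π u)) (N : ℕ) (hN : 0 < N) (hAN : A ^ N = 1)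
    (hfree : ∀ i, 0 < i → i < N → ∀ u, π^[i] u = u → u = u₀) (φ : E) (hφ : A φ = φ) :
    ∃ (c : K) (f : E), φ = c • b u₀ + ∑ i ∈ range N, (A ^ i) f := by
  classical
  choose ε hε using hA
  have hε0 : ∀ u, ε u ≠ 0 := fun u h0 => by
    have h1 : (A ^ N) (b u) = b u := by rw [hAN]; rfl
    rw [← Nat.sub_add_cancel hN, pow_succ, Module.End.mul_apply, hε u, h0, zero_smul, map_zero] at h1
    exact b.ne_zero u h1.symm
  have hrepr : ∀ (ψ : E) (u : U), b.repr (A ψ) (π u) = ε u * b.repr ψ u := by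
    intro ψ u
    conv_lhs => rw [← b.sum_repr ψ]
    simp only [map_sum, map_smul, Finsupp.finsetSum_apply, Finsupp.smul_apply, hε, b.repr_self,
      Finsupp.single_apply, smul_eq_mul, hπ.eq_iff, mul_ite, mul_one, mul_zero]
    rw [Finset.sum_ite_eq' univ u, if_pos (mem_univ u), mul_comm]
  have hpow : ∀ (i : ℕ) (u : U), ∃ c : K, (A ^ i) (b u) = c • b (π^[i] u) := by
    intro i
    induction i with
    | zero => exact fun u => ⟨1, by simp⟩
    | succ i ih =>
      intro u
      obtain ⟨c, hc⟩ := ih u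
      exact ⟨c * ε (π^[i] u), by
        rw [pow_succ', Module.End.mul_apply, hc, map_smul, hε, smul_smul, Function.iterate_succ_apply']⟩
  have hshift : ∀ f : E, A (∑ i ∈ range N, (A ^ i) f) = ∑ i ∈ range N, (A ^ i) f := by
    intro f
    rw [map_sum]
    simp only [← Module.End.mul_apply, ← pow_succ']
    have h1 := (Finset.sum_range_succ' (fun i => (A ^ i) f) N).symm.trans
      (Finset.sum_range_succ (fun i => (A ^ i) f) N)
    simp only [pow_zero, hAN] at h1
    exact add_right_cancel h1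
  have key : ∀ (m : ℕ) (ψ : E), A ψ = ψ →
      (univ.filter fun u => b.repr ψ u ≠ 0 ∧ u ≠ u₀).card ≤ m →
      ∃ (c : K) (f : E), ψ = c • b u₀ + ∑ i ∈ range N, (A ^ i) f := by
    intro m
    induction m with
    | zero =>
      intro ψ _ hc
      refine ⟨b.repr ψ u₀, 0, ?_⟩
      simp only [map_zero, sum_const_zero, add_zero]
      conv_lhs => rw [← b.sum_repr ψ]
      refine Finset.sum_eq_single_of_mem u₀ (mem_univ _) fun u _ hu => ?_
      rw [Nat.le_zero, card_eq_zero, filter_eq_empty_iff] at hc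
      rw [show b.repr ψ u = 0 from by_contra fun h => hc (mem_univ u) ⟨h, hu⟩, zero_smul]
    | succ m ih =>
      intro ψ hψ hc
      by_cases hex : ∃ u, b.repr ψ u ≠ 0 ∧ u ≠ u₀
      swap
      · refine ih ψ hψ ?_
        rw [filter_eq_empty_iff.2 fun u _ h => hex ⟨u, h⟩, card_empty]
        exact Nat.zero_le _
      obtain ⟨u, hu, hu0⟩ := hex
      have horb : ∀ i, b.repr ψ (π^[i] u) ≠ 0 ∧ π^[i] u ≠ u₀ := by
        intro i
        induction i with
        | zero => exact ⟨hu, hu0⟩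
        | succ i ih' =>
          rw [Function.iterate_succ_apply']
          refine ⟨?_, fun h => ih'.2 (hπ (h.trans hu₀.symm))⟩
          rw [← hψ, hrepr]
          exact mul_ne_zero (hε0 _) ih'.1
      set f₁ := b.repr ψ u • b u with hf₁
      choose δ hδ using fun i => hpow i u
      have hcoef : ∀ i v, b.repr ((A ^ i) f₁) v =
          if π^[i] u = v then b.repr ψ u * δ i else 0 := fun i v => by
        rw [hf₁, map_smul, hδ, smul_smul, map_smul, Finsupp.smul_apply, b.repr_self,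
          Finsupp.single_apply, smul_eq_mul, mul_ite, mul_one, mul_zero]
      set ψ' := ψ - ∑ i ∈ range N, (A ^ i) f₁ with hψ'
      have hval : ∀ v, b.repr ψ' v = b.repr ψ v -
          ∑ i ∈ range N, (if π^[i] u = v then b.repr ψ u * δ i else 0) := fun v => by
        rw [hψ', map_sub, Finsupp.sub_apply, map_sum, Finsupp.finsetSum_apply]
        exact congrArg _ (sum_congr rfl fun i _ => hcoef i v)
      have hδ0 : δ 0 = 1 := by
        have h := hδ 0
        rw [pow_zero, Module.End.one_apply, Function.iterate_zero_apply] at h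
        have h2 := congrArg (fun e => b.repr e u) h
        simpa using h2.symm
      have hu' : b.repr ψ' u = 0 := by
        rw [hval, Finset.sum_eq_single_of_mem 0 (mem_range.2 hN) fun i hi hi0 => if_neg fun h =>
          hu0 (hfree i (Nat.pos_of_ne_zero hi0) (mem_range.1 hi) u h)]
        rw [Function.iterate_zero_apply, if_pos rfl, hδ0, mul_one, sub_self]
      have hsub : (univ.filter fun v => b.repr ψ' v ≠ 0 ∧ v ≠ u₀) ⊆
          (univ.filter fun v => b.repr ψ v ≠ 0 ∧ v ≠ u₀).erase u := by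
        intro v hv
        rw [mem_filter] at hv
        refine mem_erase.2 ⟨fun h => hv.2.1 (h ▸ hu'), mem_filter.2 ⟨mem_univ v, fun h0 => ?_, hv.2.2⟩⟩
        by_cases hor : ∃ i, π^[i] u = v
        · obtain ⟨i, hi⟩ := hor
          exact (horb i).1 (hi ▸ h0)
        · refine hv.2.1 ?_
          rw [hval, h0, zero_sub, neg_eq_zero]
          exact sum_eq_zero fun i _ => if_neg fun h => hor ⟨i, h⟩
      obtain ⟨c, f, hf⟩ := ih ψ' (by rw [hψ', map_sub, hψ, hshift]) (by
        refine (card_le_card hsub).trans ?_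
        rw [card_erase_of_mem (mem_filter.2 ⟨mem_univ u, hu, hu0⟩)]
        omega)
      refine ⟨c, f + f₁, ?_⟩
      simp only [map_add, sum_add_distrib]
      rw [← add_assoc, ← hf, hψ', sub_add_cancel]
  exact key _ φ hφ le_rfl

/-- A power of an odd prime one less than a power of two is the prime itself. -/
theorem exponent_eq_one {r k n : ℕ} (hr : r.Prime) (hr2 : r ≠ 2) (hn : 2 ≤ n)
    (h : r ^ k + 1 = 2 ^ n) : k = 1 := by
  have hodd : Odd r := hr.odd_of_ne_two hr2
  have h4 : (4 : ℕ) ∣ 2 ^ n := ⟨2 ^ (n - 2), by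
    rw [show (4 : ℕ) = 2 ^ 2 by norm_num, ← pow_add, Nat.add_sub_cancel' hn]⟩
  rcases Nat.even_or_odd k with ⟨j, hj⟩ | ⟨j, hj⟩
  · exfalso
    rw [← h, hj, ← two_mul, mul_comm, pow_mul] at h4
    have h1 : Odd (r ^ j) := hodd.pow
    obtain ⟨t, ht⟩ := h1
    rw [ht] at h4
    have : (2 * t + 1) ^ 2 + 1 = 4 * (t * t + t) + 2 := by ring
    rw [this] at h4
    omega
  · rcases Nat.eq_zero_or_pos j with rfl | hj0
    · simpa using hj
    exfalso
    set M := 2 * (r + 1) with hM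
    have h2 : r ^ 2 ≡ 1 [MOD M] := by
      obtain ⟨t, ht⟩ := hodd
      rw [Nat.ModEq, hM, show r ^ 2 = 1 + 2 * (r + 1) * t by rw [ht]; ring, Nat.add_mul_mod_self_left]
    have h3 : r ^ k + 1 ≡ r + 1 [MOD M] := by
      rw [hj, pow_succ, pow_mul]
      have := ((h2.pow j).mul_right r).add_right 1
      rwa [one_pow, one_mul] at this
    have hlt : r + 1 < M := by omega
    obtain ⟨a, -, ha⟩ := (Nat.dvd_prime_pow Nat.prime_two).1
      (show r + 1 ∣ 2 ^ n by
        rw [← h]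
        have h5 := h3.of_mul_left 2
        exact (Nat.ModEq.dvd_iff h5 dvd_rfl).2 dvd_rfl)
    have han : a < n := by
      refine (Nat.pow_lt_pow_iff_right (by norm_num : 1 < 2)).1 ?_
      rw [← ha, ← h]
      refine Nat.add_lt_add_right ?_ 1
      calc r = r ^ 1 := (pow_one r).symm
        _ < r ^ k := Nat.pow_lt_pow_right hr.one_lt (by omega)
    have hdvd : M ∣ r ^ k + 1 := by
      rw [h, hM, ha, ← pow_succ']
      exact pow_dvd_pow 2 han
    have := Nat.le_of_dvd (by omega) ((Nat.ModEq.dvd_iff h3 dvd_rfl).1 hdvd)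
    omega

section Step

variable {K : Type w} [Field K] {G : Type u} [Group G]
variable {V : Type v} [AddCommGroup V] [Module K V]

/-- In an endomorphism algebra a unit of finite order cancels on the right. -/
theorem mul_right_cancel_of_pow {E : Type*} [Monoid E] {A B Y : E} {N : ℕ} (hN : 0 < N)
    (hY : Y ^ N = 1) (h : A * Y = B * Y) : A = B := by
  have h1 := congrArg (· * Y ^ (N - 1)) h
  simpa only [mul_assoc, ← pow_succ', Nat.sub_add_cancel hN, hY, mul_one] using h1

/-- The binomial formula to first order. -/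
theorem add_pow_apply_of_sq [CharP K 2] {T U : Module.End K V} (hTU : Commute T U) {v : V}
    (h2 : U (U v) = 0) : ∀ k : ℕ,
      ((T + U) ^ (k + 1)) v = (T ^ (k + 1)) v + ((k + 1 : ℕ) : K) • (T ^ k) (U v) := by
  intro k
  induction k with
  | zero => simp
  | succ k ih =>
    rw [pow_succ', Module.End.mul_apply, ih, map_add, map_smul, LinearMap.add_apply,
      LinearMap.add_apply, ← Module.End.mul_apply T, ← pow_succ', ← Module.End.mul_apply T (T ^ k),
      ← pow_succ', ← Module.End.mul_apply U (T ^ (k + 1)), ← ((hTU.pow_left (k + 1))).eq,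
      Module.End.mul_apply (T ^ (k + 1)) U, ← Module.End.mul_apply U (T ^ k),
      ← (hTU.pow_left k).eq, Module.End.mul_apply (T ^ k) U, h2, map_zero, add_zero,
      Nat.cast_succ (k + 1), add_smul, one_smul]
    abel

/-- Operators `X - 1` and `Y - 1`, nilpotent and commuting, with `X` in the span: if `(X Y - 1)` is
deficient and `X - 1` has nilpotency index `N - 1`, then `Y = 1`. -/
theorem eq_one_of_deficient [CharP K 2] [Finite G] {ρ : Representation K G V} {Q Z : Subgroup G}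
    (hQ : Nondeg ρ Q Z) {X Y : Module.End K V} (hX : X ∈ spanQ ρ Q)
    (hY : ∀ A ∈ spanQ ρ Q, Commute Y A) {N : ℕ} (hN : 4 ≤ N) (hNe : Even N) (hXN : X ^ N = 1)
    (hYN : (Y - 1) ^ N = 0) (hdef : (X * Y - 1) ^ (N - 1) = 0) (hT : (X - 1) ^ (N - 1) = 0)
    (hmin : (X - 1) ^ (N - 2) ≠ 0) : Y = 1 := by
  set T := X - 1 with hTdef
  set S := Y - 1 with hSdef
  have hXY : Commute Y X := hY X hX
  have hTU : Commute T (X * S) :=
    (((Commute.refl X).sub_left (Commute.one_left X)).mul_right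
      (((hXY.symm).sub_left (Commute.one_left Y)).sub_right (Commute.one_right _)))
  have hsum : X * Y - 1 = T + X * S := by
    rw [hTdef, hSdef, mul_sub, mul_one]; abel
  have hTm : T ∈ spanQ ρ Q := sub_mem hX one_mem_spanQ
  have hB : T ^ (N - 2) * X ∈ spanQ ρ Q := mul_mem_spanQ (pow_mem_spanQ hTm _) hX
  have hSA : ∀ A ∈ spanQ ρ Q, Commute S A := fun A hA => (hY A hA).sub_left (Commute.one_left A)
  have hker : ∀ v, S (S v) = 0 → S v = 0 := by
    intro v hv
    have h2 : (X * S) ((X * S) v) = 0 := by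
      rw [← Module.End.mul_apply, mul_assoc X S, ← mul_assoc S X, (hSA X hX).eq, mul_assoc X S,
        Module.End.mul_apply, Module.End.mul_apply, Module.End.mul_apply, hv, map_zero, map_zero]
    have h3 := add_pow_apply_of_sq hTU h2 (N - 2)
    rw [show N - 2 + 1 = N - 1 by omega, ← hsum, hdef, hT, LinearMap.zero_apply, zero_add] at h3
    have hodd : ((N - 1 : ℕ) : K) = 1 := by
      obtain ⟨t, ht⟩ := hNe
      rw [show N - 1 = 2 * (t - 1) + 1 by omega, Nat.cast_succ, Nat.cast_mul,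
        show ((2 : ℕ) : K) = 0 from CharP.cast_eq_zero K 2, zero_mul, zero_add]
    rw [hodd, one_smul, ← Module.End.mul_apply (T ^ (N - 2)), ← mul_assoc,
      Module.End.mul_apply] at h3
    by_contra hne
    let W := (LinearMap.ker (S * S)).map S
    have hW0 : W ≠ ⊥ := fun h0 => hne ((Submodule.mem_bot K).1 (h0 ▸
      Submodule.mem_map_of_mem (f := S) (LinearMap.mem_ker.2 hv : v ∈ LinearMap.ker (S * S))))
    have hWi : ∀ g ∈ Q, ∀ w ∈ W, ρ g w ∈ W := by
      rintro g hg _ ⟨u, hu, rfl⟩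
      have hc := hSA _ (rho_mem_spanQ hg)
      refine ⟨ρ g u, ?_, LinearMap.congr_fun hc.eq u⟩
      show (S * S) (ρ g u) = 0
      rw [← Module.End.mul_apply, (hc.mul_left hc).eq, Module.End.mul_apply, LinearMap.mem_ker.1 hu,
        map_zero]
    have hvan : T ^ (N - 2) * X = 0 := by
      refine hQ.eq_zero_of_vanish W hW0 hWi hB ?_
      rintro _ ⟨u, hu, rfl⟩
      have hu' : S (S u) = 0 := LinearMap.mem_ker.1 hu
      have h2' : (X * S) ((X * S) u) = 0 := by
        rw [← Module.End.mul_apply, mul_assoc X S, ← mul_assoc S X, (hSA X hX).eq, mul_assoc X S,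
          Module.End.mul_apply, Module.End.mul_apply, Module.End.mul_apply, hu', map_zero, map_zero]
      have h3' := add_pow_apply_of_sq hTU h2' (N - 2)
      rw [show N - 2 + 1 = N - 1 by omega, ← hsum, hdef, hT, LinearMap.zero_apply, zero_add, hodd,
        one_smul, ← Module.End.mul_apply (T ^ (N - 2)), ← mul_assoc, Module.End.mul_apply] at h3'
      exact h3'.symm
    exact hmin (mul_right_cancel_of_pow (by omega) hXN (by rw [hvan, zero_mul]))
  have hdown : ∀ k v, (S ^ (k + 1)) v = 0 → S v = 0 := by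
    intro k
    induction k with
    | zero => intro v hv; rwa [pow_one] at hv
    | succ k ih =>
      intro v hv
      refine ih v ?_
      rw [pow_succ', Module.End.mul_apply]
      refine hker _ ?_
      rw [pow_succ', Module.End.mul_apply, pow_succ', Module.End.mul_apply] at hv
      exact hv
  refine sub_eq_zero.1 (LinearMap.ext fun v => hdown (N - 1) v ?_)
  rw [Nat.sub_add_cancel (by omega : 1 ≤ N), hYN, LinearMap.zero_apply]

/-- The elements of `R` inverted by `z` modulo the centre `Z`. -/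
def invPart (R : Subgroup G) (z : G) [R.Normal] : Subgroup G where
  carrier := {a | a ∈ R ∧ z * a * z⁻¹ * a ∈ R ⊓ center G ∧ ∀ b ∈ R, a * b * a⁻¹ * b⁻¹ ∈ R ⊓ center G}
  one_mem' := ⟨one_mem R, by simp, fun b _ => by simp⟩
  mul_mem' := fun {a b} ha hb => by
    refine ⟨mul_mem ha.1 hb.1, ?_, fun c hc => ?_⟩
    · have hd := ha.2.2 b⁻¹ (inv_mem hb.1)
      have : z * (a * b) * z⁻¹ * (a * b) =
          (z * a * z⁻¹ * a) * (a⁻¹ * (z * b * z⁻¹ * b) * a) * (a⁻¹ * (a * b⁻¹ * a⁻¹ * b⁻¹⁻¹)⁻¹ * a) := by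
        group
      rw [this, mem_center_iff.1 hb.2.1.2 a⁻¹, inv_mul_cancel_right,
        mem_center_iff.1 (inv_mem hd.2) a⁻¹, inv_mul_cancel_right]
      exact mul_mem (mul_mem ha.2.1 hb.2.1) (inv_mem hd)
    · have h1 := hb.2.2 c hc
      have : a * b * c * (a * b)⁻¹ * c⁻¹ = a * (b * c * b⁻¹ * c⁻¹) * a⁻¹ * (a * c * a⁻¹ * c⁻¹) := by
        group
      rw [this, mem_center_iff.1 h1.2 a, mul_inv_cancel_right]
      exact mul_mem h1 (ha.2.2 c hc)
  inv_mem' := fun {a} ha => by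
    refine ⟨inv_mem ha.1, ?_, fun c hc => ?_⟩
    · have : z * a⁻¹ * z⁻¹ * a⁻¹ = a * (z * a * z⁻¹ * a)⁻¹ * a⁻¹ := by group
      rw [this, mem_center_iff.1 (inv_mem ha.2.1.2) a, mul_inv_cancel_right]
      exact inv_mem ha.2.1
    · have h1 := ha.2.2 c hc
      have : a⁻¹ * c * a⁻¹⁻¹ * c⁻¹ = a⁻¹ * (a * c * a⁻¹ * c⁻¹)⁻¹ * a := by group
      rw [this, mem_center_iff.1 (inv_mem h1.2) a⁻¹, inv_mul_cancel_right]
      exact inv_mem h1

/-- What a deficient element does on an odd core that its involution moves. -/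
theorem stepR [IsAlgClosed K] [CharP K 2] [FiniteDimensional K V] [Nontrivial V] [Finite G]
    (ρ : Representation K G V) (hinj : Function.Injective ρ)
    (hab : ∀ A : Subgroup G, A.Normal → (∀ a ∈ A, ∀ b ∈ A, a * b = b * a) →
      ∀ a ∈ A, ∃ c : K, ρ a = c • 1)
    (r : ℕ) [hr : Fact r.Prime] (hr2 : r ≠ 2) (R : Subgroup G) [R.Normal] (hR : IsPGroup r R)
    (n : ℕ) (hn : 2 ≤ n) (x : G) (hx : x ^ 2 ^ n = 1) (hdef : (ρ x - 1) ^ (2 ^ n - 1) = 0)
    (hz : ¬ ∀ a ∈ R, Commute (x ^ 2 ^ (n - 1)) a) :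
    r = 2 ^ n - 1 ∧ (∀ g : G, (∀ a ∈ R, Commute g a) → Commute g x) ∧
      ∃ R1 ≤ R, R ⊓ center G ≤ R1 ∧ (R ⊓ center G).relIndex R1 = r ^ 2 ∧
        (∀ a ∈ R, x * a * x⁻¹ * a⁻¹ ∈ R1) ∧
        ∀ a ∈ R1, x ^ 2 ^ (n - 1) * a * (x ^ 2 ^ (n - 1))⁻¹ * a ∈ R ⊓ center G := by
  classical
  haveI := charP_end (K := K) (V := V) 2
  set N := 2 ^ n with hNdef
  set z := x ^ 2 ^ (n - 1) with hzdef
  set Z := R ⊓ center G with hZdef
  have hN4 : 4 ≤ N := by
    rw [hNdef, show (4 : ℕ) = 2 ^ 2 by norm_num]; exact Nat.pow_le_pow_right two_pos hn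
  have hz2 : z * z = 1 := by
    rw [hzdef, ← pow_add, ← two_mul, ← pow_succ', Nat.sub_add_cancel (by omega : 1 ≤ n), hx]
  have hzinv : z⁻¹ = z := inv_eq_of_mul_eq_one_right hz2
  have hzx : Commute x z := (Commute.refl x).pow_right _
  have hcenter : ∀ A : Subgroup G, A.Normal → (∀ a ∈ A, ∀ b ∈ A, a * b = b * a) → A ≤ center G :=
    fun A hAn hAc a ha => mem_center_iff.2 fun g => hinj (by
      obtain ⟨c, hc⟩ := hab A hAn hAc a ha
      rw [map_mul, map_mul, hc, mul_smul_comm, mul_one, smul_mul_assoc, one_mul])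
  have hcl := fun {a b : G} (ha : a ∈ R) (hb : b ∈ R) => classTwo R hR
    (fun A hAn _ hAc a ha r _ => (mem_center_iff.1 (hcenter A hAn hAc ha) r).symm) ha hb
  have hZR : R ⊓ centralizer (R : Set G) ≤ center G := hcenter _ inferInstance fun a ha b hb =>
    (mem_centralizer_iff.1 ha.2 b hb.1).symm
  have hmemZ : ∀ a ∈ R, (∀ b ∈ R, Commute a b) → a ∈ Z := fun a ha h =>
    ⟨ha, hZR ⟨ha, mem_centralizer_iff.2 fun b hb => (h b hb).symm.eq⟩⟩
  have hcomZ : ∀ a ∈ R, ∀ b ∈ R, a * b * a⁻¹ * b⁻¹ ∈ Z := fun a ha b hb =>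
    hmemZ _ (mul_mem (mul_mem (mul_mem ha hb) (inv_mem ha)) (inv_mem hb)) (hcl ha hb).1
  have hzR : ∀ a ∈ R, z * a * z⁻¹ ∈ R := fun a ha => Subgroup.Normal.conj_mem inferInstance a ha z
  have hsq : ∀ a ∈ R, a ^ 2 = 1 → a = 1 := fun a ha h2 => by
    obtain ⟨j, hj⟩ := IsPGroup.iff_orderOf.1 hR ⟨a, ha⟩
    rw [Subgroup.orderOf_mk] at hj
    have h3 : orderOf a ∣ 2 := orderOf_dvd_of_pow_eq_one h2
    have h4 : (orderOf a).Coprime 2 := hj ▸ ((Nat.coprime_primes hr.out Nat.prime_two).2 hr2).pow_left j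
    exact orderOf_eq_one_iff.1 (Nat.eq_one_of_dvd_coprimes h4 dvd_rfl h3)
  set R1 := invPart R z with hR1def
  have hR1 : ∀ a, a ∈ R1 ↔ a ∈ R ∧ z * a * z⁻¹ * a ∈ Z := fun a =>
    ⟨fun h => ⟨h.1, h.2.1⟩, fun h => ⟨h.1, h.2, fun b hb => hcomZ a h.1 b hb⟩⟩
  have hfix : ∀ v ∈ R, z * v * z⁻¹ * v⁻¹ ∈ Z → z * v * z⁻¹ = v := by
    intro v hv hd
    set d := z * v * z⁻¹ * v⁻¹ with hddef
    have h1 : z * v * z⁻¹ = d * v := by rw [hddef, inv_mul_cancel_right]
    have hv' : z * (z * v * z⁻¹) * z⁻¹ = v := by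
      rw [hzinv, show z * (z * v * z) * z = (z * z) * v * (z * z) by group, hz2, one_mul, mul_one]
    rw [h1, ← mul_assoc, mem_center_iff.1 hd.2 z,
      show d * z * v * z⁻¹ = d * (z * v * z⁻¹) by group, h1, ← mul_assoc, mul_eq_right] at hv'
    have h5 : d = 1 := hsq d hd.1 (by rw [pow_two]; exact hv')
    rw [h1, h5, one_mul]
  have hcomm12 : ∀ u ∈ R1, ∀ v ∈ R, z * v * z⁻¹ = v → Commute u v := by
    intro u hu v hv hfv
    set c := u * v * u⁻¹ * v⁻¹ with hcdef
    have hcz : c ∈ Z := hcomZ u ((hR1 u).1 hu).1 v hv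
    set e := z * u * z⁻¹ * u with hedef
    have hez : e ∈ Z := ((hR1 u).1 hu).2
    have hzu : z * u * z⁻¹ = e * u⁻¹ := by rw [hedef, mul_inv_cancel_right]
    have h1 : c = e * u⁻¹ * v * (e * u⁻¹)⁻¹ * v⁻¹ := by
      calc c = z * c * z⁻¹ := by rw [mem_center_iff.1 hcz.2 z, mul_inv_cancel_right]
        _ = (z * u * z⁻¹) * (z * v * z⁻¹) * (z * u * z⁻¹)⁻¹ * (z * v * z⁻¹)⁻¹ := by
            rw [hcdef]; group
        _ = _ := by rw [hzu, hfv]
    have h2 : e * u⁻¹ * v * (e * u⁻¹)⁻¹ * v⁻¹ = u⁻¹ * v * u * v⁻¹ := by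
      have h := mem_center_iff.1 hez.2 (u⁻¹ * v * u)
      rw [show e * u⁻¹ * v * (e * u⁻¹)⁻¹ * v⁻¹ = e * (u⁻¹ * v * u) * e⁻¹ * v⁻¹ by group, ← h,
        mul_inv_cancel_right]
    have h3 : u⁻¹ * v * u * v⁻¹ = c⁻¹ := by
      rw [show u⁻¹ * v * u * v⁻¹ = u⁻¹ * c⁻¹ * u by rw [hcdef]; group,
        mem_center_iff.1 (inv_mem hcz.2) u⁻¹, inv_mul_cancel_right]
    have h4 : c = 1 := hsq c hcz.1 (by
      rw [pow_two]
      exact eq_inv_iff_mul_eq_one.1 (h1.trans (h2.trans h3)))
    exact mul_inv_eq_iff_eq_mul.1 (mul_inv_eq_one.1 h4)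
  have hdecomp : ∀ a ∈ R, ∃ u ∈ R1, ∃ v ∈ R, z * v * z⁻¹ = v ∧ u * v = a := by
    intro a ha
    set a' := z * a * z⁻¹ with ha'
    have ha'R : a' ∈ R := hzR a ha
    have hza' : z * a' * z⁻¹ = a := by
      rw [ha', hzinv, show z * (z * a * z) * z = (z * z) * a * (z * z) by group, hz2, one_mul, mul_one]
    have huR : a * a'⁻¹ ∈ R1 := (hR1 _).2 ⟨mul_mem ha (inv_mem ha'R), by
      rw [show z * (a * a'⁻¹) * z⁻¹ = (z * a * z⁻¹) * (z * a' * z⁻¹)⁻¹ by group, hza', ← ha']
      rw [show a' * a⁻¹ * (a * a'⁻¹) = 1 by group]; exact one_mem Z⟩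
    have hvR : a' * a ∈ R := mul_mem ha'R ha
    have hfv : z * (a' * a) * z⁻¹ = a' * a := hfix _ hvR (by
      rw [show z * (a' * a) * z⁻¹ = (z * a' * z⁻¹) * (z * a * z⁻¹) by group, hza', ← ha',
        show a * a' * (a' * a)⁻¹ = a * a' * a⁻¹ * a'⁻¹ by group]
      exact hcomZ a ha a' ha'R)
    obtain ⟨m, hm⟩ : ∃ m : ℕ, (a ^ 2) ^ m = a := by
      obtain ⟨j, hj⟩ := IsPGroup.iff_orderOf.1 hR ⟨a, ha⟩
      rw [Subgroup.orderOf_mk] at hj
      exact exists_pow_eq_self_of_coprime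
        (hj ▸ ((Nat.coprime_primes Nat.prime_two hr.out).2 (Ne.symm hr2)).pow_right j)
    refine ⟨(a * a'⁻¹) ^ m, pow_mem huR m, (a' * a) ^ m, pow_mem hvR m, ?_, ?_⟩
    · rw [← conj_pow, hfv]
    · rw [← (hcomm12 _ huR _ hvR hfv).mul_pow, show a * a'⁻¹ * (a' * a) = a ^ 2 by rw [pow_two]; group, hm]
  have hnd : Nondeg ρ R1 Z := by
    refine ⟨fun c hc => (hR1 c).2 ⟨hc.1, ?_⟩, fun c hc => ?_, fun g hg h hh => ?_, fun g hg hcm => ?_⟩
    · rw [mem_center_iff.1 hc.2 z, mul_inv_cancel_right]; exact mul_mem hc hc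
    · exact hab Z inferInstance (fun a ha b hb => (mem_center_iff.1 ha.2 b).symm) c hc
    · obtain ⟨c, hc⟩ := hab Z inferInstance (fun a ha b hb => (mem_center_iff.1 ha.2 b).symm) _
        (hcomZ g ((hR1 g).1 hg).1 h ((hR1 h).1 hh).1)
      refine ⟨c, ?_⟩
      rw [← map_mul, show g * h = g * h * g⁻¹ * h⁻¹ * (h * g) by group, map_mul, hc, smul_mul_assoc,
        one_mul, map_mul]
    · refine hmemZ g ((hR1 g).1 hg).1 fun b hb => ?_
      obtain ⟨u, hu, v, hv, hfv, rfl⟩ := hdecomp b hb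
      exact (show Commute g u from hinj (by rw [map_mul, map_mul]; exact hcm u hu)).mul_right
        (hcomm12 g hg v hv hfv)
  have hR1R : R1 ≤ R := fun a ha => ((hR1 a).1 ha).1
  have hxR1 : ∀ i : ℕ, ∀ a ∈ R1, x ^ i * a * (x ^ i)⁻¹ ∈ R1 := fun i a ha => by
    refine (hR1 _).2 ⟨Subgroup.Normal.conj_mem inferInstance a (hR1R ha) _, ?_⟩
    have hc := (hzx.pow_left i).eq
    rw [show z * (x ^ i * a * (x ^ i)⁻¹) * z⁻¹ = (z * x ^ i) * a * (z * x ^ i)⁻¹ by group, ← hc,
      show x ^ i * z * a * (x ^ i * z)⁻¹ * (x ^ i * a * (x ^ i)⁻¹) =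
        x ^ i * (z * a * z⁻¹ * a) * (x ^ i)⁻¹ by group,
      mem_center_iff.1 ((hR1 a).1 ha).2.2 (x ^ i), mul_inv_cancel_right]
    exact ((hR1 a).1 ha).2
  have hxN : x ∈ normalizer (R1 : Set G) := by
    rw [mem_normalizer_iff]
    intro a
    refine ⟨fun ha => by simpa using hxR1 1 a ha, fun ha => ?_⟩
    have h1 := hxR1 (N - 1) _ ha
    have e : x ^ (N - 1) = x⁻¹ := eq_inv_of_mul_eq_one_left (by
      rw [← pow_succ, Nat.sub_add_cancel (by omega : 1 ≤ N), hx])
    rw [e, show x⁻¹ * (x * a * x⁻¹) * x⁻¹⁻¹ = a by group] at h1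
    exact h1
  obtain ⟨W, -, hW0, hWi, hirr⟩ := exists_irreducible ρ R1 ⊤ top_ne_bot fun _ _ _ _ => Submodule.mem_top
  obtain ⟨X, hXm, hXN, hXc⟩ := hnd.exists_inner W hW0 hWi hirr x hxN N (by omega) hx
  set Y := X ^ (N - 1) * ρ x with hYdef
  have hrxY : ρ x = X * Y := by
    rw [hYdef, ← mul_assoc, ← pow_succ', Nat.sub_add_cancel (by omega : 1 ≤ N), hXN, one_mul]
  have hXY : Commute X Y := (hXc X hXm).symm
  have hYN : Y ^ N = 1 := by
    have h1 : (X * Y) ^ N = 1 := by rw [← hrxY, ← map_pow, hx, map_one]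
    rwa [hXY.mul_pow, hXN, one_mul] at h1
  have hconjX : ∀ g ∈ R1, X * ρ g * X ^ (N - 1) = ρ (x * g * x⁻¹) := by
    intro g hg
    have h1 : ρ (x * g * x⁻¹) * (X * Y) = X * ρ g * Y := by
      rw [← hrxY, ← map_mul, inv_mul_cancel_right, map_mul, hrxY, mul_assoc,
        (hXc _ (rho_mem_spanQ hg)).eq, mul_assoc]
    rw [← mul_assoc] at h1
    rw [← mul_right_cancel_of_pow (by omega) hYN h1, mul_assoc, ← pow_succ',
      Nat.sub_add_cancel (by omega : 1 ≤ N), hXN, mul_one]
  have hTN : (X - 1) ^ (N - 1) = 0 := by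
    have hSN : (Y - 1) ^ N = 0 := by
      rw [hNdef, sub_pow_char_pow_of_commute (n := n) (p := 2) (Commute.one_right Y), one_pow, ← hNdef, hYN,
        sub_self]
    have hW1 : LinearMap.ker (Y - 1) ≠ ⊥ := fun h0 => by
      obtain ⟨v, hv⟩ := exists_ne (0 : V)
      have hinj' : Function.Injective ⇑(Y - 1 : Module.End K V) := LinearMap.ker_eq_bot.1 h0
      have : Function.Injective ⇑((Y - 1 : Module.End K V) ^ N) := by
        rw [Module.End.coe_pow]; exact hinj'.iterate N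
      exact hv (this (by rw [hSN]; rfl))
    have hcY : ∀ A ∈ spanQ ρ R1, Commute (Y - 1) A := fun A hA =>
      (hXc A hA).sub_left (Commute.one_left A)
    have hW1i : ∀ g ∈ R1, ∀ w ∈ LinearMap.ker (Y - 1), ρ g w ∈ LinearMap.ker (Y - 1) := by
      intro g hg w hw
      rw [LinearMap.mem_ker] at hw ⊢
      rw [← Module.End.mul_apply, (hcY _ (rho_mem_spanQ hg)).eq, Module.End.mul_apply, hw, map_zero]
    refine hnd.eq_zero_of_vanish _ hW1 hW1i (pow_mem_spanQ (sub_mem hXm one_mem_spanQ) _) fun w hw => ?_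
    have hw' : Y w = w := by
      rw [LinearMap.mem_ker, LinearMap.sub_apply, sub_eq_zero] at hw; exact hw
    have hk : ∀ k : ℕ, ((ρ x - 1 : Module.End K V) ^ k) w = ((X - 1 : Module.End K V) ^ k) w := by
      intro k
      induction k with
      | zero => rfl
      | succ k ih =>
        have hc : Commute Y ((X - 1) ^ k) := hXc _ (pow_mem_spanQ (sub_mem hXm one_mem_spanQ) _)
        have e : Y (((X - 1) ^ k) w) = ((X - 1) ^ k) w := by
          rw [← Module.End.mul_apply, hc.eq, Module.End.mul_apply, hw']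
        rw [pow_succ', pow_succ', Module.End.mul_apply, Module.End.mul_apply, ih, LinearMap.sub_apply,
          LinearMap.sub_apply, hrxY, Module.End.mul_apply, e]
    rw [← hk, hdef, LinearMap.zero_apply]
  -- on the irreducible subspace
  haveI : Nontrivial W := Submodule.nontrivial_iff_ne_bot.2 hW0
  haveI := charP_end (K := K) (V := W) 2
  haveI := charP_end (K := K) (V := Module.End K W) 2
  obtain ⟨b, hb, hcard⟩ := hnd.exists_basis W hWi hW0 hirr
  set Xw : Module.End K W := X.restrict fun w hw => spanQ_map_mem hWi hXm hw with hXw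
  have hXwp : ∀ i (w : W), (((Xw ^ i) w : W) : V) = (X ^ i) w := by
    intro i
    induction i with
    | zero => intro w; rfl
    | succ i ih => intro w; rw [pow_succ', pow_succ', Module.End.mul_apply, Module.End.mul_apply, ← ih]; rfl
  have hXwN : Xw ^ N = 1 := LinearMap.ext fun w => Subtype.ext (by rw [hXwp, hXN]; rfl)
  have hTwp : ∀ (i : ℕ) (w : W), ((((Xw - 1 : Module.End K W) ^ i) w : W) : V) =
      ((X - 1 : Module.End K V) ^ i) w := by
    intro i
    induction i with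
    | zero => intro w; rfl
    | succ i ih =>
      intro w; rw [pow_succ', pow_succ', Module.End.mul_apply, Module.End.mul_apply, ← ih]; rfl
  have hTw0 : Xw - 1 ≠ 0 := fun h0 => hz (by
    have hX1 : X = 1 := sub_eq_zero.1 (hnd.eq_zero_of_vanish W hW0 hWi (sub_mem hXm one_mem_spanQ)
      fun w hw => by
        rw [← pow_one (X - 1)]
        exact (hTwp 1 ⟨w, hw⟩).symm.trans (by rw [pow_one, h0]; rfl))
    intro a ha
    obtain ⟨u, hu, v, hv, hfv, rfl⟩ := hdecomp a ha
    have hux : x * u * x⁻¹ = u := hinj (by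
      rw [← hconjX u hu, hX1, one_mul, one_pow, mul_one])
    have hxu : Commute x u := mul_inv_eq_iff_eq_mul.1 hux
    exact (hxu.pow_left _).mul_right (mul_inv_eq_iff_eq_mul.1 hfv))
  haveI : Fintype (R1 ⧸ Z.subgroupOf R1) := Fintype.ofFinite _
  haveI : (Z.subgroupOf R1).Normal := hnd.normal
  let cj : R1 →* R1 :=
    { toFun := fun g => ⟨x * g * x⁻¹, by simpa using hxR1 1 g g.2⟩
      map_one' := Subtype.ext (by simp)
      map_mul' := fun g h => Subtype.ext (by simp [mul_assoc]) }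
  have hcjZ : Z.subgroupOf R1 ≤ (Z.subgroupOf R1).comap cj := fun g hg => by
    rw [mem_subgroupOf] at hg
    rw [mem_comap, mem_subgroupOf]
    show x * g * x⁻¹ ∈ Z
    rw [mem_center_iff.1 hg.2 x, mul_inv_cancel_right]; exact hg
  let π : R1 ⧸ Z.subgroupOf R1 →* R1 ⧸ Z.subgroupOf R1 := QuotientGroup.map _ _ cj hcjZ
  have hπit : ∀ (i : ℕ) (g : R1), π^[i] (g : R1 ⧸ Z.subgroupOf R1) =
      ((⟨x ^ i * g * (x ^ i)⁻¹, hxR1 i g g.2⟩ : R1) : R1 ⧸ Z.subgroupOf R1) := by
    intro i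
    induction i with
    | zero => intro g; simp
    | succ i ih =>
      intro g
      rw [Function.iterate_succ_apply', ih]
      refine congrArg QuotientGroup.mk (Subtype.ext ?_)
      show x * (x ^ i * g * (x ^ i)⁻¹) * x⁻¹ = x ^ (i + 1) * g * (x ^ (i + 1))⁻¹
      rw [pow_succ' x]; group
  have hπN : ∀ u, π^[N] u = u := fun u => by
    induction u using QuotientGroup.induction_on with
    | H g => rw [hπit]; exact congrArg QuotientGroup.mk (Subtype.ext (by simp [hx]))
  have hπinj : Function.Injective π := fun u v huv => by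
    rw [← hπN u, ← hπN v, ← Nat.sub_add_cancel (by omega : 1 ≤ N), Function.iterate_succ_apply,
      Function.iterate_succ_apply, huv]
  let A : Module.End K W →ₗ[K] Module.End K W :=
    LinearMap.mulLeft K Xw * LinearMap.mulRight K (Xw ^ (N - 1))
  have hAap : ∀ φ, A φ = Xw * φ * Xw ^ (N - 1) := fun φ => (mul_assoc _ _ _).symm
  have hApow : ∀ i φ, (A ^ i) φ = Xw ^ i * φ * (Xw ^ (N - 1)) ^ i := by
    intro i
    induction i with
    | zero => intro φ; simp
    | succ i ih =>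
      intro φ
      rw [pow_succ' A, Module.End.mul_apply, hAap, ih, pow_succ' Xw, pow_succ (Xw ^ (N - 1))]
      simp only [mul_assoc]
  have hA : ∀ u, ∃ c : K, A (b u) = c • b (π u) := by
    intro u
    obtain ⟨c, hc⟩ := hnd.exists_smul (cj u.out)
    refine ⟨c, LinearMap.ext fun w => Subtype.ext ?_⟩
    have e : π u = ((cj u.out : R1) : R1 ⧸ Z.subgroupOf R1) := by
      conv_lhs => rw [← QuotientGroup.out_eq' u]
      rfl
    rw [hAap, e]
    show (((Xw * b u * Xw ^ (N - 1)) w : W) : V) = ((c • b _ : Module.End K W) w : V)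
    rw [Module.End.mul_apply, Module.End.mul_apply, hb, hb, LinearMap.smul_apply, Submodule.coe_smul,
      resRep_apply, ← LinearMap.smul_apply, ← hc]
    show X (ρ (repOf u) (((Xw ^ (N - 1)) w : W) : V)) = _
    rw [hXwp, ← Module.End.mul_apply, ← Module.End.mul_apply]
    exact LinearMap.congr_fun (hconjX _ (repOf_mem u)) (w : V)
  have hfree : ∀ i, 0 < i → i < N → ∀ u, π^[i] u = u → u = 1 := by
    intro i hi hiN u hu
    -- reduce to the involution
    have hfixm : ∀ j, π^[i * j] u = u := fun j => by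
      rw [Function.iterate_mul]; exact (Function.IsFixedPt.iterate hu j)
    have hg : π^[Nat.gcd i N] u = u :=
      Function.IsPeriodicPt.gcd (hu : Function.IsPeriodicPt π i u) (hπN u)
    obtain ⟨a, han, hga⟩ := (Nat.dvd_prime_pow Nat.prime_two).1 (hNdef ▸ Nat.gcd_dvd_right i N)
    have hlt : a < n := by
      refine lt_of_le_of_ne han fun h0 => ?_
      have : N ∣ i := by
        rw [hNdef, ← h0, ← hga]
        exact Nat.gcd_dvd_left _ _
      exact absurd (Nat.le_of_dvd hi this) (by omega)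
    rw [hga] at hg
    have hzf : π^[2 ^ (n - 1)] u = u := by
      have : 2 ^ (n - 1) = 2 ^ a * 2 ^ (n - 1 - a) := by rw [← pow_add]; congr 1; omega
      rw [this, Function.iterate_mul]
      exact Function.IsFixedPt.iterate hg _
    induction u using QuotientGroup.induction_on with
    | H g =>
      rw [hπit, eq_comm, QuotientGroup.eq, mem_subgroupOf] at hzf
      refine (QuotientGroup.eq_one_iff _).2 (mem_subgroupOf.2 ?_)
      have hzf' : (g : G)⁻¹ * (z * g * z⁻¹) ∈ Z := hzf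
      have h2 := ((hR1 g).1 g.2).2
      have h3 : (g : G) ^ 2 ∈ Z := by
        have h5 := mul_mem (inv_mem hzf') h2
        have e : ((g : G)⁻¹ * (z * g * z⁻¹))⁻¹ * (z * g * z⁻¹ * g) =
            (z * g * z⁻¹)⁻¹ * ((g : G) * (z * g * z⁻¹ * g)) := by group
        rw [e, mem_center_iff.1 h2.2 (g : G),
          show (z * g * z⁻¹)⁻¹ * (z * g * z⁻¹ * g * g) = (g : G) ^ 2 by rw [pow_two]; group] at h5
        exact h5
      obtain ⟨j, hj⟩ := IsPGroup.iff_orderOf.1 hR ⟨g, hR1R g.2⟩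
      rw [Subgroup.orderOf_mk] at hj
      obtain ⟨m, hm⟩ := exists_pow_eq_self_of_coprime (x := (g : G))
        (n := 2) (hj ▸ ((Nat.coprime_primes Nat.prime_two hr.out).2 (Ne.symm hr2)).pow_right j)
      rw [← hm]
      exact pow_mem h3 m
  have hone : b 1 ∈ Submodule.span K ({1} : Set (Module.End K W)) := by
    rw [Submodule.mem_span_singleton]
    obtain ⟨c, hc⟩ := hnd.scal (repOf (1 : R1 ⧸ Z.subgroupOf R1)) (by
      have h := QuotientGroup.out_eq' (1 : R1 ⧸ Z.subgroupOf R1)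
      rw [QuotientGroup.eq_one_iff, mem_subgroupOf] at h
      exact h)
    refine ⟨c, LinearMap.ext fun w => Subtype.ext ?_⟩
    rw [hb, resRep_apply, hc]
    rfl
  obtain ⟨c₀, hc₀⟩ := Submodule.mem_span_singleton.1 hone
  have hsumTX : ∀ f : Module.End K W,
      ∑ a ∈ range N, (Xw - 1) ^ a * f * (Xw - 1) ^ (N - 1 - a) =
        ∑ i ∈ range N, Xw ^ i * f * Xw ^ (N - 1 - i) := by
    intro f
    have key : ∀ P : Module.End K W, ∑ a ∈ range N, P ^ a * f * P ^ (N - 1 - a) =
        ((LinearMap.mulLeft K P - LinearMap.mulRight K P) ^ (N - 1)) f := by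
      intro P
      rw [hNdef, ← CfsgLib.HallHigman.sum_pow_mul_pow (R := Module.End K (Module.End K W)) 2 n
        (LinearMap.commute_mulLeft_right P P),
        LinearMap.sum_apply]
      refine sum_congr rfl fun a _ => ?_
      rw [Module.End.mul_apply, LinearMap.pow_mulLeft, LinearMap.pow_mulRight,
        LinearMap.mulLeft_apply, LinearMap.mulRight_apply, mul_assoc]
    rw [key, key]
    congr 2
    ext φ
    simp [sub_mul, mul_sub]
  have hdec : ∀ φ : Module.End K W, Commute φ (Xw - 1) → ∃ (c : K) (f : Module.End K W),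
      φ = c • 1 + ∑ a ∈ range N, (Xw - 1) ^ a * f * (Xw - 1) ^ (N - 1 - a) := by
    intro φ hφ
    have hφX : Commute φ Xw := by simpa using hφ.add_right (Commute.one_right φ)
    have hAN : A ^ N = 1 := LinearMap.ext fun ψ => by
      rw [hApow, ← pow_mul, mul_comm (N - 1) N, pow_mul, hXwN, one_pow, one_mul, mul_one]; rfl
    obtain ⟨c, f, hf⟩ := fixed_eq_trace b A π hπinj 1 (map_one π) hA N (by omega) hAN hfree φ (by
      rw [hAap, ← hφX.eq, mul_assoc, ← pow_succ', Nat.sub_add_cancel (by omega : 1 ≤ N), hXwN, mul_one])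
    refine ⟨c * c₀, f * Xw, ?_⟩
    rw [hsumTX, hf, mul_smul, hc₀]
    congr 1
    refine sum_congr rfl fun i hi => ?_
    rw [mem_range] at hi
    rw [hApow, ← pow_mul, ← mul_assoc (Xw ^ i) f Xw, mul_assoc (Xw ^ i * f) Xw, ← pow_succ']
    refine congrArg (Xw ^ i * f * ·) ?_
    rcases Nat.eq_zero_or_pos i with rfl | hi0
    · rw [mul_zero, pow_zero, Nat.sub_zero, Nat.sub_add_cancel (by omega : 1 ≤ N), hXwN]
    · rw [show (N - 1) * i = N * (i - 1) + (N - 1 - i + 1) by
        rw [Nat.sub_mul, one_mul, Nat.mul_sub, mul_one]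
        have : N ≤ N * i := Nat.le_mul_of_pos_right N hi0
        omega, pow_add, pow_mul, hXwN, one_pow, one_mul]
  have hex : ∃ s, (Xw - 1) ^ s = 0 := ⟨N - 1, LinearMap.ext fun w => Subtype.ext (by
    rw [hTwp, hTN]; rfl)⟩
  obtain ⟨hsN, hfin⟩ := CfsgLib.HallHigman.jordan_block hTw0 (Nat.find_spec hex)
    (fun k hk => Nat.find_min hex hk) (lt_of_le_of_lt (Nat.find_le (LinearMap.ext fun w =>
      Subtype.ext (by rw [hTwp, hTN]; rfl))) (by omega)) hdec
  set s := Nat.find hex with hs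
  have hTmin : (X - 1) ^ (N - 2) ≠ 0 := fun h0 => Nat.find_min hex (show N - 2 < s by omega)
    (LinearMap.ext fun w => Subtype.ext (by rw [hTwp, h0]; rfl))
  have hY1 : Y = 1 := eq_one_of_deficient hnd hXm hXc hN4 ⟨2 ^ (n - 1), by
      rw [hNdef, ← two_mul, ← pow_succ', Nat.sub_add_cancel (by omega : 1 ≤ n)]⟩ hXN
    (by rw [hNdef, sub_pow_char_pow_of_commute (n := n) (p := 2) (Commute.one_right Y), one_pow, ← hNdef, hYN,
      sub_self]) (by rw [← hrxY]; exact hdef) hTN hTmin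
  have hxspan : ρ x ∈ spanQ ρ R1 := by rw [hrxY, hY1, mul_one]; exact hXm
  have hcomx : ∀ g : G, (∀ a ∈ R1, Commute g a) → Commute g x := fun g hg => hinj (by
    rw [map_mul, map_mul]
    have : ∀ B ∈ spanQ ρ R1, Commute (ρ g) B := fun B hB => by
      induction hB using Submodule.span_induction with
      | mem _ ha => obtain ⟨a, ha, rfl⟩ := ha; exact (hg a ha).map ρ
      | zero => exact Commute.zero_right _
      | add a b _ _ ha hb => exact ha.add_right hb
      | smul t a _ ha => exact ha.smul_right t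
    exact (this _ hxspan).eq)
  have hpk : ∃ k, (R1 ⧸ Z.subgroupOf R1) → Nat.card (R1 ⧸ Z.subgroupOf R1) = r ^ k := by
    obtain ⟨k, hk⟩ := IsPGroup.iff_card.1 ((hR.to_le hR1R).to_quotient (Z.subgroupOf R1))
    exact ⟨k, fun _ => hk⟩
  obtain ⟨k, hk⟩ := hpk
  have hsq2 : (N - 1) ^ 2 = r ^ k := by
    rw [← hk 1, hcard, hfin]; congr 1; omega
  obtain ⟨j, -, hj⟩ := (Nat.dvd_prime_pow hr.out).1 (show N - 1 ∣ r ^ k from hsq2 ▸ dvd_pow_self _ two_ne_zero)
  have hj1 : j = 1 := exponent_eq_one hr.out hr2 hn (by rw [← hj, ← hNdef]; omega)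
  rw [hj1, pow_one] at hj
  refine ⟨hj.symm, fun g hg => hcomx g fun a ha => hg a (hR1R ha), R1, hR1R,
    hnd.le, ?_, fun a ha => ?_, fun a ha => ((hR1 a).1 ha).2⟩
  · show (Z.subgroupOf R1).index = _
    rw [Subgroup.index_eq_card, hk 1, ← hsq2, hj]
  · obtain ⟨u, hu, v, hv, hfv, rfl⟩ := hdecomp a ha
    have hvx : Commute v x := hcomx v fun w hw => (hcomm12 w hw v hv hfv).symm
    rw [show x * (u * v) * x⁻¹ * (u * v)⁻¹ = (x * u * x⁻¹) * ((x * v) * x⁻¹ * v⁻¹) * u⁻¹ by group,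
      ← hvx.eq, show v * x * x⁻¹ * v⁻¹ = 1 by group, mul_one]
    exact mul_mem (by simpa using hxR1 1 u hu) (inv_mem hu)

end Step

end CfsgLib.GrossTwo
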