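import Mathlib
import Cfsg.Agent.HallHigman.Critical
import Cfsg.Agent.HallHigman.TheoremB

/-!
Groups acting projectively by a non-degenerate commutator pairing: their span is a full matrix
algebra, and the normalising elements act on it by inner automorphisms.
-/

set_option autoImplicit false
set_option linter.style.haveILetI false
set_option linter.unusedSectionVars false

namespace CfsgLib.GrossTwo

open Subgroup
open CfsgLib.HallHigman (subRep subRep_apply rep_mul weight mem_weight)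

universe u v w

variable {K : Type w} [Field K] {G : Type u} [Group G] {V : Type v} [AddCommGroup V] [Module K V]
variable {ρ : Representation K G V} {Q Z : Subgroup G}

/-- `Z` acts by scalars, `Q` commutes up to scalars, and only `Z` commutes with all of `Q`. -/
structure Nondeg (ρ : Representation K G V) (Q Z : Subgroup G) : Prop where
  le : Z ≤ Q
  scal : ∀ z ∈ Z, ∃ c : K, ρ z = c • 1
  twist : ∀ g ∈ Q, ∀ h ∈ Q, ∃ c : K, ρ g * ρ h = c • (ρ h * ρ g)
  nd : ∀ g ∈ Q, (∀ h ∈ Q, ρ g * ρ h = ρ h * ρ g) → g ∈ Z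

theorem rho_ne_zero [Nontrivial V] (ρ : Representation K G V) (g : G) : ρ g ≠ 0 := fun h0 => by
  have h1 : ρ g * ρ g⁻¹ = 1 := by rw [← map_mul, mul_inv_cancel, map_one]
  rw [h0, zero_mul] at h1
  exact zero_ne_one h1

theorem Nondeg.conj_mem (h : Nondeg ρ Q Z) {g r : G} (hg : g ∈ Q) (hr : r ∈ Z) :
    g * r * g⁻¹ ∈ Z := by
  obtain ⟨c, hc⟩ := h.scal r hr
  refine h.nd _ (mul_mem (mul_mem hg (h.le hr)) (inv_mem hg)) fun k _ => ?_
  have e : ρ (g * r * g⁻¹) = c • 1 := by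
    rw [map_mul, map_mul, hc, mul_smul_comm, mul_one, smul_mul_assoc, ← map_mul, mul_inv_cancel,
      map_one]
  rw [e, smul_mul_assoc, mul_smul_comm, one_mul, mul_one]

theorem Nondeg.normal (h : Nondeg ρ Q Z) : (Z.subgroupOf Q).Normal :=
  ⟨fun r hr g => by
    rw [mem_subgroupOf] at hr ⊢
    exact h.conj_mem g.2 hr⟩

/-- The span of a subgroup. -/
def spanQ (ρ : Representation K G V) (Q : Subgroup G) : Submodule K (Module.End K V) :=
  Submodule.span K (ρ '' (Q : Set G))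

theorem rho_mem_spanQ {g : G} (hg : g ∈ Q) : ρ g ∈ spanQ ρ Q :=
  Submodule.subset_span ⟨g, hg, rfl⟩

theorem one_mem_spanQ : (1 : Module.End K V) ∈ spanQ ρ Q := by
  rw [← map_one ρ]; exact rho_mem_spanQ (one_mem Q)

theorem mul_mem_spanQ {A B : Module.End K V} (hA : A ∈ spanQ ρ Q) (hB : B ∈ spanQ ρ Q) :
    A * B ∈ spanQ ρ Q := by
  induction hA using Submodule.span_induction with
  | mem a ha =>
    obtain ⟨g, hg, rfl⟩ := ha
    induction hB using Submodule.span_induction with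
    | mem b hb =>
      obtain ⟨k, hk, rfl⟩ := hb
      rw [← map_mul]; exact rho_mem_spanQ (mul_mem hg hk)
    | zero => rw [mul_zero]; exact Submodule.zero_mem _
    | add a b _ _ ha hb => rw [mul_add]; exact add_mem ha hb
    | smul t a _ ha => rw [mul_smul_comm]; exact Submodule.smul_mem _ _ ha
  | zero => rw [zero_mul]; exact Submodule.zero_mem _
  | add a b _ _ ha hb => rw [add_mul]; exact add_mem ha hb
  | smul t a _ ha => rw [smul_mul_assoc]; exact Submodule.smul_mem _ _ ha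

theorem pow_mem_spanQ {A : Module.End K V} (hA : A ∈ spanQ ρ Q) : ∀ i : ℕ, A ^ i ∈ spanQ ρ Q
  | 0 => by rw [pow_zero]; exact one_mem_spanQ
  | i + 1 => by rw [pow_succ]; exact mul_mem_spanQ (pow_mem_spanQ hA i) hA

theorem spanQ_map_mem {W : Submodule K V} (hWi : ∀ g ∈ Q, ∀ w ∈ W, ρ g w ∈ W) {A : Module.End K V}
    (hA : A ∈ spanQ ρ Q) {w : V} (hw : w ∈ W) : A w ∈ W := by
  induction hA using Submodule.span_induction with
  | mem a ha => obtain ⟨g, hg, rfl⟩ := ha; exact hWi g hg w hw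
  | zero => exact W.zero_mem
  | add a b _ _ ha hb => exact add_mem ha hb
  | smul t a _ ha => exact Submodule.smul_mem _ _ ha

/-- A minimal invariant subspace. -/
theorem exists_irreducible [FiniteDimensional K V] (ρ : Representation K G V) (Q : Subgroup G)
    (W₀ : Submodule K V) (h0 : W₀ ≠ ⊥) (hi : ∀ g ∈ Q, ∀ w ∈ W₀, ρ g w ∈ W₀) :
    ∃ W : Submodule K V, W ≤ W₀ ∧ W ≠ ⊥ ∧ (∀ g ∈ Q, ∀ w ∈ W, ρ g w ∈ W) ∧
      ∀ W' ≤ W, (∀ g ∈ Q, ∀ w ∈ W', ρ g w ∈ W') → W' = ⊥ ∨ W' = W := by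
  obtain ⟨W, ⟨hW, hW0, hWi⟩, hmin⟩ := wellFounded_lt.has_min
    {W : Submodule K V | W ≤ W₀ ∧ W ≠ ⊥ ∧ ∀ g ∈ Q, ∀ w ∈ W, ρ g w ∈ W} ⟨W₀, le_rfl, h0, hi⟩
  refine ⟨W, hW, hW0, hWi, fun W' hW' hi' => ?_⟩
  by_cases h : W' = ⊥
  · exact Or.inl h
  · exact Or.inr ((eq_or_lt_of_le hW').resolve_right (hmin W' ⟨hW'.trans hW, h, hi'⟩))

/-- Representatives of the cosets of `Z`. -/
noncomputable def repOf (u : Q ⧸ Z.subgroupOf Q) : G := ((u.out : Q) : G)

theorem repOf_mem (u : Q ⧸ Z.subgroupOf Q) : repOf u ∈ Q := u.out.2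

theorem Nondeg.exists_smul (h : Nondeg ρ Q Z) (g : Q) :
    ∃ c : K, ρ (g : G) = c • ρ (repOf (g : Q ⧸ Z.subgroupOf Q)) := by
  have h1 : ((g : Q ⧸ Z.subgroupOf Q).out)⁻¹ * g ∈ Z.subgroupOf Q :=
    QuotientGroup.eq.1 (QuotientGroup.out_eq' _)
  obtain ⟨c, hc⟩ := h.scal _ (mem_subgroupOf.1 h1)
  refine ⟨c, ?_⟩
  have e : ρ (repOf (g : Q ⧸ Z.subgroupOf Q)) * (c • 1) = ρ (g : G) := by
    rw [← hc, ← map_mul, repOf]
    simp
  rw [← e, mul_smul_comm, mul_one]

theorem Nondeg.spanQ_eq (h : Nondeg ρ Q Z) :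
    spanQ ρ Q = Submodule.span K (Set.range fun u : Q ⧸ Z.subgroupOf Q => ρ (repOf u)) := by
  refine le_antisymm (Submodule.span_le.2 ?_) (Submodule.span_mono ?_)
  · rintro _ ⟨g, hg, rfl⟩
    obtain ⟨c, hc⟩ := h.exists_smul ⟨g, hg⟩
    rw [SetLike.mem_coe, show ρ g = _ from hc]
    exact Submodule.smul_mem _ _ (Submodule.subset_span ⟨_, rfl⟩)
  · rintro _ ⟨u, rfl⟩
    exact ⟨_, repOf_mem u, rfl⟩

section Restrict

variable (W : Submodule K V) (hWi : ∀ g ∈ Q, ∀ w ∈ W, ρ g w ∈ W)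

/-- The representatives restricted to an invariant subspace. -/
noncomputable def resRep (u : Q ⧸ Z.subgroupOf Q) : Module.End K W := subRep ρ Q W hWi u.out

theorem resRep_apply (u : Q ⧸ Z.subgroupOf Q) (w : W) :
    ((resRep W hWi u w : W) : V) = ρ (repOf u) w := rfl

theorem Nondeg.linearIndependent_resRep (h : Nondeg ρ Q Z) (hW0 : W ≠ ⊥) :
    LinearIndependent K (resRep (Z := Z) W hWi) := by
  classical
  haveI : Nontrivial W := Submodule.nontrivial_iff_ne_bot.2 hW0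
  haveI : Nontrivial V := Subtype.val_injective.nontrivial (α := W)
  have hsc : ∀ g k : Q, ∃ c : K, ρ (g : G) * ρ (k : G) = c • (ρ (k : G) * ρ (g : G)) :=
    fun g k => h.twist g g.2 k k.2
  choose ε hε using hsc
  set σ := subRep ρ Q W hWi with hσ
  let F : Q → Module.End K (Module.End K W) := fun k =>
    LinearMap.mulLeft K (σ k) * LinearMap.mulRight K (σ k⁻¹)
  have hεW : ∀ g k : Q, σ g * σ k = ε g k • (σ k * σ g) := fun g k =>
    LinearMap.ext fun w => Subtype.ext (by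
      have := LinearMap.congr_fun (hε g k) (w : V)
      simpa [hσ, Module.End.mul_apply, subRep_apply] using this)
  refine CfsgLib.HallHigman.linearIndependent_weight F (resRep W hWi)
    (fun u k => ε k u.out) ?_ (fun u => mem_weight.2 fun k => ?_) (fun u => rho_ne_zero σ u.out)
  · intro u u' huu
    rw [← QuotientGroup.out_eq' u, ← QuotientGroup.out_eq' u', QuotientGroup.eq, mem_subgroupOf]
    refine h.nd _ ((u.out)⁻¹ * u'.out : Q).2 fun k hk => ?_
    set r := ((u.out)⁻¹ * u'.out : Q) with hr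
    have he : ε ⟨k, hk⟩ u.out = ε ⟨k, hk⟩ u'.out := congrFun huu ⟨k, hk⟩
    have e1 : ρ ((u.out : Q) : G) * ρ (r : G) = ρ ((u'.out : Q) : G) := by
      rw [← map_mul, hr]; simp
    have hc0 : ε ⟨k, hk⟩ u.out ≠ 0 := fun h0 => by
      have := hε ⟨k, hk⟩ u.out
      rw [h0, zero_smul, ← map_mul] at this
      exact rho_ne_zero ρ _ this
    have h2 : ε ⟨k, hk⟩ u.out • (ρ ((u.out : Q) : G) * (ρ (r : G) * ρ k)) =
        ε ⟨k, hk⟩ u.out • (ρ ((u.out : Q) : G) * (ρ k * ρ (r : G))) := by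
      conv_lhs => rw [← mul_assoc, e1, he, ← hε ⟨k, hk⟩ u'.out, ← e1, ← mul_assoc]
      rw [← mul_assoc (ρ ((u.out : Q) : G)), ← smul_mul_assoc, ← hε ⟨k, hk⟩ u.out]
    have h3 := smul_right_injective (Module.End K V) hc0 h2
    have h4 := congrArg (fun f => ρ ((u.out : Q) : G)⁻¹ * f) h3
    simpa only [← mul_assoc, ← map_mul, inv_mul_cancel, one_mul] using h4
  · show σ k * (σ u.out * σ k⁻¹) = _
    rw [← mul_assoc, hεW k u.out, smul_mul_assoc, mul_assoc, ← map_mul, mul_inv_cancel, map_one,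
      mul_one]
    rfl

theorem Nondeg.eq_zero_of_vanish [Finite Q] (h : Nondeg ρ Q Z) (hW0 : W ≠ ⊥)
    (hWi : ∀ g ∈ Q, ∀ w ∈ W, ρ g w ∈ W) {A : Module.End K V} (hA : A ∈ spanQ ρ Q)
    (h0 : ∀ w ∈ W, A w = 0) : A = 0 := by
  classical
  haveI : Fintype (Q ⧸ Z.subgroupOf Q) := Fintype.ofFinite _
  rw [h.spanQ_eq, Submodule.mem_span_range_iff_exists_fun] at hA
  obtain ⟨c, rfl⟩ := hA
  have hc := Fintype.linearIndependent_iff.1 (h.linearIndependent_resRep W hWi hW0) c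
    (LinearMap.ext fun w => Subtype.ext (by
      have := h0 w w.2
      simpa [LinearMap.sum_apply, resRep_apply] using this))
  simp [hc]

theorem Nondeg.ext_of_restrict [Finite Q] (h : Nondeg ρ Q Z) (hW0 : W ≠ ⊥)
    (hWi : ∀ g ∈ Q, ∀ w ∈ W, ρ g w ∈ W) {A B : Module.End K V} (hA : A ∈ spanQ ρ Q)
    (hB : B ∈ spanQ ρ Q) (h0 : ∀ w ∈ W, A w = B w) : A = B :=
  sub_eq_zero.1 (h.eq_zero_of_vanish W hW0 hWi (sub_mem hA hB) fun w hw => by
    rw [LinearMap.sub_apply, h0 w hw, sub_self])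

theorem exists_lift [IsAlgClosed K] [FiniteDimensional K V] (hW0 : W ≠ ⊥)
    (hWi : ∀ g ∈ Q, ∀ w ∈ W, ρ g w ∈ W)
    (hirr : ∀ W' ≤ W, (∀ g ∈ Q, ∀ w ∈ W', ρ g w ∈ W') → W' = ⊥ ∨ W' = W) (φ : Module.End K W) :
    ∃ A ∈ spanQ ρ Q, ∀ w : W, A (w : V) = (φ w : V) := by
  haveI : Nontrivial W := Submodule.nontrivial_iff_ne_bot.2 hW0
  have hirr' : ∀ W' : Submodule K W, (∀ g ∈ (⊤ : Subgroup Q),
      Submodule.map (subRep ρ Q W hWi g) W' ≤ W') → W' = ⊥ ∨ W' = ⊤ := by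
    intro W' hW'
    rcases hirr (W'.map W.subtype) (Submodule.map_subtype_le W W') (fun g hg w hw => by
      obtain ⟨u, hu, rfl⟩ := hw
      exact ⟨_, hW' ⟨g, hg⟩ (Subgroup.mem_top _) ⟨u, hu, rfl⟩, rfl⟩) with e | e
    · exact Or.inl (Submodule.map_injective_of_injective W.injective_subtype (by simpa using e))
    · exact Or.inr (Submodule.map_injective_of_injective W.injective_subtype
        (by rw [Submodule.map_subtype_top]; exact e))
  have hb := CfsgLib.HallHigman.burnside (subRep ρ Q W hWi) ⊤ hirr' φ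
  induction hb using Submodule.span_induction with
  | mem a ha =>
    obtain ⟨g, -, rfl⟩ := ha
    exact ⟨ρ (g : G), rho_mem_spanQ g.2, fun w => rfl⟩
  | zero => exact ⟨0, Submodule.zero_mem _, fun w => rfl⟩
  | add a b _ _ ha hb =>
    obtain ⟨A, hA, hA'⟩ := ha
    obtain ⟨B, hB, hB'⟩ := hb
    exact ⟨A + B, add_mem hA hB, fun w => by simp [hA', hB']⟩
  | smul t a _ ha =>
    obtain ⟨A, hA, hA'⟩ := ha
    exact ⟨t • A, Submodule.smul_mem _ _ hA, fun w => by simp [hA']⟩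

/-- The representatives form a basis of the endomorphisms of an irreducible invariant subspace. -/
theorem Nondeg.exists_basis [IsAlgClosed K] [FiniteDimensional K V] [Finite Q] (h : Nondeg ρ Q Z)
    (hW0 : W ≠ ⊥) (hirr : ∀ W' ≤ W, (∀ g ∈ Q, ∀ w ∈ W', ρ g w ∈ W') → W' = ⊥ ∨ W' = W) :
    ∃ b : Module.Basis (Q ⧸ Z.subgroupOf Q) K (Module.End K W), (∀ u, b u = resRep W hWi u) ∧
      Nat.card (Q ⧸ Z.subgroupOf Q) = Module.finrank K W ^ 2 := by
  classical
  haveI : Fintype (Q ⧸ Z.subgroupOf Q) := Fintype.ofFinite _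
  have hsp : (⊤ : Submodule K (Module.End K W)) ≤
      Submodule.span K (Set.range (resRep (Z := Z) W hWi)) := by
    intro φ _
    obtain ⟨A, hA, hA'⟩ := exists_lift W hW0 hWi hirr φ
    rw [h.spanQ_eq, Submodule.mem_span_range_iff_exists_fun] at hA
    obtain ⟨c, rfl⟩ := hA
    rw [Submodule.mem_span_range_iff_exists_fun]
    refine ⟨c, LinearMap.ext fun w => Subtype.ext ?_⟩
    rw [← hA' w]
    simp [LinearMap.sum_apply, resRep_apply]
  refine ⟨Module.Basis.mk (h.linearIndependent_resRep W hWi hW0) hsp, fun u => by simp, ?_⟩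
  rw [← Module.finrank_eq_nat_card_basis (Module.Basis.mk (h.linearIndependent_resRep W hWi hW0) hsp),
    pow_two]
  exact Module.finrank_linearMap K K W W

/-- A normalising element acts on the span by an inner automorphism. -/
theorem Nondeg.exists_inner [IsAlgClosed K] [FiniteDimensional K V] [Finite Q] (h : Nondeg ρ Q Z)
    (hW0 : W ≠ ⊥) (hWi : ∀ g ∈ Q, ∀ w ∈ W, ρ g w ∈ W)
    (hirr : ∀ W' ≤ W, (∀ g ∈ Q, ∀ w ∈ W', ρ g w ∈ W') → W' = ⊥ ∨ W' = W)
    (x : G) (hxQ : x ∈ normalizer (Q : Set G)) (N : ℕ) (hN : 0 < N) (hx : x ^ N = 1) :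
    ∃ X ∈ spanQ ρ Q, X ^ N = 1 ∧ ∀ A ∈ spanQ ρ Q, Commute (X ^ (N - 1) * ρ x) A := by
  classical
  haveI : Nontrivial W := Submodule.nontrivial_iff_ne_bot.2 hW0
  choose L hLmem hLapp using exists_lift (ρ := ρ) W hW0 hWi hirr
  have uniq : ∀ {A B : Module.End K V}, A ∈ spanQ ρ Q → B ∈ spanQ ρ Q →
      (∀ w ∈ W, A w = B w) → A = B := fun hA hB h0 => h.ext_of_restrict W hW0 hWi hA hB h0
  have hLone : L 1 = 1 := uniq (hLmem 1) one_mem_spanQ fun w hw => hLapp 1 ⟨w, hw⟩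
  have hLmul : ∀ φ ψ, L (φ * ψ) = L φ * L ψ := fun φ ψ =>
    uniq (hLmem _) (mul_mem_spanQ (hLmem _) (hLmem _)) fun w hw => by
      rw [hLapp (φ * ψ) ⟨w, hw⟩, Module.End.mul_apply, Module.End.mul_apply, hLapp ψ ⟨w, hw⟩,
        hLapp φ (ψ ⟨w, hw⟩)]
  have hLsmul : ∀ (t : K) φ, L (t • φ) = t • L φ := fun t φ =>
    uniq (hLmem _) (Submodule.smul_mem _ _ (hLmem _)) fun w hw => by
      rw [hLapp (t • φ) ⟨w, hw⟩, LinearMap.smul_apply, LinearMap.smul_apply, hLapp φ ⟨w, hw⟩]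
      rfl
  have hLadd : ∀ φ ψ, L (φ + ψ) = L φ + L ψ := fun φ ψ =>
    uniq (hLmem _) (add_mem (hLmem _) (hLmem _)) fun w hw => by
      rw [hLapp (φ + ψ) ⟨w, hw⟩, LinearMap.add_apply, LinearMap.add_apply, hLapp φ ⟨w, hw⟩,
        hLapp ψ ⟨w, hw⟩]
      rfl
  have hconj : ∀ y ∈ normalizer (Q : Set G), ∀ A ∈ spanQ ρ Q, ρ y * A * ρ y⁻¹ ∈ spanQ ρ Q := by
    intro y hy A hA
    induction hA using Submodule.span_induction with
    | mem a ha =>
      obtain ⟨g, hg, rfl⟩ := ha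
      rw [← map_mul, ← map_mul]
      exact rho_mem_spanQ ((mem_normalizer_iff.1 hy g).1 hg)
    | zero => rw [mul_zero, zero_mul]; exact Submodule.zero_mem _
    | add a b _ _ ha hb => rw [mul_add, add_mul]; exact add_mem ha hb
    | smul t a _ ha => rw [mul_smul_comm, smul_mul_assoc]; exact Submodule.smul_mem _ _ ha
  let r : ∀ A : Module.End K V, A ∈ spanQ ρ Q → Module.End K W := fun A hA =>
    A.restrict fun w hw => spanQ_map_mem hWi hA hw
  have hLr : ∀ A (hA : A ∈ spanQ ρ Q), L (r A hA) = A := fun A hA =>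
    uniq (hLmem _) hA fun w hw => hLapp (r A hA) ⟨w, hw⟩
  have hrL : ∀ φ, r (L φ) (hLmem φ) = φ := fun φ =>
    LinearMap.ext fun w => Subtype.ext (hLapp φ w)
  have hcast : ∀ {A B : Module.End K V} (hA : A ∈ spanQ ρ Q) (hB : B ∈ spanQ ρ Q), A = B →
      r A hA = r B hB := fun _ _ e => by subst e; rfl
  have hinj : ∀ φ ψ, L φ = L ψ → φ = ψ := fun φ ψ e => by rw [← hrL φ, ← hrL ψ]; exact hcast (hLmem φ) (hLmem ψ) e
  let f : Module.End K W → Module.End K W := fun φ => r _ (hconj x hxQ (L φ) (hLmem φ))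
  have hLf : ∀ φ, L (f φ) = ρ x * L φ * ρ x⁻¹ := fun φ => hLr (ρ x * L φ * ρ x⁻¹) (hconj x hxQ (L φ) (hLmem φ))
  let fa : Module.End K W →ₐ[K] Module.End K W :=
    AlgHom.ofLinearMap
      { toFun := f
        map_add' := fun φ ψ => hinj _ _ (by rw [hLadd, hLf, hLf, hLf, hLadd, mul_add, add_mul])
        map_smul' := fun t φ => hinj _ _ (by
          rw [RingHom.id_apply, hLsmul, hLf, hLf, hLsmul, mul_smul_comm, smul_mul_assoc]) }
      (hinj _ _ (by
        show L (f 1) = L 1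
        rw [hLf, hLone, mul_one, ← map_mul, mul_inv_cancel, map_one]))
      (fun φ ψ => hinj _ _ (by
        show L (f (φ * ψ)) = L (f φ * f ψ)
        rw [hLmul, hLf, hLf, hLf, hLmul]
        simp only [mul_assoc]
        rw [← mul_assoc (ρ x⁻¹) (ρ x), ← map_mul, inv_mul_cancel, map_one, one_mul]))
  have hbij : Function.Bijective fa := by
    refine ⟨fun φ ψ e => hinj _ _ ?_, fun ψ => ⟨r _ (hconj x⁻¹ (inv_mem hxQ) (L ψ) (hLmem ψ)), ?_⟩⟩
    · have e1 : ρ x * L φ * ρ x⁻¹ = ρ x * L ψ * ρ x⁻¹ :=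
        (hLf φ).symm.trans ((congrArg L e).trans (hLf ψ))
      have e2 := congrArg (fun A => ρ x⁻¹ * A * ρ x) e1
      simpa only [← mul_assoc, ← map_mul, inv_mul_cancel, map_one, one_mul, mul_one,
        mul_assoc (L φ), mul_assoc (L ψ)] using e2
    · refine hinj _ _ ?_
      show L (f _) = L ψ
      rw [hLf, hLr _ (hconj x⁻¹ (inv_mem hxQ) (L ψ) (hLmem ψ)), inv_inv]
      simp only [← mul_assoc, ← map_mul, mul_inv_cancel, map_one, one_mul]
      rw [mul_assoc, ← map_mul, mul_inv_cancel, map_one, mul_one]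
  obtain ⟨T, hT⟩ := (AlgEquiv.ofBijective fa hbij).eq_linearEquivConjAlgEquiv
  have hT' : ∀ φ, f φ = (T : W →ₗ[K] W) * φ * (T.symm : W →ₗ[K] W) := fun φ => by
    have := DFunLike.congr_fun hT φ
    rw [LinearEquiv.conjAlgEquiv_apply] at this
    exact this.trans rfl
  set X₀ := L (T : W →ₗ[K] W) with hX₀
  set X₁ := L (T.symm : W →ₗ[K] W) with hX₁
  have h01 : X₀ * X₁ = 1 := by
    rw [hX₀, hX₁, ← hLmul, ← hLone]
    exact congrArg L (LinearMap.ext fun w => T.apply_symm_apply w)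
  have h10 : X₁ * X₀ = 1 := by
    rw [hX₀, hX₁, ← hLmul, ← hLone]
    exact congrArg L (LinearMap.ext fun w => T.symm_apply_apply w)
  have hXA : ∀ A ∈ spanQ ρ Q, ρ x * A * ρ x⁻¹ = X₀ * A * X₁ := fun A hA => by
    rw [hX₀, hX₁, ← hLr A hA, ← hLmul, ← hLmul, ← hT', hLf]
  have hiter : ∀ i, ∀ A ∈ spanQ ρ Q, ρ (x ^ i) * A * ρ (x ^ i)⁻¹ = X₀ ^ i * A * X₁ ^ i := by
    intro i
    induction i with
    | zero => intro A _; simp
    | succ i ih =>
      intro A hA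
      rw [pow_succ x, mul_inv_rev, map_mul, map_mul, pow_succ X₀, pow_succ' X₁,
        show ρ (x ^ i) * ρ x * A * (ρ x⁻¹ * ρ (x ^ i)⁻¹) =
          ρ (x ^ i) * (ρ x * A * ρ x⁻¹) * ρ (x ^ i)⁻¹ by simp only [mul_assoc],
        hXA A hA, ih _ (mul_mem_spanQ (mul_mem_spanQ (hLmem _) hA) (hLmem _))]
      simp only [hX₀, hX₁, mul_assoc]
  have h10N : X₁ ^ N * X₀ ^ N = 1 := by
    rw [← Commute.mul_pow (by rw [Commute, SemiconjBy, h01, h10]), h10, one_pow]
  have hcen : ∀ A ∈ spanQ ρ Q, X₀ ^ N * A = A * X₀ ^ N := fun A hA => by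
    have := hiter N A hA
    rw [hx, inv_one, map_one, one_mul, mul_one] at this
    conv_rhs => rw [this, mul_assoc, h10N, mul_one]
  have hsc : ∃ c : K, ∀ w : W, (X₀ ^ N) (w : V) = c • (w : V) := by
    obtain ⟨c, hc⟩ := CfsgLib.HallHigman.schur (subRep ρ Q W hWi) ⊤ (f := r _ (pow_mem_spanQ (hLmem _) N))
      (fun W' hW' => by
        rcases hirr (W'.map W.subtype) (Submodule.map_subtype_le W W') (fun g hg w hw => by
          obtain ⟨u, hu, rfl⟩ := hw
          exact ⟨_, hW' ⟨g, hg⟩ (Subgroup.mem_top _) ⟨u, hu, rfl⟩, rfl⟩) with e | e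
        · exact Or.inl (Submodule.map_injective_of_injective W.injective_subtype (by simpa using e))
        · exact Or.inr (Submodule.map_injective_of_injective W.injective_subtype
            (by rw [Submodule.map_subtype_top]; exact e)))
      (fun g _ => LinearMap.ext fun w => Subtype.ext
        (LinearMap.congr_fun (hcen _ (rho_mem_spanQ (g : Q).2)) (w : V)))
    exact ⟨c, fun w => congrArg Subtype.val (LinearMap.congr_fun hc w)⟩
  obtain ⟨c, hc⟩ := hsc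
  have hcX : X₀ ^ N = c • 1 := uniq (pow_mem_spanQ (hLmem _) N)
    (Submodule.smul_mem _ _ one_mem_spanQ) fun w hw => by
      rw [hc ⟨w, hw⟩]; rfl
  haveI : Nontrivial V := Subtype.val_injective.nontrivial (α := W)
  have hc0 : c ≠ 0 := fun h0 => by
    rw [h0, zero_smul] at hcX
    rw [hcX, mul_zero] at h10N
    exact zero_ne_one h10N
  obtain ⟨μ, hμ⟩ := IsAlgClosed.exists_pow_nat_eq c hN
  have hμ0 : μ ≠ 0 := fun h0 => hc0 (by rw [← hμ, h0, zero_pow hN.ne'])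
  refine ⟨μ⁻¹ • X₀, Submodule.smul_mem _ _ (hLmem _), ?_, fun A hA => ?_⟩
  · rw [smul_pow, hcX, smul_smul, inv_pow, hμ, inv_mul_cancel₀ hc0, one_smul]
  · have hX : (μ⁻¹ • X₀) ^ (N - 1) = μ • X₁ := by
      refine left_inv_eq_right_inv (a := μ⁻¹ • X₀) ?_ ?_
      · rw [← pow_succ, Nat.sub_add_cancel hN, smul_pow, hcX, smul_smul, inv_pow, hμ,
          inv_mul_cancel₀ hc0, one_smul]
      · rw [smul_mul_assoc, mul_smul_comm, h01, smul_smul, inv_mul_cancel₀ hμ0, one_smul]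
    have h1 : ρ x * A = X₀ * A * X₁ * ρ x := by
      rw [← hXA A hA, mul_assoc (ρ x * A), ← map_mul, inv_mul_cancel, map_one, mul_one]
    show (μ⁻¹ • X₀) ^ (N - 1) * ρ x * A = A * ((μ⁻¹ • X₀) ^ (N - 1) * ρ x)
    rw [hX, smul_mul_assoc, smul_mul_assoc, mul_smul_comm, mul_assoc X₁, h1, ← mul_assoc,
      ← mul_assoc, ← mul_assoc, h10, one_mul, mul_assoc]

end Restrict

end CfsgLib.GrossTwo
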